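import Cfsg.Agent.H97.GaBas
import Cfsg.Agent.S3099
import Cfsg.Agent.S0102
import Cfsg.Agent.H7.GWCons
import Cfsg.Agent.H42.OddOrder
import Cfsg.Agent.H2.MinNormal

/-! GAG tower (S4841): the perfect residual is `SL₂(q)` or the double cover of `A₇`. -/

set_option autoImplicit false

namespace H97.Ga

universe u v

theorem le_center_of_cyclic {X : Type*} [Group X] [Group.IsPerfect X] (M : Subgroup X) [M.Normal]
    [hM : IsCyclic M] : M ≤ Subgroup.center X := by
  let _ := (hM.mulAutMulEquiv _).toMonoidHom.commGroupOfInjective (hM.mulAutMulEquiv _).injective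
  have h1 : commutator X ≤ (MulAut.conjNormal (H := M)).ker := Abelianization.commutator_subset_ker _
  rw [Group.IsPerfect.commutator_eq_top] at h1
  intro m hm
  rw [Subgroup.mem_center_iff]
  intro g
  have h2 : MulAut.conjNormal g (⟨m, hm⟩ : M) = ⟨m, hm⟩ := by
    rw [MonoidHom.mem_ker.1 (h1 (Subgroup.mem_top g))]; rfl
  have h3 : g * m * g⁻¹ = m := congrArg Subtype.val h2
  rw [← mul_inv_eq_iff_eq_mul, h3]

theorem jobL : JobL.{u, v} := by
  intro p hp H _ _ V _ _ _ _ ρ hp2 h
  obtain ⟨L, hLn, hLL, hL1⟩ := H7.GW.exists_perfect_of_nonsolv h.ns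
  have hperf : Group.IsPerfect L := Subgroup.isPerfect_iff.2 hLL
  have hnt : Nontrivial L := (Subgroup.nontrivial_iff_ne_bot L).2 hL1
  have hfp : FP p (V := V) (ρ.comp L.subtype) := (h.sr.comp_normal L).fp
  have hi : Function.Injective (ρ.comp L.subtype) := h.inj.comp L.subtype_injective
  have heven : Even (Nat.card L) := by
    by_contra hodd
    exact Group.IsPerfect.not_isSolvable L (H42.odd_order (Nat.not_even_iff_odd.1 hodd))
  have hrank : Cfsg.PRankLE 2 1 L := fun A _ hA => by
    by_cases hA1 : ∃ z ∈ A, z ≠ 1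
    · obtain ⟨z, hz, hz1⟩ := hA1
      have h1 : Nat.card A ≤ Nat.card ({1, z} : Set L) :=
        Nat.card_le_card_of_injective (fun y => ⟨y.1, by
          by_cases h2 : y.1 = 1
          · exact Or.inl h2
          · exact Or.inr (inv_unique hi hfp hp2 (orderOf_eq_prime (hA _ y.2) h2)
              (orderOf_eq_prime (hA _ hz) hz1))⟩)
          fun a b hab => Subtype.ext (Subtype.mk.inj hab)
      rw [Nat.card_coe_set_eq, Set.ncard_pair hz1.symm] at h1
      simpa using h1
    · push Not at hA1
      rw [(Subgroup.eq_bot_iff_forall A).2 hA1, Subgroup.card_bot]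
      norm_num
  have hO : Cfsg.oddCore L = ⊥ := by
    by_contra hne
    set O := Cfsg.oddCore L with hOdef
    have hodd : Odd (Nat.card O) := H2.odd_card_oddCore L
    have := H42.odd_order hodd
    have : Nontrivial O := (Subgroup.nontrivial_iff_ne_bot O).2 hne
    obtain ⟨r, hr, hr1⟩ := H2.exists_pCore_ne_bot O
    have := Fact.mk hr
    have : O.Characteristic := H2.pPrimeCore_characteristic 2 L
    set M := (Cfsg.pCore r O).map O.subtype with hM
    have hMr : IsPGroup r M := (H2.pCore_isPGroup r O).map _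
    have hM1 : M ≠ ⊥ := fun e =>
      hr1 ((Subgroup.map_eq_bot_iff_of_injective _ O.subtype_injective).1 e)
    have hMc : M.Characteristic := inferInstance
    have hdvd : r ∣ Nat.card M := by
      obtain ⟨n, hn⟩ := IsPGroup.iff_card.1 hMr
      rw [hn]
      refine dvd_pow_self r fun h0 => hM1 ?_
      rw [h0, pow_zero] at hn
      exact Subgroup.card_eq_one.1 hn
    have hr2 : r ≠ 2 := by
      rintro rfl
      exact (Nat.not_even_iff_odd.2 hodd) (even_iff_two_dvd.2
        (hdvd.trans (Subgroup.card_dvd_of_le (Subgroup.map_subtype_le _))))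
    have hrp : r ≠ p := by
      rintro rfl
      have h1 : M.map L.subtype ≤ Cfsg.pCore r H := le_sSup ⟨inferInstance, hMr.map _⟩
      rw [h.core, le_bot_iff, Subgroup.map_eq_bot_iff_of_injective _ L.subtype_injective] at h1
      exact hM1 h1
    have := hfp.isCyclic hr2 hrp hMr
    refine Cfsg.Agent.S0102.result (G := L ⧸ M) (H := L) Group.IsPerfect.commutator_eq_top (p := r)
      (fun P => ?_) (QuotientGroup.mk' M) (QuotientGroup.mk'_surjective M)
      (by rw [QuotientGroup.ker_mk']; exact le_center_of_cyclic M)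
      Group.IsPerfect.commutator_eq_top (by rw [QuotientGroup.ker_mk']; exact hdvd)
    obtain ⟨Q, rfl⟩ := Sylow.mapSurjective_surjective (QuotientGroup.mk'_surjective M) r P
    have := hfp.isCyclic hr2 hrp Q.isPGroup'
    exact isCyclic_of_surjective ((QuotientGroup.mk' M).subgroupMap Q)
      ((QuotientGroup.mk' M).subgroupMap_surjective Q)
  have e : (L ⧸ Cfsg.oddCore L) ≃* L :=
    (QuotientGroup.quotientMulEquivOfEq hO).trans QuotientGroup.quotientBot
  refine ⟨L, hLn, ?_⟩
  rcases Cfsg.Agent.S3099.result hperf hrank heven with ⟨F, _, _, h1, h2, ⟨f⟩⟩ | ⟨h1, ⟨f⟩, h3⟩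
  · exact Or.inl ⟨F, _, _, h1, h2, ⟨e.symm.trans f⟩⟩
  · have hc : (Subgroup.center (L ⧸ Cfsg.oddCore L)).map e.toMonoidHom = Subgroup.center L := by
      ext x
      constructor
      · rintro ⟨y, hy, rfl⟩
        refine Subgroup.mem_center_iff.2 fun g => ?_
        obtain ⟨g, rfl⟩ := e.surjective g
        change e g * e y = e y * e g
        rw [← map_mul, ← map_mul, Subgroup.mem_center_iff.1 hy]
      · intro hx
        refine ⟨e.symm x, Subgroup.mem_center_iff.2 fun g => e.injective ?_, e.apply_symm_apply x⟩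
        rw [map_mul, map_mul, e.apply_symm_apply, Subgroup.mem_center_iff.1 hx]
    refine Or.inr ⟨?_, ⟨(QuotientGroup.congr _ _ e hc).symm.trans f⟩, fun K hK => ?_⟩
    · rw [← hc, Subgroup.card_map_of_injective e.injective, h1]
    · refine h3 (K.comap e.toMonoidHom) ?_
      rw [Subgroup.isComplement'_iff_card_mul_and_disjoint] at hK ⊢
      refine ⟨?_, ?_⟩
      · rw [Nat.card_congr e.toEquiv, ← hK.1, ← hc, Subgroup.card_map_of_injective e.injective,
          Subgroup.comap_equiv_eq_map_symm', Subgroup.card_map_of_injective e.symm.injective]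
      · rw [Subgroup.disjoint_def]
        intro x hx hxK
        exact e.injective (by
          rw [map_one]; exact Subgroup.disjoint_def.1 hK.2 (hc ▸ ⟨x, hx, rfl⟩) hxK)

end H97.Ga
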