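import Cfsg.Agent.H97.GaAsm
import Cfsg.Agent.H97.GaL
import Cfsg.Agent.H97.GaRed
import Cfsg.Agent.H1.GaX3
import Cfsg.Agent.H31.GaDef
import Cfsg.Agent.H31.GaOut
import Cfsg.Agent.H31.GaSyl3
import Cfsg.Agent.H20.GaP3
import Cfsg.Agent.H35.GaA
import Cfsg.Agent.H6.GaBC
import Cfsg.Agent.H61.GaC2

/-! GAG tower (S4841): everything except the case `p = 2`. -/

set_option autoImplicit false

namespace H97.Ga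

universe u

theorem s4841_of_two (h2 : JobTwo.{u}) {G : Type u} [Group G] [Finite G]
    (hns : ¬ Group.IsSolvable G) (χ : Cfsg.IrrCharacter G)
    (hχ : Nat.card {C : ConjClasses G // ∃ g ∈ C.carrier, (χ : G → ℂ) g ≠ 0} = 2) :
    ∃ p : ℕ, p.Prime ∧ (∀ q : ℕ, q.Prime → (Cfsg.pCore q G ≠ ⊥ ↔ q = p)) ∧
      (Br1 p (G ⧸ Cfsg.pCore p G) ∨ (p = 3 ∧ Br2 (G ⧸ Cfsg.pCore p G)) ∨
        (p = 3 ∧ Nonempty ((G ⧸ Cfsg.pCore p G) ≃* SL2 (ZMod 13))) ∨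
        (p = 11 ∧ Nonempty ((G ⧸ Cfsg.pCore p G) ≃* SL2 (ZMod 5))) ∨
        (p = 29 ∧ Nonempty ((G ⧸ Cfsg.pCore p G) ≃* SL2 (ZMod 5) × Multiplicative (ZMod 7))) ∨
        (p = 59 ∧ Nonempty ((G ⧸ Cfsg.pCore p G) ≃* SL2 (ZMod 5) × Multiplicative (ZMod 29)))) :=
  s4841_of jobRed h2 jobL H20.Ga.jobA7 H1.GaX.jobX3 H31.GaDef.jobDEF
    (H20.Ga.jobP3 H31.GaSyl3.jobSYL3) (H35.Ga.jobA H31.GaOut.jobOUT) (H6.Ga.jobB H31.GaOut.jobOUT)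
    (H6.Ga.jobC H31.GaOut.jobOUT H61.GaC.jobC2) hns χ hχ

end H97.Ga
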