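import Cfsg.Agent.H97.QTJB
import Cfsg.Agent.H97.QTSpec

/-! A common normal 2-subgroup for a minimal parabolic and the normalizer of a 2-group (row S1823). -/

set_option autoImplicit false

namespace H97.QT

open Cfsg Subgroup H98
open scoped commutatorElement

universe u

variable {G : Type u} [Group G] [Finite G]

theorem exists_odd_pow_two {a : G} : ∃ j e : ℕ, (a ^ (2 * j + 1)) ^ 2 ^ e = 1 := by
  obtain ⟨e, m, hm, h⟩ := Nat.exists_eq_two_pow_mul_odd (orderOf_pos a).ne'
  obtain ⟨j, rfl⟩ := hm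
  exact ⟨j, e, by rw [← pow_mul, mul_comm, ← h, pow_orderOf_eq_one]⟩

/-- All conjugates of the module of a rank one block under a group `N` normalizing `B` commute, if the conjugates
under a Sylow subgroup `T` of `N` do and centralizers of central elements of `T` behave like groups of
characteristic 2. -/
theorem JB.all_comm {N T B F U : Subgroup G} {q : ℕ} (h : JB B F U q) (hT : IsSyl 2 T N)
    (hN : N ≤ normalizer (B : Set G)) (hBT : B ≤ T)
    (h1 : ∀ t ∈ T, H98.cj t U ≤ centralizer (U : Set G))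
    (hE : ∀ z ∈ B, z ≠ 1 → z ∈ centralizer (T : Set G) → z ∈ centralizer (F : Set G) →
      U ≤ pCoreOf 2 (normalizer (zpowers z : Set G))) :
    ∀ n ∈ N, H98.cj n U ≤ centralizer (U : Set G) := by
  have : Fact (Nat.Prime 2) := ⟨Nat.prime_two⟩
  intro n0 hn0
  by_contra nc0
  have J : ∀ n ∈ N, JB B (H98.cj n F) (H98.cj n U) q := fun n hn => h.of_mem (hN hn)
  set C0 := B ⊓ centralizer (U : Set G) with hC0
  have cC : ∀ n ∈ N, H98.cj n C0 = B ⊓ centralizer (H98.cj n U : Set G) := fun n hn => by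
    rw [hC0, cj_inf, cj_centralizer, cj_eq_self (hN hn)]
  set C1 := H98.cj n0 C0 with hC1
  -- neighbours of `U`
  have nb : ∀ n ∈ N, ¬ H98.cj n U ≤ centralizer (U : Set G) → H98.cj n C0 = C1 := fun n hn nc => by
    rw [hC1, cC n hn, cC n0 hn0]
    exact h.cent_eq (J n hn) (J n0 hn0) nc nc0
  have nb' : ∀ n ∈ N, H98.cj n C0 = C1 → ¬ H98.cj n U ≤ centralizer (U : Set G) := fun n hn e x => by
    apply nc0
    have y : U ≤ H98.cj n C0 := by
      rw [cC n hn]; exact le_inf h.UB (le_centralizer_iff.1 x)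
    rw [e, hC1, cC n0 hn0] at y
    exact le_centralizer_iff.1 (y.trans inf_le_right)
  have ncm : ∀ n, ¬ H98.cj (n * n0) U ≤ centralizer (H98.cj n U : Set G) := fun n x => by
    rw [← cj_cj, ← cj_centralizer, cj_le_cj_iff] at x
    exact nc0 x
  have sw : ∀ n ∈ N, H98.cj n C0 = C1 → H98.cj n C1 = C0 := fun n hn e => by
    rw [hC1, cj_cj, cC _ (N.mul_mem hn hn0), hC0]
    exact (J n hn).cent_eq (J _ (N.mul_mem hn hn0)) h (ncm n)
      (fun x => nb' n hn e (le_centralizer_iff.1 x))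
  have fi : ∀ n ∈ N, H98.cj n C0 = C0 → H98.cj n C1 = C1 := fun n hn e => by
    rw [hC1, cj_cj]
    apply nb _ (N.mul_mem hn hn0)
    intro x
    apply ncm n
    have y : H98.cj (n * n0) U ≤ H98.cj n C0 := by
      rw [e]; exact le_inf (J _ (N.mul_mem hn hn0)).UB x
    rw [cC n hn] at y
    exact y.trans inf_le_right
  have s0 : H98.cj n0 C1 = C0 := sw n0 hn0 rfl
  have sw' : ∀ n ∈ N, H98.cj n C1 = C0 → H98.cj n C0 = C1 := fun n hn e => by
    have := fi _ (N.mul_mem hn hn0) (by rw [← cj_cj]; exact e)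
    rwa [← cj_cj, s0] at this
  have fi' : ∀ n ∈ N, H98.cj n C1 = C1 → H98.cj n C0 = C0 := fun n hn e => by
    have := sw _ (N.mul_mem hn hn0) (by rw [← cj_cj]; exact e)
    rwa [← cj_cj, s0] at this
  by_cases hc : ∀ n ∈ N, ∃ t ∈ T, H98.cj (t * n) C0 = C0 ∨ H98.cj (t * n) C0 = C1
  · obtain ⟨j, e, he⟩ := exists_odd_pow_two (a := n0)
    have hy : ∀ j : ℕ, H98.cj (n0 ^ (2 * j + 1)) C0 = C1 := by
      intro j
      induction j with
      | zero => simp [hC1]
      | succ j ih =>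
        have : n0 ^ (2 * (j + 1) + 1) = n0 * n0 * n0 ^ (2 * j + 1) := by
          rw [show 2 * (j + 1) + 1 = 1 + 1 + (2 * j + 1) by ring, pow_add, pow_add, pow_one]
        rw [this, ← cj_cj, ← cj_cj, ih, s0]
    set y := n0 ^ (2 * j + 1) with hyy
    have hyN : y ∈ N := N.pow_mem hn0 _
    obtain ⟨g, hg, hgT⟩ := hT.exists_cj_le (isPGroup_zpowers he) ((zpowers_le).2 hyN)
    have hgy : g * y * g⁻¹ ∈ T := hgT (conj_mem_cj (mem_zpowers y))
    obtain ⟨t, ht, hs⟩ := hc g hg
    have hsN : t * g ∈ N := N.mul_mem (hT.le ht) hg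
    have hyT : t * g * y * (t * g)⁻¹ ∈ T := by
      have : t * g * y * (t * g)⁻¹ = t * (g * y * g⁻¹) * t⁻¹ := by group
      rw [this]; exact T.mul_mem (T.mul_mem ht hgy) (T.inv_mem ht)
    apply nb' _ (hT.le hyT) _ (h1 _ hyT)
    rw [← cj_cj, ← cj_cj]
    rcases hs with hs | hs
    · have a : H98.cj (t * g)⁻¹ C0 = C0 := by
        conv_lhs => rw [← hs]
        rw [cj_inv_cj]
      rw [a, hy j, fi _ hsN hs]
    · have a : H98.cj (t * g)⁻¹ C0 = C1 := by
        conv_lhs => rw [← sw _ hsN hs]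
        rw [cj_inv_cj]
      rw [a, sw _ hyN (hy j), hs]
  · push Not at hc
    obtain ⟨n, hn, hs⟩ := hc
    let S : Set G := {m | m ∈ N ∧ ∀ t ∈ T, H98.cj (t * m) C0 ≠ C0 ∧ H98.cj (t * m) C0 ≠ C1}
    let W : Subgroup G := ⨆ m : S, H98.cj (m : G) U
    have hle : ∀ m ∈ S, H98.cj m U ≤ W := fun m hm => le_iSup (fun m : S => H98.cj (m : G) U) ⟨m, hm⟩
    have hnS : n ∈ S := ⟨hn, hs⟩
    have hnS' : n * n0 ∈ S := by
      refine ⟨N.mul_mem hn hn0, fun t ht => ?_⟩
      have htn : t * n ∈ N := N.mul_mem (hT.le ht) hn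
      rw [← mul_assoc, ← cj_cj]
      exact ⟨fun x => (hs t ht).2 (sw' _ htn x), fun x => (hs t ht).1 (fi' _ htn x)⟩
    have hTW : T ≤ normalizer (W : Set G) := by
      intro t ht
      apply mem_normalizer_of_cj_le
      rw [cj_le_iff]
      refine iSup_le fun m => ?_
      rw [← cj_le_iff, cj_cj]
      refine hle _ ⟨N.mul_mem (hT.le ht) m.2.1, fun t' ht' => ?_⟩
      rw [← mul_assoc]
      exact m.2.2 _ (T.mul_mem ht' ht)
    have W0 : W ≤ C0 := by
      refine iSup_le fun m => le_inf (J _ m.2.1).UB ?_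
      by_contra x
      exact (m.2.2 1 T.one_mem).2 (by rw [one_mul]; exact nb _ m.2.1 x)
    have W1 : W ≤ B ⊓ centralizer (H98.cj n0 U : Set G) := by
      refine iSup_le fun m => le_inf (J _ m.2.1).UB ?_
      by_contra x
      apply (m.2.2 1 T.one_mem).1
      rw [one_mul, cC _ m.2.1, hC0]
      exact (J n0 hn0).cent_eq (J _ m.2.1) h x (fun y => nc0 (le_centralizer_iff.1 y))
    have hWB : ⁅W, W⁆ ≤ B := commutator_le_of_le (W0.trans inf_le_left) (W0.trans inf_le_left)
    have hne : ⁅W, W⁆ ≠ ⊥ := by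
      intro x
      rw [commutator_eq_bot_iff_le_centralizer] at x
      exact ncm n ((hle _ hnS').trans (x.trans (centralizer_anti (hle _ hnS))))
    have hz := inf_centralizer_ne_bot (hT.isPGroup.to_le (hWB.trans hBT)) hT.isPGroup
      (le_normalizer_commutator hTW hTW) hne
    obtain ⟨z, hz⟩ := Subgroup.ne_bot_iff_exists_ne_one.1 hz
    have hz1' : (z : G) ≠ 1 := fun x => hz (Subtype.ext x)
    have hU := hE z (hWB z.2.1) hz1' z.2.2 (h.phi_le W0 z.2.1)
    have hF : H98.cj n0 F ≤ normalizer (zpowers (z : G) : Set G) := by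
      apply le_normalizer_of_le_centralizer
      rw [← le_centralizer_iff, zpowers_le]
      exact (J n0 hn0).phi_le W1 z.2.1
    apply nc0
    rw [← le_centralizer_iff]
    refine le_trans ?_ ((J n0 hn0).pn (pCoreOf 2 (normalizer (zpowers (z : G) : Set G)) ⊓
      normalizer (H98.cj n0 F : Set G)) ((isPGroup_pCoreOf _).to_le inf_le_left) inf_le_right
      (le_normalizer_inf (le_normalizer_pCoreOf_of_le hF) (le_normalizer_normalizer le_normalizer)))
    exact le_inf hU (h.UB.trans (J n0 hn0).nF)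

theorem yd_jb {B L Y : Subgroup G} {q : ℕ} (y : YD 2 q B L Y) {M : Type*} [AddCommGroup M]
    {s : Sec M (bU 2 (res 2 L)) (bY 2 (res 2 L))} {S : Subgroup (Au M)} (d : BD 2 B (res 2 L) s S) :
    JB B (res 2 L) (bU 2 (res 2 L)) q := by
  have : Fact (Nat.Prime 2) := ⟨Nat.prime_two⟩
  have e : B ⊓ centralizer (bU 2 (res 2 L) : Set G) = pCoreOf 2 L :=
    le_antisymm (y.le_O (inf_le_left.trans y.syl.le) inf_le_right) (le_inf y.OB y.O_cent)
  have nF : B ≤ normalizer (res 2 L : Set G) := le_normalizer_res_of_le y.syl.le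
  have hW : pCoreOf 2 (res 2 L) = bW 2 (res 2 L) := by
    rcases d.typ with h | ⟨F, _, _, n, s', x, -⟩
    · exact h
    · exact absurd x.three (by norm_num)
  have hV : bU 2 (res 2 L) ⊔ H52.Cv 2 L = H52.Vv 2 L := by
    refine (y.vtx.spr.irred le_sup_right (sup_le y.U_le inf_le_left)
      (le_normalizer_sup (nrm_bU (self_le_normalizer_res L)) (H52.n_Cv L))).resolve_left fun x => ?_
    exact d.U_not_le ((le_sup_left.trans x.le).trans (inf_le_right.trans (centralizer_anti (res_le L))))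
  refine ⟨y.U_le.trans ((H52.Vv_le_Q L).trans y.OB), H12.ea_le_centralizer (ea_bU _),
    fun u hu => by rw [← sq]; exact y.vtx.el u (y.U_le hu), nF, nrm_bU nF, ?_, ?_, ?_, ?_,
    fun X h1 h2 h3 => d.pnorm h1 h2 h3⟩
  · rw [e, ← commutator_commutator_of_res_eq (isPGroup_pCoreOf L)
      (le_normalizer_pCoreOf_of_le (res_le L)) (res_res L)]
    refine commutator_mono ?_ le_rfl
    rw [← hW, commutator_comm]
    exact d.comm_le (y.OB.trans nF) y.O_cent
  · rw [← inf_relIndex_right, inf_comm, e, y.idxB]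
  · have h1 := y.vtx.spr.relIndex1 y.syl
    rw [y.vtx.fxz B y.syl, ← H52.Vv_inf_cent y.vtx.chr y.syl, inf_comm, inf_relIndex_right, ← hV] at h1
    rw [← h1]
    have h2 : H52.Cv 2 L ≤ centralizer (B : Set G) := inf_le_right.trans (centralizer_anti y.syl.le)
    have h3 : bU 2 (res 2 L) ≤ normalizer (centralizer (B : Set G) : Set G) :=
      le_normalizer_centralizer ((y.U_le.trans ((H52.Vv_le_Q L).trans y.OB)).trans le_normalizer)
    rw [← relIndex_sup_of_norm h3, ← relIndex_sup_of_norm (sup_le h3 (h2.trans le_normalizer)),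
      sup_assoc, sup_of_le_right h2]
  · intro b hb hb' u hu hc
    have hv := y.U_le hu
    have h1 : ⁅b, u⁆ ∈ H52.Cv 2 L := by
      refine y.vtx.V_inf_cent.le ⟨commutator_le_right' (y.syl.le.trans (H52.n_Vv L))
        (commutator_mem_commutator hb hv), ?_⟩
      rw [← commutatorElement_inv]
      exact (centralizer (res 2 L : Set G)).inv_mem hc
    exact (y.vtx.reg y.syl hb (fun x => hb' (y.O_cent x)) hv h1).2

/-- Pushing up a minimal parabolic over a Sylow 2-subgroup of a group of even characteristic. -/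
theorem push_up {T H H0 R : Subgroup G} (hT : IsSyl 2 T ⊤)
    (ev : ∀ Q : Subgroup G, IsPGroup 2 Q → Q ≠ ⊥ → T ≤ normalizer (Q : Set G) →
      CharP 2 (normalizer (Q : Set G)))
    (hH : CharP 2 H) (hU : H96.UMax T H0 H) (hR : R ≠ ⊥) (hRT : R ≤ T)
    (hRS : IsSyl 2 R (res 2 H ⊔ R)) (hTR : T ≤ normalizer (R : Set G)) :
    ∃ R₀ : Subgroup G, R₀ ≠ ⊥ ∧ R₀ ≤ R ∧ normalizer (R : Set G) ≤ normalizer (R₀ : Set G) ∧
      H ≤ normalizer (R₀ : Set G) := by
  have : Fact (Nat.Prime 2) := ⟨Nat.prime_two⟩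
  by_contra no
  have key : ∀ C : Subgroup G, C ≠ ⊥ → C ≤ R → normalizer (R : Set G) ≤ normalizer (C : Set G) →
      H ⊓ normalizer (C : Set G) ≤ H0 := fun C h1 h2 h3 =>
    hU.inf_le_of_not_le (hTR.trans h3) fun x => no ⟨C, h1, h2, h3, x⟩
  have hTH : IsSyl 2 T H := hT.of_le hU.le_top' le_top
  have h1H : res 2 H ⊔ R ≤ H := sup_le (res_le H) (hRT.trans hTH.le)
  have hT1 : T ≤ normalizer ((res 2 H ⊔ R : Subgroup G) : Set G) :=
    le_normalizer_sup (le_normalizer_res_of_le hTH.le) hTR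
  have hH1 : H ≤ normalizer ((res 2 H ⊔ R : Subgroup G) : Set G) := by
    conv_lhs => rw [← hTH.sup_res]
    exact sup_le hT1 (le_normalizer_of_le le_sup_left)
  have c : CX 2 (res 2 H ⊔ R) R H0 := by
    refine ⟨hH.normal h1H hH1, hRS, ?_, fun C h1 h2 h3 => ?_⟩
    · exact (inf_le_inf h1H (le_normalizer_of_le_centralizer le_rfl)).trans (key _ (oz_ne_bot hRS.isPGroup hR)
        (oz_le _) (le_normalizer_oz le_rfl))
    · refine (inf_le_inf_right _ h1H).trans (key C h2 (h1.trans (bm_le R)) ?_)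
      have := normalizer_le_normalizer_map_subtype (C.subgroupOf (bm 2 R))
      rw [map_subgroupOf_eq_of_le h1] at this
      exact (le_normalizer_bm le_rfl).trans this
  obtain ⟨q, L, Y, hL, hX, y⟩ := c.exists_yd fun x => hU.res_not_le hTH (le_sup_left.trans x)
  have hF1 : res 2 L ≤ res 2 H ⊔ R := (res_le L).trans hL
  obtain ⟨M, _, s, S, b⟩ := block_bc' c.cH c.syl hF1 (c.block hF1 y.blk hX)
  have J := yd_jb y b.toBD
  have hW : pCoreOf 2 (res 2 L) = bW 2 (res 2 L) := by
    rcases b.typ with h | ⟨F, _, _, n, s', x, -⟩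
    · exact h
    · exact absurd x.three (by norm_num)
  set F := res 2 L with hF
  set U := bU 2 F with hUU
  have hTF : T ⊔ F = H := hU.sup_eq (hF1.trans h1H) hX
  have hN : normalizer (R : Set G) ≤ normalizer (bm 2 R : Set G) := le_normalizer_bm le_rfl
  have ac := J.all_comm (hT.of_le hTR le_top) hN ((bm_le R).trans hRT) (fun t ht => by
    have hV := le_normalizer_oz (p := 2) (le_normalizer_pCoreOf (p := 2) hT1)
    exact ((cj_mono t b.U_le_V).trans (cj_eq_self (hV ht)).le).trans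
      ((H12.ea_le_centralizer (ea_oz _)).trans (centralizer_anti b.U_le_V))) (by
    intro z hz hz1 hzT hzF
    have hz2 : IsPGroup 2 (zpowers z) := hT.isPGroup.to_le (zpowers_le.2 (hRT (bm_le R hz)))
    have a1 : T ≤ normalizer (zpowers z : Set G) :=
      le_normalizer_of_le_centralizer (le_centralizer_iff.1 (zpowers_le.2 hzT))
    have a2 : F ≤ normalizer (zpowers z : Set G) :=
      le_normalizer_of_le_centralizer (le_centralizer_iff.1 (zpowers_le.2 hzF))
    have a3 : H ≤ normalizer (zpowers z : Set G) := hTF ▸ sup_le a1 a2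
    have cM := ev _ hz2 (by rwa [Ne, zpowers_eq_bot]) a1
    set Q := pCoreOf 2 (normalizer (zpowers z : Set G)) with hQ
    have hQT : Q ≤ T := (hT.of_le a1 le_top).pCoreOf_le
    have nQ : H ≤ normalizer (Q : Set G) := le_normalizer_pCoreOf_of_le a3
    have fQ : F ≤ normalizer (Q : Set G) := (hF1.trans h1H).trans nQ
    have e1 : ⁅⁅Q, F⁆, F⁆ = ⁅Q, F⁆ := commutator_commutator_of_res_eq (isPGroup_pCoreOf _) fQ b.res
    have e2 : ⁅Q, F⁆ ≤ Q := commutator_le_left' fQ
    have e3 : ⁅Q, F⁆ ≤ pCoreOf 2 (res 2 H ⊔ R) := by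
      refine le_trans (le_inf e2 ?_) (le_pCoreOf ((isPGroup_pCoreOf _).to_le inf_le_left) inf_le_right
        (le_normalizer_inf (h1H.trans nQ) le_normalizer))
      exact (commutator_mono le_rfl hF1).trans (commutator_le_right' ((hQT.trans hTH.le).trans hH1))
    have e4 : F ≤ normalizer ((⁅Q, F⁆ : Subgroup G) : Set G) := normalizer_commutator_ge_right Q F
    refine (b.U_le (e1.ge.trans ((b.comm_le_Q e3 e4).trans hW.le)) e4 fun x => hX ?_).trans e2
    rw [← commutator_eq_bot_iff_le_centralizer, e1, commutator_eq_bot_iff_le_centralizer,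
      le_centralizer_iff] at x
    exact (b.res.symm.trans (res_eq_bot_of_isPGroup
      ((isPGroup_pCoreOf _).to_le (cM.le_pCoreOf a2 x)))).le.trans bot_le)
  let W : Subgroup G := ⨆ n : normalizer (R : Set G), H98.cj (n : G) U
  have hle : ∀ n ∈ normalizer (R : Set G), H98.cj n U ≤ W := fun n hn =>
    le_iSup (fun n : normalizer (R : Set G) => H98.cj (n : G) U) ⟨n, hn⟩
  have hUW : U ≤ W := (cj_one U).ge.trans (hle 1 (one_mem _))
  have hWC : W ≤ bm 2 R ⊓ centralizer (U : Set G) :=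
    iSup_le fun n => le_inf (J.of_mem (hN n.2)).UB (ac n n.2)
  have hNW : normalizer (R : Set G) ≤ normalizer (W : Set G) := by
    intro t ht
    apply mem_normalizer_of_cj_le
    rw [cj_le_iff]
    refine iSup_le fun m => ?_
    rw [← cj_le_iff, cj_cj]
    exact hle _ (mul_mem ht m.2)
  refine no ⟨W, fun x => b.U_ne (eq_bot_iff.2 (hUW.trans x.le)),
    (hWC.trans inf_le_left).trans (bm_le R), hNW, hTF ▸ sup_le (hTR.trans hNW) ?_⟩
  exact le_normalizer_of_commutator_le (((commutator_mono hWC le_rfl).trans J.cm).trans hUW) le_rfl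

omit [Finite G] in
theorem oddGenerated_eq (H : Subgroup G) : oddGenerated H = res 2 H := by
  rw [res_eq_closure, oddGenerated]
  simp only [Nat.coprime_two_right]

omit [Finite G] in
theorem even_charP (h : IsOfEvenCharacteristic G) (T : Sylow 2 G) (Q : Subgroup G) (h1 : IsPGroup 2 Q)
    (h2 : Q ≠ ⊥) (h3 : (T : Subgroup G) ≤ normalizer (Q : Set G)) : CharP 2 (normalizer (Q : Set G)) :=
  charP_iff.2 (h _ ⟨Q, h1, h2, rfl⟩ ⟨T, h3⟩)

omit [Finite G] in
theorem calH_charP (h : IsOfEvenCharacteristic G) (T : Sylow 2 G) {H : Subgroup G}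
    (hH : H ∈ calHOver (T : Subgroup G)) : CharP 2 H := by
  have h1 : pCoreOf 2 H ≠ ⊥ := fun x => hH.1 ((map_eq_bot_iff_of_injective _ H.subtype_injective).1 x)
  have h2 := self_le_normalizer_pCoreOf (p := 2) H
  exact (even_charP h T _ (isPGroup_pCoreOf H) h1 (hH.2.trans h2)).of_isSyl_le
    (isSyl_sylow_of_le T (hH.2.trans h2)) hH.2 h2

theorem t1823 : T1823.{u} := by
  intro G _ _ _ _ hQ T M₀ H hM₀ hH hU R hR hRT ⟨P, hP⟩ hRM
  obtain ⟨K, hK, -⟩ := id hU
  have u := H96.umax_map_subtype hU hK.1 hK.2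
  rw [map_subgroupOf_eq_of_le hH.2] at u
  have s := isSyl_of_sylow_eq_subgroupOf le_sup_right P hP
  rw [oddGenerated_eq] at s
  obtain ⟨R₀, a, b, c, d⟩ := push_up (isSyl_sylow T) (even_charP hQ.2.2 T) (calH_charP hQ.2.2 T hH) u hR
    hRT s (hM₀.2.trans hRM)
  exact ⟨R₀, a, b, sup_le (hRM.trans c) d⟩

end H97.QT
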