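import Cfsg.Agent.H97.QUDih
import Cfsg.Agent.H14.Comp

/-! More tools about components for the tower `blueprints/QU.md`. -/

set_option autoImplicit false
set_option linter.unusedSectionVars false

namespace H97.QU

open Subgroup Cfsg H98 H96.CG
open H52 (zc)
open scoped commutatorElement

universe u

variable {G : Type u} [Group G] [Finite G] {K L H H' D M S : Subgroup G} {s : ℕ} {x i : G}

theorem card_lt {A B : Subgroup G} (h : A < B) : Nat.card A < Nat.card B :=
  (card_le_of_le h.le).lt_of_ne fun e => h.ne (eq_of_le_of_card_ge h.le e.ge)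

/-- distinct components commute -/
theorem IsComponentOf.eq_or_cen (h : IsComponentOf K H) (h' : IsComponentOf L H) : K = L ∨ K ≤ cen L := by
  refine (H14.comp_eq_or_commute h.2 h'.2).imp (fun e => ?_) fun e => ?_
  · rw [← map_subgroupOf_eq_of_le h.1, e, map_subgroupOf_eq_of_le h'.1]
  · rw [← commutator_eq_bot_iff_le_centralizer, ← map_subgroupOf_eq_of_le h.1, ← map_subgroupOf_eq_of_le h'.1,
      ← map_commutator, e, Subgroup.map_bot]

theorem IsComponentOf.of_le (h : IsComponentOf K H) (h1 : K ≤ H') (h2 : H' ≤ H) : IsComponentOf K H' :=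
  isComponentOf_of ((IsComponentOf.subN h).of_le h1 h2) (IsComponentOf.quasi h)

theorem IsComponentOf.nor_of_cen (h : IsComponentOf K H) (h1 : K ≤ cen D) (h2 : cen D ≤ H) :
    IsComponentOf K (nor D) :=
  isComponentOf_of (((IsComponentOf.subN h).of_le h1 h2).trans (SubN.of_normal
    (le_normalizer_of_le_centralizer le_rfl) (normalizer_le_normalizer_centralizer D))) (IsComponentOf.quasi h)

theorem IsComponentOf.cj_of_mem (h : IsComponentOf K H) (hx : x ∈ H) : IsComponentOf (H98.cj x K) H :=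
  cj_eq_self_of_mem hx ▸ IsComponentOf.cj h x

theorem IsComponentOf.not_le_cen (h : IsComponentOf K H) : ¬ K ≤ cen K := fun e =>
  H14.quasi_sub_commutator_ne_bot (IsComponentOf.quasi h) (commutator_eq_bot_iff_le_centralizer.2 e)

/-- an element of `H` with `K ⊓ K ^ x ≰ C(K ^ x)` forces `K ^ x = K` -/
theorem IsComponentOf.mem_nor (h : IsComponentOf K H) (hx : x ∈ H) {a : G} (h1 : a ∉ cen K)
    (h2 : x * a * x⁻¹ ∈ K) : x ∈ nor K := by
  refine (IsComponentOf.eq_or_cen h (IsComponentOf.cj_of_mem h hx)).elim (fun e => cj_eq_self_iff.1 e.symm) fun e => ?_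
  have := e h2
  rw [← cj_cen, conj_mem_cj_iff] at this
  exact (h1 this).elim

theorem core_nor_ne (hD : IsPGroup 2 D) (h : D ≠ ⊥) : pCoreOf 2 (nor D) ≠ ⊥ := fun e =>
  h (eq_bot_iff.2 ((le_pCoreOf hD le_normalizer le_rfl).trans e.le))

theorem core_cen1_ne (h : i * i = 1) (h1 : i ≠ 1) : pCoreOf 2 (cen1 i) ≠ ⊥ :=
  nor_zpowers h ▸ core_nor_ne (two_zpowers h) (by simpa using h1)

theorem mem_of_odd_of_two {N : Subgroup G} (h : N.relIndex H = 2) (hx : x ∈ H) (ho : Odd (orderOf x)) : x ∈ N := by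
  have : x ^ 2 ∈ N := by simpa [mem_subgroupOf] using sq_mem_of_index_two h ⟨x, hx⟩
  exact mem_of_pow_mem_of_coprime this (Nat.coprime_two_right.2 ho)

/-- elements of odd order normalize the components of a 2-local subgroup -/
theorem Kit.odd_nor (k : Kit M s) (h : pCoreOf 2 H ≠ ⊥) (c : IsComponentOf K H) (hx : x ∈ H)
    (ho : Odd (orderOf x)) : x ∈ nor K :=
  (k.comp2 H K h c).elim (fun e => e hx) fun e => mem_of_odd_of_two e hx ho

theorem Kit.exists_zt (k : Kit M s) (h : Good M S) : ∃ T z, Zt M S T z := by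
  obtain ⟨T, h1, h2, h3⟩ := k.up S h.two h.le
  obtain ⟨z, -, h4, h5, h6⟩ := exists_inv_zc h1.isPGroup le_rfl le_normalizer fun e => k.o2 (eq_bot_iff.2
    (((h1.of_le h3 le_top).pCoreOf_le).trans e.le))
  exact ⟨T, z, h1, h2, h3, h4, h6, h5⟩

/-- an element of the normalizer whose square lies in the subgroup -/
theorem exists_sq_mem {T : Subgroup G} (hT : IsPGroup 2 T) (h : S < T) :
    ∃ t ∈ T, t ∈ nor S ∧ t ∉ S ∧ t * t ∈ S := by
  obtain ⟨g, hg, hn⟩ := SetLike.exists_of_lt (lt_inf_normalizer hT h)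
  obtain ⟨k, hk⟩ := isPGroup_iff_forall.1 hT g hg.1
  have : ∃ k, g ^ 2 ^ k ∈ S := ⟨k, hk ▸ one_mem _⟩
  classical
  have h0 : Nat.find this ≠ 0 := fun e => hn (by simpa [e] using Nat.find_spec this)
  obtain ⟨m, hm⟩ := Nat.exists_eq_succ_of_ne_zero h0
  refine ⟨g ^ 2 ^ m, pow_mem hg.1 _, pow_mem hg.2 _, Nat.find_min this (by omega), ?_⟩
  rw [← pow_add, ← two_mul, ← pow_succ', ← Nat.succ_eq_add_one, ← hm]
  exact Nat.find_spec this

theorem mem_sup_zp {t : G} (hn : t ∈ nor S) (ht : t * t ∈ S) : x ∈ S ⊔ zpowers t ↔ x ∈ S ∨ x * t ∈ S := by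
  refine ⟨fun h => ?_, fun h => h.elim (fun e => mem_sup_left e) fun e => by
    simpa using mul_mem (mem_sup_left e : _ ∈ S ⊔ zpowers t) (inv_mem (mem_sup_right (mem_zpowers t)))⟩
  obtain ⟨a, ha, _, ⟨k, rfl⟩, rfl⟩ := (mem_sup_right_norm (zpowers_le.2 hn)).1 h
  have e : ∀ m : ℤ, t ^ (2 * m) ∈ S := fun m => by rw [zpow_mul, zpow_two]; exact zpow_mem ht m
  rcases Int.even_or_odd' k with ⟨m, rfl | rfl⟩
  · exact .inl (mul_mem ha (e m))
  · refine .inr ?_
    rw [mul_assoc, ← zpow_add_one, show 2 * m + 1 + 1 = 2 * (m + 1) by ring]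
    exact mul_mem ha (e _)

theorem card_sup_zp {t : G} (hn : t ∈ nor S) (ht : t * t ∈ S) (h : t ∉ S) :
    Nat.card ↥(S ⊔ zpowers t) = 2 * Nat.card S :=
  card_two le_sup_left (mem_sup_right (mem_zpowers t)) h fun _ hb => (mem_sup_zp hn ht).1 hb

end H97.QU
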