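import Cfsg.Agent.H51.TESpec
import Cfsg.Agent.H42.OddOrder
import Cfsg.Agent.S2775

/-! Tower TE, part 2 (S1308), item FIN: the strongly closed abelian subgroup acts as inner
automorphisms. -/

set_option autoImplicit false

namespace H97.TEFin

open Cfsg Subgroup MulAction H14 H98 H1.Gold H31.S2 H14.GC H14.FE H14.NF H51.TE
open scoped commutatorElement

universe u

theorem comm_of_ab {G : Type u} [Group G] {T : Subgroup G} (h : Ab T) : IsMulCommutative T :=
  ⟨⟨fun a b => Subtype.ext (h a a.2 b b.2)⟩⟩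

theorem core {Y : Type u} [Group Y] [Finite Y] (K T W : Subgroup Y) (S : Sylow 2 Y)
    (hK : IsQuasisimple K) [K.Normal] (hKT : K ⊔ T = ⊤) (hT : Ab T) (hTW : T ≤ W) (hW : Ab W)
    (hsc : IsStronglyClosed W (S : Subgroup Y)) : T ≤ K ⊔ cen K := by
  have key : ∀ Z M : Subgroup Y, M.Normal → ¬ K ≤ M → ⁅Z, K⁆ ≤ M → Z ≤ cen K := by
    intro Z M hM h1 h2
    have h3 := (quasi_sub_normalized hK (N := M) (by rw [normalizer_eq_top]; exact le_top)).resolve_left h1
    exact commutator_eq_bot_iff_le_centralizer.1 (commutator_eq_bot_of_perfect (quasi_sub_perfect hK)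
      (commutator_eq_bot_mono h3 (le_inf h2 (commutator_le_right _ _)) le_rfl))
  have hTN : T ≤ normalClosure (W : Set Y) := hTW.trans le_normalClosure
  by_cases hKN : K ≤ normalClosure (W : Set Y)
  swap
  · exact (key T _ inferInstance hKN
      ((commutator_mono hTN le_rfl).trans (commutator_le_left _ _))).trans le_sup_right
  have hN : ∀ y : Y, y ∈ normalClosure (W : Set Y) := fun y =>
    (sup_le hKN hTN) (hKT.ge (mem_top y))
  obtain ⟨h1, h2, -⟩ := Cfsg.Agent.S2775.result S W (comm_of_ab hW) hsc _ rfl _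
    (QuotientGroup.mk' (pPrimeCore 2 (normalClosure (W : Set Y)))) (QuotientGroup.mk'_surjective _)
    (QuotientGroup.ker_mk' _)
  let ρ : Y →* _ := (QuotientGroup.mk' (pPrimeCore 2 (normalClosure (W : Set Y)))).comp
    ((MonoidHom.id Y).codRestrict _ hN)
  have hρ : Function.Surjective ρ := fun x => by
    obtain ⟨y, rfl⟩ := QuotientGroup.mk'_surjective _ x
    exact ⟨y, rfl⟩
  have hk : ¬ K ≤ ρ.ker := fun h => by
    have h3 : K ≤ opp 2 (normalClosure (W : Set Y)) := fun x hx =>
      ⟨⟨x, hN x⟩, (QuotientGroup.eq_one_iff _).1 (h hx), rfl⟩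
    exact quasi_not_solvable hK (H42.odd_order (Nat.coprime_two_right.1
      (Nat.Coprime.coprime_dvd_left (card_dvd_of_le h3) (coprime_card_opp _))))
  have hZ := key ((center _).comap ρ) ρ.ker inferInstance hk (commutator_le.2 fun z hz k _ => by
    rw [MonoidHom.mem_ker, map_commutatorElement, commutatorElement_eq_one_iff_mul_comm]
    exact (mem_center_iff.1 hz _).symm)
  have hc : commutator Y ≤ K :=
    Normal.commutator_le_of_self_sup_commutative_eq_top hKT (comm_of_ab hT)
  intro t _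
  obtain ⟨z, hz, c, hc', e⟩ := mem_sup_of_normal_left.1 (h1.ge (mem_top (ρ t)))
  have h4 : _root_.commutator _ ≤ K.map ρ := by
    refine le_trans ?_ (map_mono hc)
    rw [commutator_def, commutator_def, map_commutator, map_top_of_surjective ρ hρ]
  obtain ⟨k, hk', rfl⟩ := h4 hc'
  have h5 : t * k⁻¹ ∈ cen K := hZ (by
    rw [mem_comap, map_mul, map_inv, ← e, mul_inv_cancel_right]; exact h2 hz)
  simpa using mul_mem (mem_sup_right h5 : t * k⁻¹ ∈ K ⊔ cen K) (mem_sup_left hk')

theorem job : FIN.{u} := by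
  rintro G _ _ K T hK hn hT ⟨S, W, hS, hTW, hWS, hW, hsc⟩
  obtain ⟨P, hP⟩ := hS.exists_sylow
  have hnk : K ⊔ T ≤ nor K := sup_le le_normalizer hn
  have := normal_subgroupOf_of_le_normalizer hnk
  have h := core (K.subgroupOf (K ⊔ T)) (T.subgroupOf (K ⊔ T)) (W.subgroupOf (K ⊔ T)) P
    ((quasi_subgroupOf_iff le_sup_left).2 hK)
    (by rw [← subgroupOf_sup le_sup_left le_sup_right, subgroupOf_self])
    (fun a ha b hb => Subtype.ext (hT a ha b hb)) (fun _ hx => hTW hx)
    (fun a ha b hb => Subtype.ext (hW a ha b hb))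
    (by rw [hP]; exact ⟨fun _ hx => hWS hx, fun x hx g hg => hsc g g.2 x hx hg⟩)
  intro t ht
  obtain ⟨k, hk, z, hz, e⟩ := mem_sup_of_normal_left.1 (h (show (⟨t, mem_sup_right ht⟩ : ↥(K ⊔ T)) ∈ _ from ht))
  have e' : (k : G) * z = t := congrArg Subtype.val e
  rw [← e']
  refine mul_mem (mem_sup_left hk) (mem_sup_right (mem_centralizer_iff.2 fun y hy => ?_))
  exact congrArg Subtype.val (mem_centralizer_iff.1 hz ⟨y, mem_sup_left hy⟩ hy)

end H97.TEFin
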