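import Cfsg.Agent.H53.KUSpec

/-! Tower KU (S2196), slot `Tr`: `SU` is transitive on chambers. -/

set_option autoImplicit false
set_option linter.unusedSectionVars false

namespace H97.KU

open Cfsg H59 H53.WU H53.KU Module

section

variable {F V : Type*} [Field F] [AddCommGroup V] [Module F V] [FiniteDimensional F V]
  {σ : F →+* F} {B : V →ₛₗ[σ] V →ₗ[F] F}

theorem h90 (h : IsHerm B) {δ : F} (hδ : σ δ * δ = 1) : ∃ a : F, a ≠ 0 ∧ δ * σ a = a := by
  by_contra hc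
  push Not at hc
  have h1 : ∀ x, x + δ * σ x = 0 := fun x => by
    by_contra h0
    refine hc _ h0 ?_
    rw [map_add, map_mul, h.invol]
    linear_combination x * hδ
  have h2 := h1 1
  rw [map_one] at h2
  refine h.ne_id (RingHom.ext fun x => ?_)
  rw [RingHom.id_apply]
  linear_combination -h1 x + σ x * h2

/-- A quasi-reflection mapping `e` to `a f`. -/
theorem ex_swap (h : IsHerm B) {e f : V} (he : B e e = 0) (hf : B f f = 0) (hef : B e f = 1)
    {a : F} (ha : a ≠ 0) : ∃ r ∈ isom B, r e = a • f ∧ (∀ x, B e x = 0 → B f x = 0 → r x = x) ∧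
      ((LinearEquiv.det r : Fˣ) : F) * σ a = -a := by
  have hfe : B f e = 1 := by rw [← h.symm, hef, map_one]
  have hs := h.conj_ne_zero ha
  have hp : B (a • f - e) (a • f - e) = -(a + σ a) := by
    simp [he, hf, hef, hfe]; ring
  have hc : (σ a)⁻¹ + σ (σ a)⁻¹ + (σ a)⁻¹ * σ (σ a)⁻¹ * B (a • f - e) (a • f - e) = 0 := by
    rw [hp, map_inv₀, h.invol]; field_simp; ring
  refine ⟨qref B _ _ hc, h.qref_mem_isom _ _ hc, ?_, fun x h1 h2 => ?_, ?_⟩
  · simp [qref_apply, he, hfe, hs]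
  · simp [qref_apply, h1, h2]
  · rw [det_qref, hp]; field_simp; ring

end

theorem li_e {S : HS} {m : ℕ} (Φ : Fr S m) : LinearIndependent S.F Φ.e := by
  rw [Fintype.linearIndependent_iff]
  intro c hc i
  have := congrArg (S.B (Φ.f i)) hc
  simpa [Φ.fe] using this

theorem jobTr : JobTr := by
  intro S m Φ Ψ _ hm
  obtain ⟨g, hg, he⟩ := S.h.witt_family (li_e Φ) (li_e Ψ) fun i j => by rw [Φ.ee, Ψ.ee]
  have hd := S.h.det_norm_one (inv_mem hg)
  obtain ⟨a, ha, h1⟩ := h90 S.h hd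
  let o : Fin m := ⟨0, hm⟩
  have ef : S.B (Ψ.e o) (Ψ.f o) = 1 := by simp [Ψ.ef]
  obtain ⟨r, hr, r1, r2, r3⟩ := ex_swap S.h (Ψ.ee o o) (Ψ.ff o o) ef ha
  obtain ⟨s, hs, s1, s2, s3⟩ := ex_swap S.h (Ψ.ee o o) (Ψ.ff o o) ef one_ne_zero
  have h2 : LinearEquiv.det r = LinearEquiv.det s * LinearEquiv.det g⁻¹ := Units.ext (by
    rw [map_one, mul_one] at s3
    refine mul_right_cancel₀ (S.h.conj_ne_zero ha) ?_
    rw [r3, Units.val_mul, s3, mul_assoc, h1, neg_one_mul])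
  refine ⟨⟨s⁻¹ * r * g, mem_sisom.2 ⟨mul_mem (mul_mem (inv_mem hs) hr) hg, ?_⟩⟩,
    fun i => if i = o then Units.mk0 a ha else 1, fun i => ?_⟩
  · simp [h2]
  · change s⁻¹ (r (g _)) = _
    rw [he]
    apply s.injective
    change (s * s⁻¹) _ = _
    rw [mul_inv_cancel, LinearEquiv.coe_one, id]
    beta_reduce
    split_ifs with h
    · rw [h, r1, map_smul, s1, one_smul, Units.val_mk0]
    · have h3 : S.B (Ψ.f o) (Ψ.e i) = 0 := by simp [Ψ.fe, Ne.symm h]
      rw [r2 _ (Ψ.ee _ _) h3, Units.val_one, one_smul, s2 _ (Ψ.ee _ _) h3]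

end H97.KU
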