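import Cfsg.Agent.H97.QUSpec
import Cfsg.Agent.H96.GLU
import Cfsg.Agent.H14.Quasi
import Cfsg.Agent.H99.BenderB
import Cfsg.Agent.H82.Hub

/-! Small tools for the tower `blueprints/QU.md`. -/

set_option autoImplicit false
set_option linter.style.haveILetI false

namespace H97.QU

open Subgroup Cfsg H98 H96.CG
open H52 (zc)
open scoped commutatorElement

universe u

variable {G : Type u} [Group G] [Finite G]

/-- a block outside `M` is normal in a characteristic two overgroup normalising its side -/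
theorem luA {q : ℕ} {X S M R A A' : Subgroup G} (x : CX 2 X S M) (hX : X ≤ nor A) (h4 : R ≤ X)
    (k : Bk q (bm 2 S) R A A') (hR : ¬ R ≤ M) : X ≤ nor R := by
  have l : LS (bm 2 S) R X := by
    obtain ⟨E, hE, hRE⟩ := inSB _ S M x R h4 (x.block h4 k.blk hR) hR
    refine ⟨x.cH, ?_, S, x.syl, rfl⟩
    suffices R = E from this ▸ hE
    obtain ⟨L, Y, y, rfl, eA, eA'⟩ := id k
    rcases bc_cases x.cH x.syl hE.sub.le (hE.block x.cH x.syl) with ⟨F, _, _, n, z, ρ, hF, d, -⟩ |
      ⟨-, m, z, ρ, hm, d, hr, hα, -, hQ⟩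
    · exact d.eq_of_blk (d.blk hF) hRE (res_res L) y.comm fun e => hR (e.le.trans bot_le)
    have alt := hr ▸ z.bar_eq_map (nn_bU le_normalizer) ρ _ hα
    refine alt_eq x d hm alt y hRE hR ?_
    have nE : E ≤ nor A := d.le.trans hX
    have p2 : IsPGroup 2 A := H12.ea_isPGroup k.tri.eA
    have AX : A ≤ X := k.tri.AB.trans ((bm_le S).trans x.syl.le)
    have f1 : ¬ ⁅A, E⁆ ≤ cen E := fun f => by
      have f2 : E ≤ cen A := d.res.ge.trans (res_le_cent_of_comm p2 nE
        ((commutator_eq_bot_iff_le_centralizer.2 f).le.trans bot_le))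
      exact k.V_ne (k.V_eq.trans (commutator_eq_bot_iff_le_centralizer.2 (cen_symm (hRE.trans f2))))
    have f3 : bU 2 E ≤ A := (d.U_le ((d.comm_le_Q (le_pCoreOf p2 AX hX) nE).trans hQ.le)
      (le_normalizer_commutator nE le_normalizer) f1).trans (commutator_le_left' nE)
    intro b hb
    obtain ⟨a', ha', e⟩ := k.tri.dec' hb
    have h1 : a'⁻¹ * b ∈ bm 2 S ⊓ cen (bU 2 E) :=
      mem_inf.2 ⟨mul_mem (inv_mem (k.tri.AB' ha')) hb, centralizer_anti f3 e⟩
    have h2 : A' ≤ Y ⊔ bm 2 S ⊓ cen (bU 2 E) :=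
      eA'.le.trans (sup_le_sup_left (inf_le_inf_left _ (centralizer_anti d.U_le_bm)) _)
    simpa using mul_mem (h2 ha') (mem_sup_right h1)
  refine l.le_nor k fun n hn m => k.tri.not_le_cen ?_
  have := m.2.1
  rwa [cj_eq_self (hX hn.1)] at this

omit [Finite G] in
theorem IsComponentOf.quasi {K H : Subgroup G} (h : IsComponentOf K H) : IsQuasisimple K :=
  (H14.quasi_subgroupOf_iff h.1).1 h.2.2

omit [Finite G] in
theorem IsComponentOf.subN {K H : Subgroup G} (h : IsComponentOf K H) : SubN K H :=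
  subN_of_isSubnormal_subgroupOf h.1 h.2.1

omit [Finite G] in
theorem isComponentOf_of {K H : Subgroup G} (h : SubN K H) (hq : IsQuasisimple K) : IsComponentOf K H :=
  ⟨h.le, h.isSubnormal_subgroupOf, (H14.quasi_subgroupOf_iff h.le).2 hq⟩

theorem quasi_not_two {L : Subgroup G} (hL : IsQuasisimple L) : ¬ IsPGroup 2 L := fun h =>
  H14.quasi_not_solvable hL (by haveI := h.isNilpotent; infer_instance)

/-- a normalised 2-subgroup of a quasisimple group is central -/
theorem quasi_two_le_cen {L P : Subgroup G} (hL : IsQuasisimple L) (hP : IsPGroup 2 P) (hn : L ≤ nor P) :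
    P ⊓ L ≤ cen L :=
  (H14.quasi_sub_normalized hL hn).elim (fun e => (quasi_not_two hL (hP.to_le e)).elim)
    commutator_eq_bot_iff_le_centralizer.1

/-- a quasisimple group does not have characteristic two -/
theorem quasi_not_charP {L : Subgroup G} (hL : IsQuasisimple L) : ¬ CharP 2 L := fun h =>
  quasi_not_two hL ((isPGroup_pCoreOf L).to_le (h.le_pCoreOf le_rfl (cen_symm ((le_inf le_rfl (pCoreOf_le L)).trans
    (quasi_two_le_cen hL (isPGroup_pCoreOf L) (self_le_normalizer_pCoreOf L))))))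

/-- no component in a group of characteristic two -/
theorem no_comp {L Y : Subgroup G} (h : CharP 2 Y) (hL : IsQuasisimple L) (hs : SubN L Y) : False :=
  quasi_not_charP hL (h.subN hs)

/-- a 2-group normalised by a quasisimple group that it normalises centralises it -/
theorem quasi_cen_of_nor {L P : Subgroup G} (hL : IsQuasisimple L) (hP : IsPGroup 2 P) (hn : L ≤ nor P)
    (hn' : P ≤ nor L) : P ≤ cen L :=
  commutator_eq_bot_iff_le_centralizer.1 (H14.commutator_eq_bot_of_perfect (H14.quasi_sub_perfect hL)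
    (commutator_eq_bot_iff_le_centralizer.2 ((le_inf (commutator_le_left' hn) (commutator_le_right' hn')).trans
      (quasi_two_le_cen hL hP hn))))

/-- `O₂(H)` centralises the components of `H` -/
theorem IsComponentOf.core_le_cen {K H : Subgroup G} (h : IsComponentOf K H) : pCoreOf 2 H ≤ cen K := by
  have q := IsComponentOf.quasi h
  have e : res 2 K = K := by
    rcases H14.quasi_sub_normalized q (self_le_normalizer_res (p := 2) K) with e | e
    · exact le_antisymm (res_le K) e
    · rw [inf_of_le_left (res_le K)] at e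
      by_contra
      refine H14.quasi_not_solvable q ?_
      haveI : ((res 2 K).subgroupOf K).Normal := by rw [res_subgroupOf]; exact pResidual_normal'
      have h1 : IsPGroup 2 (K ⧸ (res 2 K).subgroupOf K) := isPGroup_quotient_iff_res_le.2 (res_subgroupOf K).ge
      haveI := h1.isNilpotent
      have h2 : (res 2 K).subgroupOf K ≤ center K := H14.subgroupOf_le_center_iff.2 (by
        rwa [inf_of_le_left (res_le K)])
      haveI : IsMulCommutative ((res 2 K).subgroupOf K) := ⟨⟨fun a b => Subtype.ext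
        ((mem_center_iff.1 (h2 b.2) a.1))⟩⟩
      haveI : Group.IsSolvable ((res 2 K).subgroupOf K) := Group.isSolvable_of_comm fun a b => mul_comm' a b
      exact Group.isSolvable_of_ker_le_range ((res 2 K).subgroupOf K).subtype
        (QuotientGroup.mk' ((res 2 K).subgroupOf K)) (by simp)
  exact quasi_cen_of_nor q (isPGroup_pCoreOf H) (le_normalizer_pCoreOf_of_le h.1)
    (e ▸ (IsComponentOf.subN h).pCoreOf_le_normalizer_res)

omit [Finite G] in
/-- in the almost simple group every characteristic two overgroup of `S` lies in `M` -/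
theorem Hat.beta {K S M Y : Subgroup G} {z : G} (h : Hat K S M z) (h1 : S ≤ Y) (h2 : CharP 2 Y) : Y ≤ M :=
  have e := (h.syl.of_le h1 le_top).pCoreOf_le
  (self_le_normalizer_pCoreOf Y).trans (h.nD _ e (le_normalizer_pCoreOf_of_le h1)
    (h2.le ⟨h1 h.zS.1, centralizer_anti e h.zS.2⟩))

/-- a simple group with a strongly embedded subgroup has TI Sylow 2-subgroups -/
theorem se_ti {K : Subgroup G} [IsSimpleGroup K] (h : SE K) : TI K := by
  obtain ⟨H, hH⟩ := h
  obtain ⟨S, rfl⟩ := H99.se_eq_normalizer_sylow H82.hub hH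
  intro P P' hP hP' hn
  have key : ∀ Q Q' : Subgroup K, IsSyl 2 Q ⊤ → IsSyl 2 Q' ⊤ → Q ⊓ Q' ≠ ⊥ → Q' = Q := by
    intro Q Q' hQ hQ' e
    obtain ⟨g, -, rfl⟩ := (isSyl_sylow S).exists_cj_eq hQ
    obtain ⟨Q₁, rfl⟩ : ∃ Q₁, cj g Q₁ = Q' := ⟨cj g⁻¹ Q', cj_cj_inv _ _⟩
    have h1 : IsSyl 2 Q₁ ⊤ := by
      have := hQ'.cj_of_mem (mem_top g⁻¹)
      rwa [cj_inv_cj] at this
    have h2 : Q₁ ≤ nor (S : Subgroup K) := H88.se_le_of_isPGroup hH h1.isPGroup fun e' => e (by
      rw [← cj_inf, eq_bot_iff.2 (((le_inf inf_le_right (inf_le_left.trans le_normalizer))).trans e'.le), cj_bot])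
    rw [(h1.eq_of_le (isSyl_sylow S).isPGroup ((isSyl_sylow S).le_of_le_normalizer' h1.isPGroup le_top h2)
      le_top)]
  have := key _ _ hP.subgroupOf_top hP'.subgroupOf_top fun e => hn fun x hx => by
    have : (⟨x, hP.le hx.1⟩ : K) ∈ P.subgroupOf K ⊓ P'.subgroupOf K := hx
    rw [e, mem_bot, Subtype.ext_iff] at this
    exact (show x = 1 from this) ▸ one_mem _
  rw [← map_subgroupOf_eq_of_le hP.le, ← map_subgroupOf_eq_of_le hP'.le, this]

end H97.QU
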