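import Cfsg.Agent.H63.A8Def
import Cfsg.Agent.H98.Sylow
import Cfsg.Agent.H61.Klein

/-! A8S (row S3152), case A, slot `DD`. -/

set_option autoImplicit false

namespace H97.A8

open H64.SG (Cz Cs Ns Inv2 mem_Cz mem_Cs)
open Subgroup H98 H63.A8

universe u

variable {G : Type u} [Group G] [Finite G] {f : A8 →* G} {t : G}

theorem odd_mul {a b : S8} (ha : a ∉ alternatingGroup (Fin 8)) (hb : b ∉ alternatingGroup (Fin 8)) :
    a * b ∈ alternatingGroup (Fin 8) := by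
  rw [Equiv.Perm.mem_alternatingGroup] at *
  rw [map_mul, (Int.units_eq_one_or _).resolve_left ha, (Int.units_eq_one_or _).resolve_left hb]
  rfl

/-- The odd elements of `C(s)`. -/
theorem ex_pi (P : KP) (K : JKA.{u}) (T : JTT.{u}) (h : PA f t) {s : G} (hc : IsConj t s) :
    ∃ π : Cz s →* S8, ∀ u : Cz s, IsConj t u → (u : G) ≠ s → π u ∉ alternatingGroup (Fin 8) := by
  obtain ⟨g, rfl⟩ := isConj_iff.1 hc
  have h' := (K G f t h).cj g
  obtain ⟨π, h1, -⟩ := (K G _ _ h').pi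
  exact ⟨π, fun u h2 h3 => P.od _ (.inl (T G _ _ h' u u.2 (hc.symm.trans h2) h3 _ (h1 u)))⟩

theorem not_conj (P : KP) (K : JKA.{u}) (T : JTT.{u}) (h : PA f t) {s : G} (hs : s ∈ Cz t)
    (hc : IsConj t s) (hne : s ≠ t) : ¬ IsConj t (t * s) := by
  intro hts
  obtain ⟨π, h1, -⟩ := (K G f t h).pi
  have h2 := h1 ⟨s, hs⟩
  have h3 := T G f t h s hs hc hne _ h2
  generalize π ⟨s, hs⟩ = σ at h2 h3
  have t0 : Ty 2 (Equiv.swap 0 1) := ⟨by decide, by decide⟩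
  have t1 : Ty 2 (Equiv.swap 2 3) := ⟨by decide, by decide⟩
  obtain ⟨a, ha⟩ := P.cj 2 _ _ two_ne_zero t0 h3
  obtain ⟨b, hb⟩ := P.cj 2 _ _ two_ne_zero t0 t1
  obtain ⟨l, hl⟩ : ∃ l : A8, (l : S8) * σ * (l : S8)⁻¹ =
      (a : S8) * (Equiv.swap 2 3 : S8) * (a : S8)⁻¹ :=
    ⟨a * b * a⁻¹, by rw [← ha, ← hb]; simp [mul_assoc]⟩
  have hm : ((l * MulAut.conjNormal σ l⁻¹ : A8) : S8) =
      (a : S8) * (Equiv.swap 2 3 * Equiv.swap 0 1 : S8) * (a : S8)⁻¹ := by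
    rw [coe_mul, MulAut.conjNormal_apply, coe_inv, ← mul_assoc, ← mul_assoc, hl, ← ha]
    simp [mul_assoc]
  generalize hm' : l * MulAut.conjNormal σ l⁻¹ = m at hm
  have e1 : f l * s * (f l)⁻¹ = f m * s := by
    rw [← hm', map_mul, ← h2, map_inv]; group
  have e2 : s * f m = f m * s := by
    have : MulAut.conjNormal σ m = m := Subtype.ext (by
      rw [MulAut.conjNormal_apply, hm, ← ha]
      have : Equiv.swap 0 1 * (Equiv.swap 2 3 * Equiv.swap 0 1) * (Equiv.swap 0 1)⁻¹ =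
        (Equiv.swap 2 3 * Equiv.swap 0 1 : S8) := by decide
      nth_rw 2 [← this]; group)
    rw [← mul_inv_eq_iff_eq_mul, h2, this]
  have e3 : t * f l = f l * t := (mem_Cs.1 h.cen _ ⟨l, rfl⟩).symm
  obtain ⟨ρ, hρ⟩ := ex_pi P K T h hc
  have m1 : t ∈ Cz s := mem_Cz.2 (mem_Cz.1 hs).symm
  have m2 : f m * s ∈ Cz s := mem_Cz.2 (by rw [← mul_assoc, e2])
  have o1 := hρ ⟨t, m1⟩ (IsConj.refl t) hne.symm
  have o2 := hρ ⟨_, m2⟩ (hc.trans (isConj_iff.2 ⟨_, e1⟩)) fun e => by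
    have e4 : m = 1 := h.inj (by simpa using e)
    rw [e4, eq_comm, coe_one, conj_eq_one_iff] at hm
    exact absurd hm (by decide)
  refine hρ (⟨t, m1⟩ * ⟨_, m2⟩) (hts.trans (isConj_iff.2 ⟨f l, ?_⟩)) (fun e => ?_)
    (by rw [map_mul]; exact odd_mul o1 o2)
  · change _ = t * (f m * s)
    rw [← e1, ← mul_assoc, ← e3]; group
  · refine (K G f t h).nt ⟨m⁻¹, ?_⟩
    rw [map_inv, inv_eq_iff_mul_eq_one, mem_Cs.1 h.cen _ ⟨m, rfl⟩]
    simpa [← mul_assoc] using e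

theorem jobDD (P : KP) (K : JKA.{u}) (T : JTT.{u}) : JDD.{u} := by
  intro G _ _ f t h s hs hc hne
  refine ⟨not_conj P K T h hs hc hne, fun R hR h2 => ?_⟩
  by_contra hcard
  have t2 : t ^ 2 ^ 1 = 1 := by rw [pow_one, sq, h.inv.1]
  have s2 : s ^ 2 ^ 1 = 1 := by
    obtain ⟨g, rfl⟩ := isConj_iff.1 hc
    rw [conj_pow, t2]; group
  obtain ⟨S, hS, h3⟩ := exists_isSyl_le (isPGroup_zpowers t2) ((zpowers_le (G := G)).2 h.cen)
  have tS : t ∈ S := h3 (mem_zpowers t)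
  have comm : ∀ A : Subgroup G, IsCyclic A → ∀ a ∈ A, ∀ b ∈ A, a * b = b * a := fun A hA a ha b hb => by
    let := hA.commGroup
    exact congrArg Subtype.val (mul_comm (⟨a, ha⟩ : A) ⟨b, hb⟩)
  have h4 : S ≤ Cs f.range ⊓ Cz t := le_inf hS.le fun a ha =>
    mem_Cz.2 (comm S (h.cyc S hS.le hS.isPGroup) t tS a ha)
  obtain ⟨Q, hQ, h5⟩ := exists_isSyl_le (isPGroup_zpowers s2) ((zpowers_le (G := G)).2 hs)
  have hn : Q ≤ Ns (Cs f.range ⊓ Cz t) := hQ.le.trans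
    (le_normalizer_inf (le_normalizer_centralizer h.cz) le_normalizer)
  have h6 := hQ.inf_of_le_normalizer inf_le_right hn
  have tt : t ∈ Cz t := mem_Cz.2 rfl
  have tQ : t ∈ Q := hQ.le_of_le_normalizer (isPGroup_zpowers t2) ((zpowers_le (G := G)).2 tt)
    (le_normalizer_of_le_centralizer fun a ha => mem_Cs.2 fun b hb => by
      obtain ⟨k, rfl⟩ := hb
      exact Commute.zpow_left (mem_Cz.1 (hQ.le ha)) k) (mem_zpowers t)
  have h7 := (hS.card_le h2 hR).trans (h6.card_le hS.isPGroup h4)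
  have hs' : s ∈ Ns (Q ⊓ (Cs f.range ⊓ Cz t)) :=
    le_normalizer_inf le_normalizer hn (h5 (mem_zpowers s))
  have tD : t ∈ Q ⊓ (Cs f.range ⊓ Cz t) := ⟨tQ, h.cen, tt⟩
  have cD := h.cyc _ (h6.le.trans inf_le_left) h6.isPGroup
  have pD := h6.isPGroup
  generalize Q ⊓ (Cs f.range ⊓ Cz t) = D at h7 hs' tD cD pD
  obtain ⟨r, hr, e⟩ : ∃ r ∈ D, r * r = t := by
    obtain ⟨c, hc⟩ := cD.exists_generator
    obtain ⟨k, hk⟩ := hc ⟨t, tD⟩
    obtain ⟨j, rfl | rfl⟩ := Int.even_or_odd' k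
    · exact ⟨_, (c ^ j).2, by
        have := congrArg Subtype.val hk
        simpa [two_mul, zpow_add] using this⟩
    · exfalso
      obtain ⟨n, hn⟩ := pD c
      have h8 : c ^ (2 * (2 * j + 1)) = 1 := by
        rw [mul_comm, zpow_mul, show c ^ (2 * j + 1) = ⟨t, tD⟩ from hk, zpow_two]
        exact Subtype.ext h.inv.1
      have h9 : (orderOf c : ℤ) ∣ 2 * (2 * j + 1) := orderOf_dvd_iff_zpow_eq_one.2 h8
      obtain ⟨i, -, hi⟩ := (Nat.dvd_prime_pow Nat.prime_two).1 (orderOf_dvd_of_pow_eq_one hn)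
      rw [← orderOf_eq_card_of_forall_mem_zpowers hc, hi] at h7
      obtain ⟨i, rfl⟩ : ∃ i', i = i' + 2 := ⟨i - 2, by
        by_contra h0
        have : 2 ^ i ≤ 2 ^ 1 := Nat.pow_le_pow_right two_pos (by omega)
        omega⟩
      rw [hi] at h9
      have : (4 : ℤ) ∣ 2 * (2 * j + 1) := Dvd.dvd.trans ⟨2 ^ i, by push_cast; ring⟩ h9
      omega
  have h8 := conj_mem_of_mem_normalizer hs' hr
  have h9 : s * r * s⁻¹ * r⁻¹ * (s * r * s⁻¹ * r⁻¹) = 1 := by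
    rw [mul_assoc, ← mul_assoc r⁻¹, comm D cD _ (inv_mem hr) _ h8]
    calc _ = s * (r * r) * s⁻¹ * (r * r)⁻¹ := by group
      _ = 1 := by rw [e, ← mem_Cz.1 hs]; group
  by_cases h10 : s * r * s⁻¹ * r⁻¹ = 1
  · obtain ⟨ρ, hρ⟩ := ex_pi P K T h hc
    have m1 : r ∈ Cz s := mem_Cz.2 (by rwa [mul_inv_eq_one, mul_inv_eq_iff_eq_mul] at h10)
    refine hρ (⟨r, m1⟩ * ⟨r, m1⟩) (by rw [coe_mul, e]) (by rw [coe_mul, e]; exact hne.symm) ?_
    rw [map_mul, Equiv.Perm.mem_alternatingGroup, map_mul, Int.units_mul_self]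
  · have h11 := H61.eq_of_isCyclic_of_mul_self cD (mul_mem h8 (inv_mem hr)) tD h10 h.inv.2 h9 h.inv.1
    refine not_conj P K T h hs hc hne (hc.trans (isConj_iff.2 ⟨r, ?_⟩))
    rw [← inv_eq_of_mul_eq_one_right h.inv.1, ← h11]; group

end H97.A8
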