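import Cfsg.Agent.H86.SPODef

/-! STD-SP (row S3129), orthogonal model: slot `M1` (the facts `M1` and `M2`). -/

set_option autoImplicit false
set_option linter.unusedSectionVars false

namespace H97.SPO

open H64.SG (O2 Syl Cz Cs Ns cjs Is2 Inv2 IsO2 fx)
open H64.YE (M1 M2)
open H67.SP (Lr Sr)
open H67.UA (XU)
open H59.SO
open H56 H58 QuadraticMap Module Subgroup H86.SPO

variable {n : ℕ} {F V : Type} [Field F] [StarRing F] [TrivialStar F] [CharP F 2] [Finite F]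
  [AddCommGroup V] [Module F V] [FiniteDimensional F V] {Q : QuadraticForm F V}
  {ι : XU n F →* Om Q} {r : Fr Q} {w : V}

theorem refl_self2 {a : V} (h : Q a ≠ 0) : refl Q a a = a := by
  rw [refl_apply_self h, neg2 F]

/-- `E x y (τ (E x y))⁻¹ = E x w` if `B(w, y) = 1`. -/
theorem tw_E (k : KG Q) (hw : Q w = 1) {x y : V} (hx : Q x = 0) (h1 : polar Q x w = 0)
    (h2 : polar Q x y = 0) (h3 : polar Q w y = 1) :
    E Q x y * (ta Q w (E Q x y))⁻¹ = E Q x w := by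
  have e1 : refl Q w x = x := refl_apply_of_orth (by rw [polar_comm, h1])
  have e2 : refl Q w y = y + w := by rw [refl_apply, hw, h3, sub2 F]; simp
  rw [k.tE, e1, e2, E_inv, ← E_add hx h2 (by rw [polar_add_right, h1, h2, add_zero]),
    ← add_assoc, add_self2 F, zero_add]

theorem ex_w1 (d : Dc ι r w) : ∃ y, polar Q (r.e 0) y = 0 ∧ polar Q w y = 1 := by
  have h0 : w ≠ 0 := fun h => by
    have := d.qw
    rw [h, map_zero] at this
    exact zero_ne_one this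
  obtain ⟨y, hy, h⟩ := r.exists_polar d.par.toPar0 (x := w) (fun i => ⟨d.we i, d.wf i⟩) h0
  exact ⟨y, (hy 0).1, h⟩

theorem ex_g (d : Dc ι r w) {x : V} (h0 : x ≠ 0) (hx : Q x = 0) (h : polar Q x w = 0) :
    ∃ g : Om Q, g.1 (r.e 0) = x ∧ g.1 w = w :=
  d.par.toPar0.witt_c2 (r.ne 0) (r.qe 0) (d.we 0) (by rw [d.qw]; exact one_ne_zero) h0 hx h rfl

theorem gen (d : Dc ι r w) {a : Om Q} (ha : a.1 w = w + r.e 0) :
    ι.range ⊔ cjs a ι.range = ⊤ := by
  set H := ι.range ⊔ cjs a ι.range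
  have h1 : ∀ y : Om Q, y.1 w = w → y ∈ H := fun y h => mem_sup_left ((d.rng y).2 h)
  have h2 : ∀ y : Om Q, y.1 (w + r.e 0) = w + r.e 0 → y ∈ H := fun y h =>
    mem_sup_right ⟨a⁻¹ * y * a, (d.rng _).2 (by
      change a.1⁻¹ (y.1 (a.1 w)) = w
      rw [ha, h, ← ha, O.inv_apply_apply]), by simp [mul_assoc]⟩
  have h3 : ∀ x, Q x = 0 → polar Q x w = 0 → ∀ y : Om Q, y.1 (w + x) = w + x → y ∈ H := by
    intro x hx hxw y hy
    by_cases h0 : x = 0
    · exact h1 y (by simpa [h0] using hy)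
    obtain ⟨g, g0, gw⟩ := ex_g d h0 hx hxw
    have e : g.1 (w + r.e 0) = w + x := by rw [map_add, g0, gw]
    have := h2 (g⁻¹ * y * g) (by
      change g.1⁻¹ (y.1 (g.1 _)) = _
      rw [e, hy, ← e, O.inv_apply_apply])
    simpa [mul_assoc] using H.mul_mem (H.mul_mem (h1 g gw) this) (H.inv_mem (h1 g gw))
  have h4 : ∀ u, Q u = 0 → polar Q u w = 0 → polar Q u (r.e 1) = 0 → polar Q u (r.f 1) = 0 →
      Ru Q u ≤ H := by
    intro u hu uw ue uf
    have h5 : ∀ x, polar Q x (r.e 1) ≠ 0 → E Q u x ∈ H := fun x hx => by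
      refine h3 ((polar Q x w / polar Q x (r.e 1)) • r.e 1) (by rw [H56.Q_smul, r.qe, mul_zero])
        (by rw [polar_smul_left, d.we, smul_zero]) _ (E_fix ?_ ?_)
      · rw [polar_add_right, polar_smul_right, uw, ue, smul_zero, add_zero]
      · rw [polar_add_right, polar_smul_right, smul_eq_mul, div_mul_cancel₀ _ hx,
          CharTwo.add_self_eq_zero]
    have hf : polar Q (r.f 1) (r.e 1) = 1 := by simp [r.fe]
    refine (Ru_le hu).2 fun x hx => ?_
    by_cases h6 : polar Q x (r.e 1) = 0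
    · have : x = (x + r.f 1) + r.f 1 := by rw [add_assoc, add_self2 F, add_zero]
      rw [this, E_add hu (by rw [polar_add_right, hx, uf, add_zero]) uf]
      exact H.mul_mem (h5 _ (by rw [polar_add_left, h6, hf]; simp)) (h5 _ (by rw [hf]; simp))
    · exact h5 x h6
  rw [eq_top_iff, ← d.fg.rf]
  exact sup_le (h4 _ (r.qe 0) (d.we 0) (r.ee 0 1) (by simp [r.ef]))
    (h4 _ (r.qf 0) (d.wf 0) (by simp [r.fe]) (r.ff 0 1))

theorem m1 (d : Dc ι r w) (k : KG Q) : M1 ι (ta Q w) r.U := by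
  have hw : Q w ≠ 0 := by rw [d.qw]; exact one_ne_zero
  refine ⟨k.t2 w, fun y => (k.fx w y hw).trans (d.rng y).symm, r.syl, d.stU, fun h => ?_, ?_⟩
  · obtain ⟨g, hg⟩ := d.fa.a3 _ ⟨1, by rw [pow_one, pow_two, k.t2]⟩ (.inr h)
    exact k.out w hw g hg
  · obtain ⟨y, y0, yw⟩ := ex_w1 d
    obtain ⟨u, hu⟩ := (d.rng (E Q (r.e 0) w)).2 (E_fix (d.we 0) (polar_self2 w))
    refine ⟨E Q (r.e 0) y, u, (tw_E k d.qw (r.qe 0) (d.we 0) y0 yw).trans hu.symm, gen d ?_⟩
    rw [E_apply_orth (r.qe 0) y0 (d.we 0), polar_comm, yw, one_smul]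

theorem m2 (d : Dc ι r w) (k : KG Q) : M2 ι (ta Q w) Lr := by
  have hw : Q w ≠ 0 := by rw [d.qw]; exact one_ne_zero
  have p := d.par.toPar0
  refine ⟨fun u _ hu => ?_, fun v hv => ?_⟩
  · obtain ⟨x, h0, hx, xw, e⟩ := (d.lr u).1 hu
    obtain ⟨y, y0, yw⟩ := ex_w1 d
    obtain ⟨g, g0, gw⟩ := ex_g d h0 hx xw
    exact ⟨E Q x (g.1 y), e.trans (tw_E k d.qw hx xw (by rw [← g0, O.map_polar, y0])
      (by rw [← gw, O.map_polar, yw])).symm⟩
  · have h1 : v.1 * refl Q w * (v.1 * refl Q w) = 1 := by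
      have := congrArg Subtype.val hv
      rw [Subgroup.coe_mul, k.val] at this
      simpa [mul_assoc] using this
    have h2 : v.1 * refl Q w ∉ EG Q := fun h => p.refl_notMem hw (by
      simpa using (EG Q).mul_mem ((EG Q).inv_mem v.2) h)
    obtain ⟨x, -, ⟨z, hz⟩, h3, h4⟩ := d.fs.x0 _ h1
    have h5 : Q x = 1 := h3.resolve_left fun h => h2 (h4.2 h)
    have h6 : (v.1 * refl Q w) x = x := by
      rw [hz, map_sub, ← O.mul_apply, h1, O.one_apply, sub2 F, sub2 F, add_comm]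
    obtain ⟨g, hg⟩ := k.w1 w x d.qw h5
    have h7 : (g⁻¹ * v * ta Q w g).1 w = w := by
      change g.1⁻¹ (v.1 ((ta Q w g).1 w)) = w
      rw [k.val, O.mul_apply, O.mul_apply, refl_self2 hw, hg, ← O.mul_apply v.1, h6, ← hg,
        O.inv_apply_apply]
    obtain ⟨u, hu⟩ := (d.rng _).2 h7
    have h8 := (k.fx w _ hw).2 h7
    have h9 : ∀ y, ta Q w (ta Q w y) = y := fun y => by rw [← MulAut.mul_apply, k.t2]; rfl
    refine ⟨g, u, d.inj ?_, by rw [hu]; group⟩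
    rw [map_mul, map_one, hu]
    nth_rw 2 [← h8]
    rw [map_mul, map_mul, map_inv, h9]
    calc _ = g⁻¹ * (v * ta Q w v) * g := by group
      _ = 1 := by rw [hv]; group

theorem jobM1 : H86.SPO.JobM1 := by
  intro n F _ _ _ _ _ _ _ _ _ V _ _ _ Q ι r w d k
  exact ⟨m1 d k.toKG, m2 d k.toKG⟩

end H97.SPO
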