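import Cfsg.Agent.H74.RESpec
import Cfsg.Agent.H14.FEKit

/-! S1308, chapter RE, job NR: `N_Q(R)` normalises `C_R(T)`. -/

set_option autoImplicit false

namespace H97.RENR

open Cfsg Subgroup H14 H98 H1.Gold H31.S2 H14.GC H14.FE H14.NF
open scoped commutatorElement

universe u

/-- automorphisms of `R` that preserve `R ∩ C` -/
def pres {G : Type u} [Group G] (R C : Subgroup G) : Subgroup (MulAut R) where
  carrier := {σ | ∀ r : R, (r : G) ∈ C ↔ (σ r : G) ∈ C}
  one_mem' := fun _ => Iff.rfl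
  mul_mem' := fun {a b} ha hb r => (hb r).trans (ha (b r))
  inv_mem' := fun {a} ha r => by
    have := ha (a⁻¹ r)
    rw [MulAut.apply_inv_self] at this
    exact this.symm

theorem el_ab {G : Type u} [Group G] {R : Subgroup G} (el : El R) : FE.Ab R := fun a ha b hb => by
  have h1 := el _ (mul_mem ha hb)
  calc a * b = (b * b) * (a * b) * (a * a) := by rw [el a ha, el b hb]; group
    _ = b * (b * a * b * a) * a := by group
    _ = b * (a * b * (a * b))⁻¹ * a := by
      rw [mul_inv_rev, mul_inv_rev, inv_eq_of_mul_eq_one_right (el a ha),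
        inv_eq_of_mul_eq_one_right (el b hb)]; group
    _ = b * a := by rw [h1]; group

theorem nr : H74.RE.NR.{u} := by
  intro G _ _ Q R T h d dQ dN r rR rC
  have : Fact (Nat.Prime 2) := ⟨Nat.prime_two⟩
  have hQ := h.normal
  let φ := normalizerMonoidHom R
  have fa : ∀ (g : nor R) (x : R), ((φ g x : R) : G) = g * x * (g : G)⁻¹ := fun _ _ => rfl
  let ψ : T →* MulAut R := φ.comp (inclusion h.nR)
  let D : Subgroup G := Q ⊓ nor R
  let χ : D →* MulAut R := φ.comp (inclusion inf_le_right)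
  have pa : ∀ (g : T) (x : R), ((ψ g x : R) : G) = g * x * (g : G)⁻¹ := fun _ _ => rfl
  have ca : ∀ (g : D) (x : R), ((χ g x : R) : G) = g * x * (g : G)⁻¹ := fun _ _ => rfl
  have fix : ∀ t : T, t ≠ 1 → ∀ x : R, (x : G) ∈ cen T ↔ ψ t x = x := fun t t1 x => by
    constructor
    · intro hx
      refine Subtype.ext ?_
      rw [pa, mem_centralizer_iff.1 hx t t.2, mul_inv_cancel_right]
    · intro hx
      have e := congrArg Subtype.val hx
      rw [pa, mul_inv_eq_iff_eq_mul] at e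
      exact h.c1 t t.2 (fun e1 => t1 (Subtype.ext e1)) x x.2 e.symm
  have inj : Function.Injective ψ := (injective_iff_map_eq_one ψ).2 fun t ht => by
    by_contra t1
    obtain ⟨y, yR, yC, -⟩ := h.onto
    exact yC ((fix t t1 ⟨y, yR⟩).2 (by rw [ht]; rfl))
  have hA : IsElementaryAbelian 2 ψ.range := by
    refine ⟨⟨⟨?_⟩⟩, ?_⟩
    · rintro ⟨_, a, rfl⟩ ⟨_, b, rfl⟩
      refine Subtype.ext ?_
      show ψ a * ψ b = ψ b * ψ a
      rw [← map_mul, ← map_mul]
      exact congrArg ψ (Subtype.ext (el_ab h.elT a a.2 b b.2))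
    · rintro _ ⟨a, rfl⟩
      rw [← map_pow, show a ^ 2 = 1 from Subtype.ext (by simpa [pow_two] using h.elT a a.2), map_one]
  have h4 : 4 ≤ Nat.card ψ.range := by
    rw [← Nat.card_congr (MonoidHom.ofInjective inj).toEquiv]
    obtain ⟨E, -, e4, hl⟩ := h.four.exists_e4
    rw [← e4]
    exact card_le_of_le hl
  have hodd : Odd (Nat.card χ.range) := by
    rw [← index_ker]
    have hle : R.subgroupOf D ≤ χ.ker := fun x hx => by
      refine MonoidHom.mem_ker.2 (MulEquiv.ext fun y => Subtype.ext ?_)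
      rw [ca, el_ab h.elR x hx y y.2, mul_inv_cancel_right]
      rfl
    have h2 := (h.syl.of_le (le_inf h.syl.le le_normalizer) (inf_le_left : D ≤ Q)).not_dvd_relIndex
    rw [Nat.odd_iff, ← Nat.two_dvd_ne_zero]
    exact fun e => h2 (e.trans (index_dvd_of_le hle))
  have hn : ψ.range ≤ nor χ.range := by
    rintro _ ⟨t, rfl⟩
    refine mem_normalizer_of_cj_le ?_
    rintro _ ⟨_, ⟨x, rfl⟩, rfl⟩
    refine ⟨⟨t * x * (t : G)⁻¹, mem_inf.2 ⟨hQ.conj_mem _ (mem_inf.1 x.2).1 _,
      mul_mem (mul_mem (h.nR t.2) (mem_inf.1 x.2).2) (inv_mem (h.nR t.2))⟩⟩, ?_⟩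
    show _ = ψ t * χ x * (ψ t)⁻¹
    simp only [ψ, χ, MonoidHom.comp_apply, ← map_inv, ← map_mul]
    rfl
  have key : χ.range ≤ pres R (cen T) := by
    refine (⟨hodd, hn⟩ : OI ψ.range χ.range).le_of_cen1 hA h4 ?_
    rintro _ ⟨t, rfl⟩ t1 b hb x
    have t1' : t ≠ 1 := fun e => t1 (by rw [e, map_one])
    have hc : b * ψ t = ψ t * b := mem_centralizer_singleton_iff.1 hb.2
    rw [fix t t1', fix t t1', ← MulAut.mul_apply, ← hc, MulAut.mul_apply]
    exact b.injective.eq_iff.symm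
  exact (key ⟨⟨d, dQ, dN⟩, rfl⟩ ⟨r, rR⟩).1 rC

end H97.RENR
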