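import Cfsg.Agent.H97.QUSpec2
import Cfsg.Agent.H96.GUno

/-! Four-groups, conjugation lemmas and dihedral 2-groups for the tower `blueprints/QU.md`. -/

set_option autoImplicit false
set_option linter.unusedSectionVars false

namespace H97.QU

open Subgroup Cfsg H98 H96.CG
open H52 (zc)
open scoped commutatorElement

universe u

variable {G : Type u} [Group G]

section Four

variable {a b x g : G} {D : Subgroup G}

theorem inv_of_sq (h : a * a = 1) : a⁻¹ = a := inv_eq_of_mul_eq_one_right h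

theorem mem_pair (ha : a * a = 1) (hb : b * b = 1) (h : Commute a b) :
    x ∈ closure {a, b} ↔ x = 1 ∨ x = a ∨ x = b ∨ x = a * b := by
  have e1 : ∀ y, a * (a * y) = y := fun y => by rw [← mul_assoc, ha, one_mul]
  have e2 : ∀ y, b * (a * y) = a * (b * y) := fun y => by rw [← mul_assoc, ← h.eq, mul_assoc]
  refine ⟨fun hx => ?_, ?_⟩
  · induction hx using closure_induction_left with
    | one => exact .inl rfl
    | mul_left y hy w _ ih =>
      rcases hy with rfl | rfl <;> rcases ih with rfl | rfl | rfl | rfl <;>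
        simp [ha, hb, e1, e2, h.eq.symm]
    | inv_mul_cancel y hy w _ ih =>
      rcases hy with rfl | rfl
      · rw [inv_of_sq ha]
        rcases ih with rfl | rfl | rfl | rfl <;> simp [ha, e1]
      · rw [inv_of_sq hb]
        rcases ih with rfl | rfl | rfl | rfl <;> simp [hb, e2, h.eq.symm]
  · have h1 : a ∈ closure {a, b} := subset_closure (by simp)
    have h2 : b ∈ closure {a, b} := subset_closure (by simp)
    rintro (rfl | rfl | rfl | rfl)
    exacts [one_mem _, h1, h2, mul_mem h1 h2]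

theorem mem_pair_left (a b : G) : a ∈ closure {a, b} := subset_closure (by simp)

theorem mem_pair_right (a b : G) : b ∈ closure {a, b} := subset_closure (by simp)

theorem pair_le {H : Subgroup G} : closure {a, b} ≤ H ↔ a ∈ H ∧ b ∈ H := by
  simp [closure_le, Set.insert_subset_iff]

theorem cj_pair (g a b : G) : cj g (closure {a, b}) = closure {g * a * g⁻¹, g * b * g⁻¹} := by
  simp [MonoidHom.map_closure, Set.image_insert_eq]

theorem mem_zpowers_inv (ha : a * a = 1) : x ∈ zpowers a ↔ x = 1 ∨ x = a := by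
  have := mem_pair (x := x) ha ha (Commute.refl a)
  rw [Set.pair_eq_singleton, ← zpowers_eq_closure, ha] at this
  tauto

theorem ea_pair (ha : a * a = 1) (hb : b * b = 1) (h : Commute a b) : IsElementaryAbelian 2 (closure {a, b}) :=
  H12.ea_closure (by rintro x (rfl | rfl) y (rfl | rfl) <;> simp [h.eq]) (by
    rintro x (rfl | rfl) <;> rwa [sq])

theorem v4_pair (ha : a * a = 1) (hb : b * b = 1) (h : Commute a b) (a1 : a ≠ 1) (b1 : b ≠ 1) (ab : a ≠ b) :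
    V4 (closure {a, b}) := by
  classical
  refine ⟨ea_pair ha hb h, ?_⟩
  have e : ((closure {a, b} : Subgroup G) : Set G) = ({1, a, b, a * b} : Finset G) := by
    ext x; simp [mem_pair ha hb h]
  have n : a * b ≠ 1 := fun e => ab (by rw [← inv_of_sq ha, inv_eq_of_mul_eq_one_right e])
  rw [← SetLike.coe_sort_coe, e, Finset.coe_sort_coe, Nat.card_eq_finsetCard, Finset.card_insert_of_notMem,
    Finset.card_insert_of_notMem, Finset.card_pair]
  · simpa using a1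
  · simp [ab, b1]
  · simp [a1.symm, b1.symm, n.symm]

theorem V4.two (h : V4 D) : IsPGroup 2 D := H12.ea_isPGroup h.1

theorem V4.sq (h : V4 D) (hx : x ∈ D) : x * x = 1 := ea_sq h.1 hx

theorem V4.le_cen (h : V4 D) : D ≤ cen D := H12.ea_le_centralizer h.1

theorem V4.ne_bot (h : V4 D) : D ≠ ⊥ := fun e => by have := h.2; simp [e] at this

theorem V4.eq_pair [Finite G] (h : V4 D) (ha : a ∈ D) (hb : b ∈ D) (a1 : a ≠ 1) (b1 : b ≠ 1) (ab : a ≠ b) :
    D = closure {a, b} :=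
  (eq_of_le_of_card_ge (pair_le.2 ⟨ha, hb⟩)
    (h.2.trans (v4_pair (h.sq ha) (h.sq hb) (ea_com h.1 ha hb) a1 b1 ab).2.symm).le).symm

theorem V4.cases [Finite G] (h : V4 D) (ha : a ∈ D) (hb : b ∈ D) (a1 : a ≠ 1) (b1 : b ≠ 1) (ab : a ≠ b)
    (hx : x ∈ D) : x = 1 ∨ x = a ∨ x = b ∨ x = a * b :=
  (mem_pair (h.sq ha) (h.sq hb) (ea_com h.1 ha hb)).1 (h.eq_pair ha hb a1 b1 ab ▸ hx)

theorem V4.exists_ne [Finite G] (h : V4 D) (a : G) : ∃ b ∈ D, b ≠ 1 ∧ b ≠ a := by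
  classical
  by_contra e
  push Not at e
  have : (D : Set G) ⊆ ({1, a} : Finset G) := fun b hb => by
    by_cases h1 : b = 1
    · simp [h1]
    · simp [e b hb h1]
  have h2 := Set.ncard_le_ncard this (Finset.finite_toSet _)
  rw [Set.ncard_coe_finset, ← Nat.card_coe_set_eq, SetLike.coe_sort_coe, h.2] at h2
  have := Finset.card_le_two (a := (1 : G)) (b := a)
  omega

theorem V4.cj (h : V4 D) (g : G) : V4 (cj g D) := ⟨H12.ea_map h.1 _, (card_cj g D).trans h.2⟩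

/-- an element of order three moving a four-group permutes its involutions cyclically -/
theorem V4.rot [Finite G] (h : V4 D) (hx : x ∈ nor D) (h3 : orderOf x = 3) (hc : x ∉ cen D) (ha : a ∈ D)
    (a1 : a ≠ 1) : x * a * x⁻¹ ≠ a ∧ x * (x * a * x⁻¹) * x⁻¹ = x * a * x⁻¹ * a := by
  have x3 : ∀ y, x * (x * (x * y * x⁻¹) * x⁻¹) * x⁻¹ = y := fun y => by
    have : x ^ 3 = 1 := h3 ▸ pow_orderOf_eq_one x
    calc _ = x ^ 3 * y * (x ^ 3)⁻¹ := by simp [pow_succ, mul_assoc]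
      _ = y := by simp [this]
  have inj : ∀ {y w : G}, x * y * x⁻¹ = x * w * x⁻¹ → y = w := fun e => by simpa using e
  have ne1 : ∀ {y : G}, y ≠ 1 → x * y * x⁻¹ ≠ 1 := fun e e' => e (inj (by simpa using e'))
  have key : ∀ a ∈ D, a ≠ 1 → x * a * x⁻¹ ≠ a := by
    intro a ha a1 e
    obtain ⟨b, hb, b1, ba⟩ := h.exists_ne a
    have eb : x * b * x⁻¹ = b := by
      rcases h.cases ha hb a1 b1 ba.symm (conj_mem_of_mem_normalizer hx hb) with e' | e' | e' | e'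
      · exact (ne1 b1 e').elim
      · exact (ba (inj (e'.trans e.symm))).elim
      · exact e'
      · have e2 : x * (a * b) * x⁻¹ = b := by
          rw [← conj_mul, e, e', ← mul_assoc, h.sq ha, one_mul]
        have := x3 b
        rw [e', e2, e'] at this
        exact (a1 (by simpa using this)).elim
    have ca : Commute a x := (mul_inv_eq_iff_eq_mul.1 e).symm
    have cb : Commute b x := (mul_inv_eq_iff_eq_mul.1 eb).symm
    refine hc (mem_cen.2 fun y hy => ?_)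
    rcases h.cases ha hb a1 b1 ba.symm hy with rfl | rfl | rfl | rfl
    exacts [Commute.one_left _, ca, cb, ca.mul_left cb]
  refine ⟨key a ha a1, ?_⟩
  have hb := conj_mem_of_mem_normalizer hx ha
  rcases h.cases hb ha (ne1 a1) a1 (key a ha a1) (conj_mem_of_mem_normalizer hx hb) with e | e | e | e
  · exact (ne1 (ne1 a1) e).elim
  · exact (key _ hb (ne1 a1) e).elim
  · have := x3 a
    rw [e] at this
    exact (key a ha a1 this).elim
  · exact e

end Four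

section Conj

variable {M P K H S D : Subgroup G} {g j z₀ x : G}

theorem E9.mono (h : E9 K) (e : K ≤ H) : E9 H := let ⟨E, h1, h2⟩ := h; ⟨E, h1.trans e, h2⟩

theorem E9.cj (h : E9 K) (g : G) : E9 (cj g K) :=
  let ⟨E, h1, h2, h3⟩ := h; ⟨_, cj_mono g h1, H12.ea_map h2 _, (card_cj g E).trans h3⟩

theorem cj_cen (g : G) (X : Subgroup G) : cj g (cen X) = cen (cj g X) := cj_centralizer g X

theorem cj_nor (g : G) (X : Subgroup G) : cj g (nor X) = nor (cj g X) := cj_normalizer g X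

theorem cj_zc' (g : G) (X : Subgroup G) : cj g (zc X) = zc (cj g X) := by rw [cj_inf, cj_cen]

theorem TI.cj (h : TI K) (g : G) : TI (cj g K) := fun P P' h1 h2 h3 => by
  have a1 := h1.cj g⁻¹
  have a2 := h2.cj g⁻¹
  rw [cj_inv_cj] at a1 a2
  refine cj_inj.1 (h _ _ a1 a2 fun e => h3 ?_)
  rwa [← cj_inf, cj_le_iff, inv_inv, cj_cen] at e

theorem TC.cj (h : TC j) (g : G) : TC (g * j * g⁻¹) := by
  obtain ⟨h1, h2, T, h3, h4⟩ := h
  refine ⟨by rw [conj_mul, h1]; simp, by simpa using h2, _, h3.cj_of_mem (mem_top g), ?_⟩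
  exact cj_zc' g T ▸ conj_mem_cj h4

theorem TC.of_isConj {j' : G} (h : TC j) (e : IsConj j j') : TC j' :=
  let ⟨g, hg⟩ := isConj_iff.1 e; hg ▸ h.cj g

theorem Zt.tc {T : Subgroup G} {z : G} (h : Zt M S T z) : TC z := ⟨h.z2, h.z1, T, h.syl, h.zT⟩

/-- conjugation as an isomorphism of subgroups -/
noncomputable def cjE (g : G) (K : Subgroup G) : K ≃* cj g K :=
  K.equivMapOfInjective _ (MulAut.conj g).injective

theorem quasi_cj (h : IsQuasisimple K) (g : G) : IsQuasisimple (cj g K) := H14.quasi_of_mulEquiv h (cjE g K)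

theorem IsComponentOf.cj (h : IsComponentOf K H) (g : G) : IsComponentOf (cj g K) (cj g H) :=
  isComponentOf_of ((IsComponentOf.subN h).cj g) (quasi_cj (IsComponentOf.quasi h) g)

theorem four_of_equiv {X Y : Type u} [Group X] [Group Y] (e : X ≃* Y) (h : Four X) : Four Y := by
  obtain ⟨E, h1, h2, h3⟩ := h
  refine ⟨E.map e.toMonoidHom, H12.ea_map h1 _, (card_map_of_injective e.injective).trans h2, fun y hy => ?_⟩
  obtain ⟨x, rfl⟩ := e.surjective y
  exact mem_map_of_mem _ (h3 fun a ha => e.injective (by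
    simpa using hy _ (mem_map_of_mem e.toMonoidHom ha)))

theorem B4.cj (h : B4 M P K z₀) (hg : g ∈ M) : B4 M (cj g P) (cj g K) (g * z₀ * g⁻¹) where
  simple := haveI := h.simple; (cjE g K).symm.isSimpleGroup
  nab := fun e => h.nab ⟨⟨fun a b => (cjE g K).injective (by rw [map_mul, map_mul, e.1.1])⟩⟩
  two := isPGroup_cj g h.two
  nK := cj_nor g K ▸ cj_mono g h.nK
  syl := cj_inf g P K ▸ h.syl.cj g
  zK := conj_mem_cj h.zK
  zP := cj_zc' g P ▸ conj_mem_cj h.zP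
  z1 := by simpa using h.z1
  z2 := by rw [conj_mul, h.z2]; simp
  ch := by simpa only [cj_inf, cj_cen1] using h.ch.cj g
  four := four_of_equiv (cjE g K) h.four
  nti := fun e => h.nti (by simpa only [cj_inv_cj] using e.cj g⁻¹)
  KM := fun e => h.KM ((cj_le_iff.1 e).trans (cj_eq_self_of_mem (inv_mem hg)).le)
  cM := by rw [← cj_cen1, ← cj_inf]; exact cj_le_of_le_of_mem h.cM hg
  nD := fun D h1 h2 h3 => by
    obtain ⟨D, rfl⟩ : ∃ D', H98.cj g D' = D := ⟨_, cj_cj_inv g D⟩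
    rw [← cj_inf, cj_le_cj_iff] at h1
    rw [← cj_nor, cj_le_cj_iff] at h3
    rw [← cj_nor, ← cj_inf]
    exact cj_le_of_le_of_mem (h.nD D h1 (by simpa only [cj_inv_cj] using h2.cj g⁻¹) h3) hg
  PM := cj_le_of_le_of_mem h.PM hg

theorem inf_cen_eq_bot [IsSimpleGroup K] (h : ¬ IsMulCommutative K) : K ⊓ cen K = ⊥ := by
  rw [← map_subtype_center, (IsSimpleGroup.eq_bot_or_eq_top_of_normal (center K) inferInstance).resolve_right
    fun e => h ⟨⟨fun a b => mem_center_iff.1 (e ▸ mem_top b) a⟩⟩, Subgroup.map_bot]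

theorem B4.eq_one (h : B4 M P K z₀) (h1 : x ∈ K) (h2 : x ∈ cen K) : x = 1 :=
  haveI := h.simple; mem_bot.1 (inf_cen_eq_bot h.nab ▸ mem_inf.2 ⟨h1, h2⟩)

theorem B4.quasi (h : B4 M P K z₀) : IsQuasisimple K := haveI := h.simple; H14.quasi_of_simple h.nab

theorem B4.zU (h : B4 M P K z₀) : z₀ ∈ P ⊓ K := ⟨h.zP.1, h.zK⟩

theorem B4.nU (h : B4 M P K z₀) : P ≤ nor (P ⊓ K) := le_normalizer_inf le_normalizer h.nK

/-- a subgroup of the simple group `K` normalized by `K` -/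
theorem B4.eq_or (h : B4 M P K z₀) (h1 : D ≤ K) (h2 : K ≤ nor D) : D = ⊥ ∨ D = K :=
  (H14.quasi_sub_normalized h.quasi h2).elim (fun e => .inr (le_antisymm h1 e)) fun e =>
    .inl (eq_bot_iff.2 fun _ hx => mem_bot.2 (h.eq_one (h1 hx)
      (commutator_eq_bot_iff_le_centralizer.1 e ⟨hx, h1 hx⟩)))

variable [Finite G]

/-- a nontrivial normal subgroup of a 2-group contains a central involution -/
theorem exists_inv_zc (hS : IsPGroup 2 S) (h1 : D ≤ S) (h2 : S ≤ nor D) (h : D ≠ ⊥) :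
    ∃ w ∈ D, w ∈ zc S ∧ w * w = 1 ∧ w ≠ 1 := by
  have : (D.subgroupOf S).Normal := normal_subgroupOf_of_le_normalizer h2
  have h3 : D.subgroupOf S ⊓ center S ≠ ⊥ := by
    have := hS.isNilpotent
    refine H2.inf_center_ne_bot_of_isNilpotent _ fun e => h ?_
    rw [← map_subgroupOf_eq_of_le h1, e, Subgroup.map_bot]
  obtain ⟨w, hw, e⟩ := H88.exists_involution_of_isPGroup (hS.to_subgroup _) h3
  refine ⟨w, hw.1, (map_subtype_center S).le (mem_map_of_mem S.subtype hw.2), ?_, fun e' => ?_⟩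
  · exact congrArg Subtype.val (show w * w = 1 by rw [← sq, ← e, pow_orderOf_eq_one])
  · rw [show w = 1 from Subtype.ext e', orderOf_one] at e
    omega

/-- no elementary abelian subgroup of order 27 in a 2-local subgroup -/
theorem Kit.no_rank3 {s : ℕ} (k : Kit M s) {E : Subgroup G} (hD : IsPGroup 2 D) (h : D ≠ ⊥) (hE : IsElementaryAbelian 3 E)
    (h9 : Nat.card E = 9) (h3 : orderOf x = 3) (hc : x ∈ cen E) (hx : x ∉ E) (h1 : E ≤ nor D) (h2 : x ∈ nor D) :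
    False := by
  have e := k.rk D (E ⊔ zpowers x) 3 hD h (sup_le h1 (zpowers_le.2 h2)) Nat.prime_three (by decide)
    (H12.ea_sup hE (H12.ea_zpowers (h3 ▸ pow_orderOf_eq_one x)) (cen_symm (zpowers_le.2 hc)))
  exact hx ((eq_of_le_of_card_ge (le_sup_left : E ≤ E ⊔ zpowers x) (by omega)).ge (mem_sup_right (mem_zpowers x)))

end Conj

/-! ### Groups `⟨r, d⟩` with `d` an involution normalizing `⟨r⟩` -/

theorem mem_rd {r d x : G} {m : ℤ} (dd : d * d = 1) (dr : d * r * d⁻¹ = r ^ m) :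
    x ∈ closure {r, d} ↔ ∃ k : ℤ, x = r ^ k ∨ x = d * r ^ k := by
  have e : ∀ k : ℤ, r ^ k * d = d * r ^ (m * k) := fun k => by
    rw [zpow_mul, ← dr, conj_zpow, inv_of_sq dd, ← mul_assoc, ← mul_assoc, dd, one_mul]
  refine ⟨fun hx => ?_, ?_⟩
  · induction hx using closure_induction_left with
    | one => exact ⟨0, .inl (by simp)⟩
    | mul_left y hy w _ ih =>
      obtain ⟨k, rfl | rfl⟩ := ih <;> rcases hy with rfl | rfl
      · exact ⟨1 + k, .inl (by simp [zpow_add])⟩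
      · exact ⟨k, .inr rfl⟩
      · exact ⟨m * 1 + k, .inr (by rw [zpow_add, ← mul_assoc, ← mul_assoc, ← e, zpow_one])⟩
      · exact ⟨k, .inl (by rw [← mul_assoc, dd, one_mul])⟩
    | inv_mul_cancel y hy w _ ih =>
      obtain ⟨k, rfl | rfl⟩ := ih <;> rcases hy with rfl | rfl
      · exact ⟨-1 + k, .inl (by simp [zpow_add])⟩
      · exact ⟨k, .inr (by rw [inv_of_sq dd])⟩
      · exact ⟨m * -1 + k, .inr (by rw [zpow_add, ← mul_assoc, ← mul_assoc, ← e, zpow_neg_one])⟩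
      · exact ⟨k, .inl (by simp)⟩
  · rintro ⟨k, rfl | rfl⟩
    · exact zpow_mem (mem_pair_left r d) k
    · exact mul_mem (mem_pair_right r d) (zpow_mem (mem_pair_left r d) k)

theorem rel_mul_card {H K : Subgroup G} (h : H ≤ K) : H.relIndex K * Nat.card H = Nat.card K := by
  rw [← (H.subgroupOf K).index_mul_card, relIndex, Nat.card_congr (subgroupOfEquivOfLe h).toEquiv]

theorem rel_two {H K : Subgroup G} {a : G} (ha : a ∈ K) (hn : a ∉ H) (h : ∀ b ∈ K, b ∈ H ∨ b * a ∈ H) :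
    H.relIndex K = 2 :=
  relIndex_eq_two_iff.2 ⟨a, ha, fun b hb => by
    by_cases e : b ∈ H
    · exact .inr ⟨e, fun e' => hn (by simpa using mul_mem (inv_mem e) e')⟩
    · exact .inl ⟨(h b hb).resolve_left e, e⟩⟩

theorem card_two {H K : Subgroup G} {a : G} (hH : H ≤ K) (ha : a ∈ K) (hn : a ∉ H)
    (h : ∀ b ∈ K, b ∈ H ∨ b * a ∈ H) : Nat.card K = 2 * Nat.card H := by
  rw [← rel_mul_card hH, rel_two ha hn h]

theorem card_rd {r d : G} {m : ℤ} (dd : d * d = 1) (dr : d * r * d⁻¹ = r ^ m) (nm : d ∉ zpowers r) :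
    Nat.card (closure {r, d} : Subgroup G) = 2 * orderOf r := by
  rw [← Nat.card_zpowers]
  refine card_two (zpowers_le.2 (mem_pair_left r d)) (mem_pair_right r d) nm fun b hb => ?_
  obtain ⟨k, rfl | rfl⟩ := (mem_rd dd dr).1 hb
  · exact .inl (zpow_mem_zpowers r k)
  · exact .inr ⟨m * k, by simp only [zpow_mul, ← dr, conj_zpow]; rw [inv_of_sq dd]⟩

namespace Dih

variable {K U D : Subgroup G} {z₀ r d x y : G} {n : ℕ} (h : Dih K U z₀ n r d)
include h

theorem mem : x ∈ U ↔ ∃ k : ℤ, x = r ^ k ∨ x = d * r ^ k := h.gen ▸ mem_rd h.dd (by rw [h.dr, zpow_neg_one])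

theorem rU : r ∈ U := h.gen ▸ mem_pair_left r d

theorem dU : d ∈ U := h.gen ▸ mem_pair_right r d

theorem le : U ≤ K := h.cz ▸ inf_le_left

theorem pow_d (k : ℤ) : r ^ k * d = d * r ^ (-k) := by
  rw [zpow_neg, ← inv_zpow, ← h.dr, conj_zpow, inv_of_sq h.dd, ← mul_assoc, ← mul_assoc, h.dd, one_mul]

theorem refl_sq (k : ℤ) : d * r ^ k * (d * r ^ k) = 1 := by
  rw [mul_assoc, ← mul_assoc (r ^ k), h.pow_d, ← mul_assoc, ← mul_assoc, h.dd]
  simp

theorem pow_eq_one {k : ℤ} : r ^ k = 1 ↔ (2 : ℤ) ^ n ∣ k := by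
  rw [← orderOf_dvd_iff_zpow_eq_one, h.ord]; simp

theorem pow_eq {k l : ℤ} : r ^ k = r ^ l ↔ (2 : ℤ) ^ n ∣ k - l := by
  rw [← h.pow_eq_one, zpow_sub, mul_inv_eq_one]

theorem ez' : z₀ = r ^ ((2 : ℤ) ^ (n - 1)) := by rw [h.ez, ← zpow_natCast]; simp

theorem two_pow : (2 : ℤ) ^ n = 2 * 2 ^ (n - 1) := by
  rw [← pow_succ', Nat.sub_add_cancel (by have := h.two; omega)]

theorem two_pow' : (2 : ℤ) ^ (n - 1) = 2 * 2 ^ (n - 2) := by
  rw [← pow_succ']; congr 1; have := h.two; omega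

theorem z2 : z₀ * z₀ = 1 := by
  rw [h.ez', ← zpow_add, h.pow_eq_one, h.two_pow, two_mul]

theorem z1 : z₀ ≠ 1 := by
  rw [h.ez', Ne, h.pow_eq_one, h.two_pow]
  intro e
  have := Int.le_of_dvd (by positivity) e
  have : (0 : ℤ) < 2 ^ (n - 1) := by positivity
  omega

theorem zU : z₀ ∈ U := h.ez ▸ pow_mem h.rU _

theorem com (hx : x ∈ U) : Commute x z₀ := mem_cen1.1 (h.cz.ge hx).2

theorem pow_inv {k : ℤ} (e : r ^ k * r ^ k = 1) : r ^ k = 1 ∨ r ^ k = z₀ := by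
  rw [← zpow_add, h.pow_eq_one, h.two_pow, ← two_mul, Int.mul_dvd_mul_iff_left two_ne_zero] at e
  obtain ⟨c, rfl⟩ := e
  rw [zpow_mul, ← h.ez']
  exact (mem_zpowers_inv h.z2).1 (zpow_mem_zpowers _ _)

theorem inv_cases (hx : x ∈ U) (e : x * x = 1) : x = 1 ∨ x = z₀ ∨ ∃ k : ℤ, x = d * r ^ k := by
  obtain ⟨k, rfl | rfl⟩ := h.mem.1 hx
  · exact (h.pow_inv e).imp_right .inl
  · exact .inr (.inr ⟨k, rfl⟩)

theorem refl_ne (k l : ℤ) : d * r ^ k ≠ r ^ l := fun e =>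
  h.nm ⟨l - k, by simp only [zpow_sub, ← e, mul_inv_cancel_right]⟩

theorem refl_comm {k l : ℤ} : Commute (d * r ^ k) (d * r ^ l) ↔ (2 : ℤ) ^ (n - 1) ∣ k - l := by
  have e : ∀ k l : ℤ, d * r ^ k * (d * r ^ l) = r ^ (l - k) := fun k l => by
    rw [mul_assoc, ← mul_assoc (r ^ k), h.pow_d, ← mul_assoc, ← mul_assoc, h.dd, one_mul, ← zpow_add]
    congr 1; ring
  rw [Commute, SemiconjBy, e, e, h.pow_eq, h.two_pow, show l - k - (k - l) = 2 * -(k - l) by ring,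
    Int.mul_dvd_mul_iff_left two_ne_zero, dvd_neg]

theorem pow_comm {k l : ℤ} : Commute (r ^ k) (d * r ^ l) ↔ (2 : ℤ) ^ (n - 1) ∣ k := by
  rw [Commute, SemiconjBy, ← mul_assoc, h.pow_d, mul_assoc, mul_assoc, mul_right_inj, ← zpow_add, ← zpow_add, h.pow_eq,
    h.two_pow, show -k + l - (l + k) = 2 * -k by ring, Int.mul_dvd_mul_iff_left two_ne_zero, dvd_neg]

theorem pow_z {k : ℤ} (e : (2 : ℤ) ^ (n - 1) ∣ k) : r ^ k = 1 ∨ r ^ k = z₀ :=
  h.pow_inv (by rw [← zpow_add, h.pow_eq_one, h.two_pow, ← two_mul]; exact mul_dvd_mul_left 2 e)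

theorem not_dvd_one : ¬ (2 : ℤ) ^ (n - 1) ∣ 1 := by
  rw [h.two_pow']
  exact fun e => by have := (Dvd.intro _ rfl).trans e; omega

theorem cent (hx : x ∈ U) (h1 : Commute x r) (h2 : Commute x d) : x = 1 ∨ x = z₀ := by
  obtain ⟨k, rfl | rfl⟩ := h.mem.1 hx
  · exact h.pow_z ((h.pow_comm (l := 0)).1 (by simpa using h2))
  · exact (h.not_dvd_one ((h.pow_comm (k := 1)).1 (by simpa using h1.symm))).elim

theorem shift (k : ℤ) : Dih K U z₀ n r (d * r ^ k) where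
  two := h.two
  ord := h.ord
  dd := h.refl_sq k
  dr := by rw [← h.dr]; group
  nm := fun ⟨l, e⟩ => h.refl_ne k l e.symm
  gen := le_antisymm (h.gen.le.trans (pair_le.2 ⟨mem_pair_left _ _, by
    simpa using mul_mem (mem_pair_right r (d * r ^ k)) (inv_mem (zpow_mem (mem_pair_left r _) k))⟩))
    (pair_le.2 ⟨h.rU, mul_mem h.dU (zpow_mem h.rU k)⟩)
  ez := h.ez
  cz := h.cz

theorem v4 (k : ℤ) : V4 (closure {z₀, d * r ^ k}) :=
  v4_pair h.z2 (h.refl_sq k) (h.com (h.shift k).dU).symm h.z1 (by simpa using h.refl_ne k 0)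
    fun e => h.refl_ne k _ (e.symm.trans h.ez')

theorem v4_le (k : ℤ) : closure {z₀, d * r ^ k} ≤ U := pair_le.2 ⟨h.zU, (h.shift k).dU⟩

theorem gen' : U = closure {d, d * r} := le_antisymm (h.gen.le.trans (pair_le.2 ⟨by
    simpa using mul_mem (inv_mem (mem_pair_left d (d * r))) (mem_pair_right d (d * r)), mem_pair_left _ _⟩))
  (pair_le.2 ⟨h.dU, mul_mem h.dU h.rU⟩)

theorem conj_refl (m k : ℤ) : r ^ m * (d * r ^ k) * (r ^ m)⁻¹ = d * r ^ (k - 2 * m) := by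
  rw [← mul_assoc, h.pow_d, mul_assoc, mul_assoc, ← zpow_neg, ← zpow_add, ← zpow_add]
  congr 2; ring

theorem conj_d (k : ℤ) : d * (d * r ^ k) * d⁻¹ = d * r ^ (-k) := by
  rw [← mul_assoc, h.dd, one_mul, inv_of_sq h.dd, h.pow_d]

theorem conj_refl' (m k : ℤ) : d * r ^ m * (d * r ^ k) * (d * r ^ m)⁻¹ = d * r ^ (2 * m - k) := by
  rw [show d * r ^ m * (d * r ^ k) * (d * r ^ m)⁻¹ = d * (r ^ m * (d * r ^ k) * (r ^ m)⁻¹) * d⁻¹ by group,
    h.conj_refl, h.conj_d, neg_sub]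

theorem mem_v4 {k l : ℤ} : d * r ^ l ∈ closure {z₀, d * r ^ k} ↔ (2 : ℤ) ^ (n - 1) ∣ l - k := by
  refine ⟨fun e => h.refl_comm.1 (ea_com (h.v4 k).1 e (mem_pair_right _ _)), fun e => ?_⟩
  rw [show d * r ^ l = d * r ^ k * r ^ (l - k) by group]
  rcases h.pow_z e with e | e <;> rw [e]
  · simpa using mem_pair_right _ _
  · exact mul_mem (mem_pair_right _ _) (mem_pair_left _ _)

/-- the two classes of four-groups are not fused in `U` -/
theorem not_cj (hx : x ∈ U) {k l : ℤ} (e : cj x (closure {z₀, d * r ^ k}) = closure {z₀, d * r ^ l}) : 2 ∣ k - l := by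
  have e1 := e.le (conj_mem_cj (mem_pair_right z₀ (d * r ^ k)))
  obtain ⟨m, rfl | rfl⟩ := h.mem.1 hx
  · rw [h.conj_refl, h.mem_v4, h.two_pow'] at e1
    have := (Dvd.intro _ rfl).trans e1
    omega
  · rw [h.conj_refl', h.mem_v4, h.two_pow'] at e1
    have := (Dvd.intro _ rfl).trans e1
    omega

theorem cj_v4 (m k : ℤ) : cj (r ^ m) (closure {z₀, d * r ^ k}) = closure {z₀, d * r ^ (k - 2 * m)} := by
  rw [cj_pair, h.conj_refl, (h.com (zpow_mem h.rU m)).eq, mul_inv_cancel_right]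

variable [Finite G]

theorem card : Nat.card U = 2 ^ (n + 1) := by
  rw [h.gen, card_rd h.dd (by rw [h.dr, zpow_neg_one]) h.nm, h.ord, pow_succ']

theorem isPGroup : IsPGroup 2 U := IsPGroup.of_card h.card

theorem v4_cases (h1 : D ≤ U) (h2 : V4 D) : ∃ k : ℤ, D = closure {z₀, d * r ^ k} := by
  have key : ∀ a ∈ D, a ≠ 1 → a ≠ z₀ → ∃ k : ℤ, a = d * r ^ k := fun a ha a1 az =>
    ((h.inv_cases (h1 ha) (h2.sq ha)).resolve_left a1).resolve_left az
  have hz : z₀ ∈ D := by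
    by_contra hz
    obtain ⟨a, ha, a1, -⟩ := h2.exists_ne 1
    obtain ⟨b, hb, b1, ba⟩ := h2.exists_ne a
    obtain ⟨k, rfl⟩ := key a ha a1 fun e => hz (e ▸ ha)
    obtain ⟨l, rfl⟩ := key b hb b1 fun e => hz (e ▸ hb)
    rcases h.pow_z (h.refl_comm.1 (ea_com h2.1 hb ha)) with e | e
    · exact ba (by rw [zpow_sub, mul_inv_eq_one] at e; rw [e])
    · exact hz (by rw [← e, show r ^ (l - k) = (d * r ^ k)⁻¹ * (d * r ^ l) by group]; exact mul_mem (inv_mem ha) hb)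
  obtain ⟨a, ha, a1, az⟩ := h2.exists_ne z₀
  obtain ⟨k, rfl⟩ := key a ha a1 az
  exact ⟨k, h2.eq_pair hz ha h.z1 a1 az.symm⟩

/-- an elementary abelian subgroup has order at most four -/
theorem ea_card {E : Subgroup G} (h1 : E ≤ U) (h2 : IsElementaryAbelian 2 E) : Nat.card E ≤ 4 := by
  by_cases e : ∃ k : ℤ, d * r ^ k ∈ E
  · obtain ⟨k, hk⟩ := e
    refine (card_le_of_le fun a ha => ?_).trans (h.v4 k).2.le
    rcases h.inv_cases (h1 ha) (ea_sq h2 ha) with rfl | rfl | ⟨l, rfl⟩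
    exacts [one_mem _, mem_pair_left _ _, h.mem_v4.2 (h.refl_comm.1 (ea_com h2 ha hk))]
  · refine (card_le_of_le fun a ha => ?_).trans (h.v4 0).2.le
    rcases h.inv_cases (h1 ha) (ea_sq h2 ha) with rfl | rfl | ⟨l, rfl⟩
    exacts [one_mem _, mem_pair_left _ _, (e ⟨l, ha⟩).elim]

/-- an element of order greater than two lies in `⟨r⟩`; so `⟨r⟩` is characteristic -/
theorem conj_r (hy : y ∈ nor U) : ∃ a : ℤ, y * r * y⁻¹ = r ^ a := by
  obtain ⟨k, e | e⟩ := h.mem.1 (conj_mem_of_mem_normalizer hy h.rU)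
  · exact ⟨k, e⟩
  · have e1 : r ^ (1 : ℤ) * r ^ (1 : ℤ) = 1 := by simpa [← e] using h.refl_sq k
    rw [← zpow_add, h.pow_eq_one, h.two_pow] at e1
    exact (h.not_dvd_one ((Int.mul_dvd_mul_iff_left two_ne_zero).1 (by simpa using e1))).elim

theorem conj_z (hy : y ∈ nor U) : y * z₀ * y⁻¹ = z₀ := by
  obtain ⟨a, e⟩ := h.conj_r hy
  have e1 : y * z₀ * y⁻¹ = r ^ (a * 2 ^ (n - 1)) := by rw [zpow_mul, ← e, conj_zpow, ← h.ez']
  exact e1.trans ((h.pow_z (dvd_mul_left _ _)).resolve_left fun e' => h.z1 (by simpa using e1.trans e'))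

theorem conj_d' (hy : y ∈ nor U) (l : ℤ) : ∃ k : ℤ, y * (d * r ^ l) * y⁻¹ = d * r ^ k := by
  rcases h.inv_cases (conj_mem_of_mem_normalizer hy (h.shift l).dU) (by rw [conj_mul, h.refl_sq]; simp) with e | e | e
  · exact (h.refl_ne l 0 (by simpa using e)).elim
  · exact (h.refl_ne l _ ((by simpa using e.trans (h.conj_z hy).symm : _ = z₀).trans h.ez')).elim
  · exact e

/-- two classes of four-groups -/
theorem v4_cj (h1 : D ≤ U) (h2 : V4 D) :
    ∃ m : ℤ, cj (r ^ m) D = closure {z₀, d} ∨ cj (r ^ m) D = closure {z₀, d * r} := by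
  obtain ⟨k, rfl⟩ := h.v4_cases h1 h2
  refine ⟨k / 2, ?_⟩
  rw [h.cj_v4]
  rcases Int.emod_two_eq_zero_or_one k with e | e
  · exact .inl (by rw [show k - 2 * (k / 2) = 0 by omega]; simp)
  · exact .inr (by rw [show k - 2 * (k / 2) = 1 by omega]; simp)

end Dih

namespace Sd

variable {K U D : Subgroup G} {z₀ r d x y : G} (h : Sd K U z₀ r d)
include h

theorem dr' : d * r * d⁻¹ = r ^ (3 : ℤ) := h.dr.trans (zpow_ofNat r 3).symm

theorem mem : x ∈ U ↔ ∃ k : ℤ, x = r ^ k ∨ x = d * r ^ k := h.gen ▸ mem_rd h.dd h.dr'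

theorem rU : r ∈ U := h.gen ▸ mem_pair_left r d

theorem dU : d ∈ U := h.gen ▸ mem_pair_right r d

theorem card : Nat.card U = 16 := by rw [h.gen, card_rd h.dd h.dr' h.nm, h.ord]

theorem pow_d (k : ℤ) : r ^ k * d = d * r ^ (3 * k) := by
  rw [zpow_mul, ← h.dr', conj_zpow, inv_of_sq h.dd, ← mul_assoc, ← mul_assoc, h.dd, one_mul]

theorem refl_mul (k l : ℤ) : d * r ^ k * (d * r ^ l) = r ^ (3 * k + l) := by
  rw [mul_assoc, ← mul_assoc (r ^ k), h.pow_d, ← mul_assoc, ← mul_assoc, h.dd, one_mul, ← zpow_add]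

theorem pow_eq_one {k : ℤ} : r ^ k = 1 ↔ 8 ∣ k := by
  rw [← orderOf_dvd_iff_zpow_eq_one, h.ord]; simp

theorem pow_eq {k l : ℤ} : r ^ k = r ^ l ↔ 8 ∣ k - l := by
  rw [← h.pow_eq_one, zpow_sub, mul_inv_eq_one]

theorem ez' : z₀ = r ^ (4 : ℤ) := h.ez.trans (zpow_ofNat r 4).symm

theorem z2 : z₀ * z₀ = 1 := by rw [h.ez', ← zpow_add, h.pow_eq_one]; rfl

theorem z1 : z₀ ≠ 1 := by rw [h.ez', Ne, h.pow_eq_one]; decide

theorem zU : z₀ ∈ U := h.ez ▸ pow_mem h.rU _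

theorem pow_z {k : ℤ} (e : 4 ∣ k) : r ^ k = 1 ∨ r ^ k = z₀ := by
  rw [h.ez', h.pow_eq, h.pow_eq_one]; omega

theorem refl_ne (k l : ℤ) : d * r ^ k ≠ r ^ l := fun e =>
  h.nm ⟨l - k, by simp only [zpow_sub, ← e, mul_inv_cancel_right]⟩

theorem refl_comm {k l : ℤ} : Commute (d * r ^ k) (d * r ^ l) ↔ 4 ∣ k - l := by
  rw [Commute, SemiconjBy, h.refl_mul, h.refl_mul, h.pow_eq]; omega

theorem pow_comm {k l : ℤ} : Commute (r ^ k) (d * r ^ l) ↔ 4 ∣ k := by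
  rw [Commute, SemiconjBy, ← mul_assoc, h.pow_d, mul_assoc, mul_assoc, mul_right_inj, ← zpow_add, ← zpow_add, h.pow_eq]
  omega

theorem com (hx : x ∈ U) : Commute x z₀ := by
  obtain ⟨k, rfl | rfl⟩ := h.mem.1 hx <;> rw [h.ez']
  · exact (Commute.refl r).zpow_zpow _ _
  · exact (h.pow_comm.2 dvd_rfl).symm

theorem inv_cases (hx : x ∈ U) (e : x * x = 1) : x = 1 ∨ x = z₀ ∨ ∃ k : ℤ, 2 ∣ k ∧ x = d * r ^ k := by
  obtain ⟨k, rfl | rfl⟩ := h.mem.1 hx
  · rw [← zpow_add, h.pow_eq_one] at e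
    exact (h.pow_z (by omega)).imp_right .inl
  · rw [h.refl_mul, h.pow_eq_one] at e
    exact .inr (.inr ⟨k, by omega, rfl⟩)

theorem cent (hx : x ∈ U) (h1 : Commute x r) (h2 : Commute x d) : x = 1 ∨ x = z₀ := by
  obtain ⟨k, rfl | rfl⟩ := h.mem.1 hx
  · exact h.pow_z ((h.pow_comm (l := 0)).1 (by simpa using h2))
  · exact absurd ((h.pow_comm (k := 1)).1 (by simpa using h1.symm)) (by decide)

theorem v4 {k : ℤ} (e : 2 ∣ k) : V4 (closure {z₀, d * r ^ k}) :=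
  v4_pair h.z2 (by rw [h.refl_mul, h.pow_eq_one]; omega) (h.com (mul_mem h.dU (zpow_mem h.rU k))).symm h.z1
    (by simpa using h.refl_ne k 0) fun e => h.refl_ne k _ (e.symm.trans h.ez')

theorem v4_le (k : ℤ) : closure {z₀, d * r ^ k} ≤ U := pair_le.2 ⟨h.zU, mul_mem h.dU (zpow_mem h.rU k)⟩

theorem mem_v4 {k l : ℤ} (e : 4 ∣ l - k) : d * r ^ l ∈ closure {z₀, d * r ^ k} := by
  rw [show d * r ^ l = d * r ^ k * r ^ (l - k) by group]
  rcases h.pow_z e with e | e <;> rw [e]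
  · simpa using mem_pair_right _ _
  · exact mul_mem (mem_pair_right _ _) (mem_pair_left _ _)

theorem conj_refl (m k : ℤ) : r ^ m * (d * r ^ k) * (r ^ m)⁻¹ = d * r ^ (k + 2 * m) := by
  rw [← mul_assoc, h.pow_d, mul_assoc, mul_assoc, ← zpow_neg, ← zpow_add, ← zpow_add]
  congr 2; ring

theorem cj_v4 (m k : ℤ) : cj (r ^ m) (closure {z₀, d * r ^ k}) = closure {z₀, d * r ^ (k + 2 * m)} := by
  rw [cj_pair, h.conj_refl, (h.com (zpow_mem h.rU m)).eq, mul_inv_cancel_right]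

variable [Finite G]

theorem v4_cases (h1 : D ≤ U) (h2 : V4 D) : ∃ k : ℤ, 2 ∣ k ∧ D = closure {z₀, d * r ^ k} := by
  have key : ∀ a ∈ D, a ≠ 1 → a ≠ z₀ → ∃ k : ℤ, 2 ∣ k ∧ a = d * r ^ k := fun a ha a1 az =>
    ((h.inv_cases (h1 ha) (h2.sq ha)).resolve_left a1).resolve_left az
  have hz : z₀ ∈ D := by
    by_contra hz
    obtain ⟨a, ha, a1, -⟩ := h2.exists_ne 1
    obtain ⟨b, hb, b1, ba⟩ := h2.exists_ne a
    obtain ⟨k, -, rfl⟩ := key a ha a1 fun e => hz (e ▸ ha)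
    obtain ⟨l, -, rfl⟩ := key b hb b1 fun e => hz (e ▸ hb)
    rcases h.pow_z (h.refl_comm.1 (ea_com h2.1 hb ha)) with e | e
    · exact ba (by rw [zpow_sub, mul_inv_eq_one] at e; rw [e])
    · exact hz (by rw [← e, show r ^ (l - k) = (d * r ^ k)⁻¹ * (d * r ^ l) by group]; exact mul_mem (inv_mem ha) hb)
  obtain ⟨a, ha, a1, az⟩ := h2.exists_ne z₀
  obtain ⟨k, e, rfl⟩ := key a ha a1 az
  exact ⟨k, e, h2.eq_pair hz ha h.z1 a1 az.symm⟩

/-- all four-groups are conjugate -/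
theorem v4_cj {D' : Subgroup G} (h1 : D ≤ U) (h2 : V4 D) (h1' : D' ≤ U) (h2' : V4 D') : ∃ m : ℤ, cj (r ^ m) D = D' := by
  obtain ⟨_, ⟨k, rfl⟩, rfl⟩ := h.v4_cases h1 h2
  obtain ⟨_, ⟨l, rfl⟩, rfl⟩ := h.v4_cases h1' h2'
  exact ⟨l - k, by rw [h.cj_v4, show 2 * k + 2 * (l - k) = 2 * l by ring]⟩

theorem ea_card {E : Subgroup G} (h1 : E ≤ U) (h2 : IsElementaryAbelian 2 E) : Nat.card E ≤ 4 := by
  by_cases e : ∃ k : ℤ, 2 ∣ k ∧ d * r ^ k ∈ E
  · obtain ⟨k, k2, hk⟩ := e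
    refine (card_le_of_le fun a ha => ?_).trans (h.v4 k2).2.le
    rcases h.inv_cases (h1 ha) (ea_sq h2 ha) with rfl | rfl | ⟨l, -, rfl⟩
    exacts [one_mem _, mem_pair_left _ _, h.mem_v4 (h.refl_comm.1 (ea_com h2 ha hk))]
  · refine (card_le_of_le fun a ha => ?_).trans (h.v4 (dvd_zero 2)).2.le
    rcases h.inv_cases (h1 ha) (ea_sq h2 ha) with rfl | rfl | ⟨l, l2, rfl⟩
    exacts [one_mem _, mem_pair_left _ _, (e ⟨l, l2, ha⟩).elim]

end Sd

/-- there is a four-group in `U`, and every four-group of `U` contains `z₀` -/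
theorem L4.exists_v4 {P K : Subgroup G} {z₀ : G} (h : L4 P K z₀) : ∃ D ≤ P ⊓ K, V4 D := by
  rcases h.typ with ⟨n, r, d, e⟩ | ⟨r, d, e⟩
  exacts [⟨_, e.v4_le 0, e.v4 0⟩, ⟨_, e.v4_le 0, e.v4 (dvd_zero 2)⟩]

theorem F4.z_mem {M P K D : Subgroup G} {z₀ : G} (h : F4 M P K z₀) (h1 : D ≤ P ⊓ K) (h2 : V4 D) : z₀ ∈ D :=
  h.cD D (h1.trans inf_le_right) h2 ⟨h.zK, centralizer_anti (h1.trans inf_le_left) h.zP.2⟩

/-- some four-group of `U` has its normalizer outside `M` -/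
theorem F4.exists_out {M P K : Subgroup G} {z₀ : G} (h : F4 M P K z₀) : ∃ D ≤ P ⊓ K, V4 D ∧ ¬ K ⊓ nor D ≤ M := by
  by_contra e
  push Not at e
  exact h.KM (h.gen M h.cM e)

theorem M4.symm {P K D D' : Subgroup G} {z₀ α : G} (h : M4 P K z₀ D D' α) (hz : z₀ ∈ zc P) (z2 : z₀ * z₀ = 1)
    (hn : P ⊓ nor D' ≤ nor D) : M4 P K z₀ D' D (α * z₀) where
  v := h.v'
  v' := h.v
  le := h.le'
  le' := h.le
  ne := h.ne.symm
  zD := h.zD'
  zD' := h.zD
  inv := fun u hu e => (h.inv u hu e).symm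
  v4 := fun F h1 h2 => (h.v4 F h1 h2).symm
  n1 := h.n2
  n2 := h.n1
  aP := mul_mem h.aP hz.1
  a1 := h.a2
  a2 := by rw [mul_assoc, z2, mul_one]; exact h.a1
  aa := by rw [((zcom hz h.aP).symm.mul_mul_mul_comm _ _), z2, mul_one]; exact h.aa
  e9 := h.e9
  nD := fun y hy => by
    obtain ⟨u, hu, e | e⟩ := h.nD y ⟨hy.1, hn hy⟩
    · exact ⟨u, sup_comm D D' ▸ hu, .inl e⟩
    · refine ⟨u * z₀, sup_comm D D' ▸ mul_mem hu (mem_sup_left h.zD), .inr ?_⟩
      rwa [← (zcom hz h.aP).symm.eq, ← mul_assoc, ← mul_assoc, mul_assoc _ z₀ z₀, z2, mul_one]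
  sw := let ⟨y, h1, h2, h3⟩ := h.sw; ⟨y, h1, h3, h2⟩
  cc := fun c h1 h2 h3 => h.cc c h1 h3 h2
  u8 := fun e => (h.u8 e).trans (sup_comm _ _)
  sd := fun e => let ⟨u, h1, h2⟩ := h.sd e; ⟨u, h1, fun e' => h2 (hn ⟨h1.1, e'⟩)⟩

/-- `P` permutes the two four-groups -/
theorem M4.cj_or {P K D D' : Subgroup G} {z₀ α y : G} (h : M4 P K z₀ D D' α) (hK : P ≤ nor K) (hy : y ∈ P) :
    cj y D = D ∧ cj y D' = D' ∨ cj y D = D' ∧ cj y D' = D := by
  have n : y ∈ nor (P ⊓ K) := le_normalizer_inf le_normalizer hK hy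
  rcases h.v4 _ (cj_le_of_le h.le n) (h.v.cj y) with e | e <;>
    rcases h.v4 _ (cj_le_of_le h.le' n) (h.v'.cj y) with e' | e'
  · exact (h.ne (cj_inj.1 (e.trans e'.symm))).elim
  · exact .inl ⟨e, e'⟩
  · exact .inr ⟨e, e'⟩
  · exact (h.ne (cj_inj.1 (e.trans e'.symm))).elim

theorem M4.symm' {M P K D D' : Subgroup G} {z₀ α : G} (h : M4 P K z₀ D D' α) (b : B4 M P K z₀) :
    M4 P K z₀ D' D (α * z₀) :=
  h.symm b.zP b.z2 fun _ hy => (h.cj_or b.nK hy.1).elim (fun e => cj_eq_self_iff.1 e.1)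
    fun e => (h.ne (e.2.symm.trans (cj_eq_self hy.2))).elim

end H97.QU
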