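import Cfsg.Agent.H96.GOut
import Cfsg.Agent.H98.CGJ3
import Cfsg.Agent.H97.QTSpec

/-! Quasithin groups with a unique maximal 2-local subgroup over a Sylow 2-subgroup (S1819, S1846):
vocabulary and job statements, part 1 (`blueprints/QU.md`). -/

set_option autoImplicit false

namespace H97.QU

open Subgroup Cfsg H98 H96.CG
open H52 (zc)
open scoped commutatorElement

universe u

section Defs

variable {G : Type u} [Group G]

/-- a 2-central involution -/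
def TC (j : G) : Prop := j * j = 1 ∧ j ≠ 1 ∧ ∃ T : Subgroup G, IsSyl 2 T ⊤ ∧ j ∈ zc T

/-- a four-group -/
def V4 (D : Subgroup G) : Prop := IsElementaryAbelian 2 D ∧ Nat.card D = 4

/-- `K` contains an elementary abelian subgroup of order nine -/
def E9 (K : Subgroup G) : Prop := ∃ E ≤ K, IsElementaryAbelian 3 E ∧ Nat.card E = 9

/-- the Sylow 2-subgroups of `K` are TI-sets modulo the centre of `K` -/
def TI (K : Subgroup G) : Prop :=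
  ∀ P P' : Subgroup G, IsSyl 2 P K → IsSyl 2 P' K → ¬ P ⊓ P' ≤ cen K → P = P'

/-- the hypothesis of the theorem -/
structure Hy (T M : Subgroup G) : Prop where
  simple : IsSimpleGroup G
  nab : ¬ IsMulCommutative G
  qt : IsQTKE G
  syl : IsSyl 2 T ⊤
  le : T ≤ M
  o2 : pCoreOf 2 M ≠ ⊥
  uq : ∀ H : Subgroup G, T ≤ H → pCoreOf 2 H ≠ ⊥ → H ≤ M

structure Good (M U : Subgroup G) : Prop where
  two : IsPGroup 2 U
  le : U ≤ M
  cq : pCoreOf 2 M ⊓ cen U ≤ U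

/-- a witness: `X` has characteristic two, is not in `M`, and has the good Sylow subgroup `U` -/
structure Wit (M U X : Subgroup G) : Prop where
  good : Good M U
  syl : IsSyl 2 U X
  ch : CharP 2 X
  nM : ¬ X ≤ M

/-- the set `Γ` -/
structure Gam (M H : Subgroup G) : Prop where
  o2 : pCoreOf 2 H ≠ ⊥
  wit : ∃ U X, Wit M U X ∧ X ≤ H

structure Beta (M : Subgroup G) (s : ℕ) (S : Subgroup G) : Prop where
  good : Good M S
  card : Nat.card S = s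
  ov : ∀ Y : Subgroup G, S ≤ Y → CharP 2 Y → Y ≤ M

def Big (S : Subgroup G) : Prop :=
  (∃ E₁ ∈ H12.maxEA 2 S, ∃ E₂ ∈ H12.maxEA 2 S, ∃ E₃ ∈ H12.maxEA 2 S, E₁ ≠ E₂ ∧ E₁ ≠ E₃ ∧ E₂ ≠ E₃) ∧
  ((∃ E ≤ S, IsElementaryAbelian 2 E ∧ 256 ≤ Nat.card E) ∨
    (4 ≤ Nat.card ↥⁅jt 2 S, jt 2 S⁆ ∧ Nat.card ↥(⁅jt 2 S, jt 2 S⁆ ⊓ zc S) ≤ 2 ∧ 128 ≤ Nat.card S))

/-- the standing facts; `s` is the largest order of a 2-subgroup of `H ⊓ M` for `H ∈ Γ` -/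
structure Kit (M : Subgroup G) (s : ℕ) : Prop where
  simple : IsSimpleGroup G
  nab : ¬ IsMulCommutative G
  qt : IsQTKE G
  nf : ¬ Four G
  res : res 2 (⊤ : Subgroup G) = ⊤
  chM : CharP 2 M
  o2 : pCoreOf 2 M ≠ ⊥
  up : ∀ P : Subgroup G, IsPGroup 2 P → P ≤ M → ∃ T, IsSyl 2 T ⊤ ∧ P ≤ T ∧ T ≤ M
  uq : ∀ T H : Subgroup G, IsSyl 2 T ⊤ → T ≤ M → T ≤ H → pCoreOf 2 H ≠ ⊥ → H ≤ M
  zO : ∀ T : Subgroup G, IsSyl 2 T ⊤ → T ≤ M → zc T ≤ pCoreOf 2 M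
  cz : ∀ (T : Subgroup G) (z : G), IsSyl 2 T ⊤ → T ≤ M → z ∈ zc T → z ≠ 1 → cen1 z ≤ M
  tc1 : ∀ j : G, TC j → CharP 2 (cen1 j)
  tcD : ∀ (j : G) (D : Subgroup G), TC j → IsPGroup 2 D → j ∈ D → CharP 2 (nor D)
  sq : ∀ H : Subgroup G, pCoreOf 2 H ≠ ⊥ → QT.SQTK H
  rk : ∀ (D E : Subgroup G) (p : ℕ), IsPGroup 2 D → D ≠ ⊥ → E ≤ nor D → p.Prime → p ≠ 2 →
    IsElementaryAbelian p E → Nat.card E ≤ p ^ 2
  comp2 : ∀ H K : Subgroup G, pCoreOf 2 H ≠ ⊥ → IsComponentOf K H → H ≤ nor K ∨ (nor K).relIndex H = 2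
  mx : ∀ H P : Subgroup G, Gam M H → IsPGroup 2 P → P ≤ H → P ≤ M → Nat.card P ≤ s
  ex : ∃ H S : Subgroup G, Gam M H ∧ Good M S ∧ S ≤ H ∧ Nat.card S = s
  lt : ∀ T : Subgroup G, IsSyl 2 T ⊤ → s < Nat.card T
  good_up : ∀ U P : Subgroup G, Good M U → IsPGroup 2 P → U ≤ P → P ≤ M → Good M P
  good_z : ∀ U T : Subgroup G, Good M U → IsSyl 2 T ⊤ → U ≤ T → T ≤ M → zc T ≤ U
  good_cen : ∀ U : Subgroup G, Good M U → IsPGroup 2 (cen U) ∧ cen U ≤ M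
  good_ch : ∀ U Y : Subgroup G, Good M U → U ≤ Y → Y ≤ nor U → CharP 2 Y
  good_cj : ∀ (U : Subgroup G) (m : G), Good M U → m ∈ M → Good M (cj m U)
  wit_cj : ∀ (U X : Subgroup G) (m : G), Wit M U X → m ∈ M → Wit M (cj m U) (cj m X)
  gam_cj : ∀ (H : Subgroup G) (m : G), Gam M H → m ∈ M → Gam M (cj m H)
  gam_of : ∀ U X : Subgroup G, Wit M U X → Gam M X
  good_nor : ∀ U : Subgroup G, Good M U → s ≤ Nat.card U → nor U ≤ M
  wit_of : ∀ P Y : Subgroup G, Good M P → s ≤ Nat.card P → P ≤ Y → CharP 2 Y → ¬ Y ≤ M →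
    Wit M P Y ∧ Nat.card P = s
  wit_in : ∀ P D H : Subgroup G, Good M P → s ≤ Nat.card P → P ≤ H → Good M D → D ≤ H →
    ¬ H ⊓ nor D ≤ M → ∃ U X, Wit M U X ∧ X ≤ H
  no_norm : ∀ U X P D : Subgroup G, Wit M U X → IsPGroup 2 P → P ≤ M → s < Nat.card P →
    IsPGroup 2 D → X ≤ nor D → P ≤ nor D → D = ⊥
  gam_syl : ∀ H S : Subgroup G, Gam M H → Good M S → s ≤ Nat.card S → S ≤ H → IsSyl 2 S H
  gam_ch : ∀ H S Y Y₁ : Subgroup G, Gam M H → Good M S → s ≤ Nat.card S → S ≤ Y → Y ≤ H → Y ≤ Y₁ →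
    CharP 2 Y₁ → CharP 2 Y
  gam_good : ∀ H S D : Subgroup G, Gam M H → Good M S → s ≤ Nat.card S → S ≤ H → D ≤ S → D ≤ cen D →
    pCoreOf 2 H ≤ cen D → Good M (S ⊓ cen D)

/-- the standing facts together with the outcome of part A -/
structure Kt (M : Subgroup G) (s : ℕ) : Prop extends Kit M s where
  big : ∀ S X : Subgroup G, Wit M S X → Nat.card S = s → Big S

/-! ### Part A: witnesses of order `s` -/

/-- one class of sides, weak form of `Uno` -/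
structure UW (q : ℕ) (B R A A' : Subgroup G) : Prop where
  bk : Bk q B R A A'
  gen : A ⊔ A' = B
  nA : nor A ≤ nor R
  bmP : ∀ P : Subgroup G, IsPGroup 2 P → B ≤ P → P ≤ nor R → bm 2 P = B

/-- two opposite blocks `R`, `cj t R` interchanged by `t`, weak form of `TB` -/
structure TW (q : ℕ) (B R A A' : Subgroup G) (t : G) : Prop extends UW q B R A A' where
  tB : t ∈ nor B
  t2 : T2 t
  sw : cj t A = A'
  dd : zc B ⊓ cen R ⊓ cen (cj t R) = ⊥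

/-- the blocks over a witness of order `s` -/
structure WA (M S : Subgroup G) (q : ℕ) (R A A' : Subgroup G) (t : G) : Prop where
  bk : Bk q (bm 2 S) R A A'
  cl : Cl q (bm 2 S)
  nM : ¬ R ≤ M
  wit : Wit M (bm 2 S) (R ⊔ bm 2 S)
  ns : ∀ u ∈ S, cj u A ≠ A'
  tr : ∀ a a', Op (bm 2 S) a a' → ∃ u ∈ S, cj u A = a ∨ cj u A = a'
  tM : t ∈ M
  tS : t ∈ nor S
  tt : t * t ∈ S
  sw : cj t A = A'

/-- `TW` in the simple group -/
structure TG (M : Subgroup G) (q : ℕ) (B R A A' : Subgroup G) (t : G) : Prop extends TW q B R A A' t where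
  res : res 2 (⊤ : Subgroup G) = ⊤
  cA : cen A ≤ A
  chM : CharP 2 M
  nB : nor B ≤ M
  nZ : CharP 2 (nor (zc B))
  cz : ∀ (T : Subgroup G) (z : G), IsSyl 2 T ⊤ → T ≤ M → z ∈ zc T → z ≠ 1 → cen1 z ≤ M

/-! ### Part C: components -/

structure Cf (M : Subgroup G) (s : ℕ) (S H K : Subgroup G) : Prop where
  beta : Beta M s S
  le : S ≤ H
  gam : Gam M H
  comp : IsComponentOf K H
  nti : ¬ TI K

structure Tr (M : Subgroup G) (s : ℕ) (S K : Subgroup G) (i : G) : Prop where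
  cf : Cf M s S (cen1 i) K
  i1 : i ≠ 1
  i2 : i * i = 1
  iS : i ∈ zc S
  wit : ∃ U X, Wit M U X ∧ X ≤ ncl S K ⊔ S

/-- `z` is an involution in the centre of a Sylow subgroup `T` with `S ≤ T ≤ M` -/
structure Zt (M S T : Subgroup G) (z : G) : Prop where
  syl : IsSyl 2 T ⊤
  ST : S ≤ T
  TM : T ≤ M
  zT : z ∈ zc T
  z1 : z ≠ 1
  z2 : z * z = 1

/-- the almost simple group induced on a component -/
structure Hat (K S M : Subgroup G) (z : G) : Prop where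
  nK : ⊤ ≤ nor K
  simple : IsSimpleGroup K
  nab : ¬ IsMulCommutative K
  cK : cen K = ⊥
  gen : K ⊔ S = ⊤
  syl : IsSyl 2 S ⊤
  z1 : z ≠ 1
  z2 : z * z = 1
  zS : z ∈ zc S
  SM : S ≤ M
  KM : ¬ K ≤ M
  zO : z ∈ pCoreOf 2 M
  nD : ∀ D ≤ S, S ≤ nor D → z ∈ D → nor D ≤ M
  ch : CharP 2 (K ⊓ cen1 z)
  kg : IsKGroup K
  nb : ¬ QT.Big K
  sl : QT.SList K

/-- the passage from `G` to the almost simple group `X` -/
structure Pr (M S K : Subgroup G) (z : G) {X : Type u} [Group X] (π : ↥(K ⊔ S ⊓ nor K) →* X)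
    (K' S' M' : Subgroup X) (z' : X) : Prop where
  sur : Function.Surjective π
  ker : ∀ y, π y = 1 ↔ (y : G) ∈ cen K
  eK : K' = (K.subgroupOf _).map π
  eS : S' = (S.subgroupOf _).map π
  eM : M' = (M.subgroupOf _).map π
  ez : ∃ h : z ∈ K ⊔ S ⊓ nor K, z' = π ⟨z, h⟩
  hat : Hat K' S' M' z'
  nti : ¬ TI K'

/-- dihedral (of order at least four) or semidihedral -/
def DS (U : Type u) [Group U] : Prop := (∃ n, 2 ≤ n ∧ Nonempty (U ≃* DihedralGroup n)) ∨ IsQuasiDihedral U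

/-- two opposite blocks in `K` interchanged by `t ∈ S` -/
structure TB0 (K S M : Subgroup G) (q : ℕ) (R R' A A' : Subgroup K) (t : G) : Prop where
  amb : Amb K
  tb : TB q (S.subgroupOf K) R R' A A'
  hq : 2 < q
  RM : ¬ R.map K.subtype ≤ M
  tS : t ∈ S
  sw : cj t (A.map K.subtype) = A'.map K.subtype

/-- the torus -/
def Tor (q : ℕ) (B R A A' : Subgroup G) : Prop :=
  (∃ (r : ℕ) (E : Subgroup G), r.Prime ∧ r ≠ 2 ∧ E ≤ nor B ∧ IsElementaryAbelian r E ∧ Nat.card E = r ^ 2) ∨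
  (q = 4 ∧ zc B ⊓ cen R = ⊥ ∧ E9 (⊤ : Subgroup G) ∧ nor A ⊔ nor A' = ⊤)

/-- the facts used for the sporadic groups -/
structure Sp0 (X : Type u) [Group X] : Prop where
  cz : ∀ j : X, TC j → CharP 2 (cen1 j)
  oz : ∀ T : Subgroup X, IsSyl 2 T ⊤ → Nat.card (oz 2 T) = 2
  p4 : ∀ p : ℕ, p.Prime → p ≠ 2 → ¬ p ^ 4 ∣ Nat.card X

/-- the Sylow 2-subgroups are those of the symmetric group of degree eight -/
def Wr8 (X : Type u) [Group X] : Prop :=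
  ∀ (T : Sylow 2 X) (P : Sylow 2 (Equiv.Perm (Fin 8))),
    Nonempty (↥(T : Subgroup X) ≃* ↥(P : Subgroup (Equiv.Perm (Fin 8))))

/-- a component of type `L₃(q)` or `Sp₄(q)`, `q > 2` even, seen in `G` -/
structure TF (M S K A₁ A₂ : Subgroup G) : Prop where
  nK : S ≤ nor K
  e1 : IsElementaryAbelian 2 A₁
  e2 : IsElementaryAbelian 2 A₂
  gen : A₁ ⊔ A₂ = S ⊓ K
  zK : zc K ≤ A₁ ⊓ A₂
  der : ⁅A₁, A₂⁆ = A₁ ⊓ A₂
  zU : zc (S ⊓ K) = A₁ ⊓ A₂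
  wid : ∀ b ∈ A₂, b ∉ A₁ → ∀ w : G, w * w = 1 → ¬ ⁅A₁, zpowers b⁆ ≤ zpowers w
  mx : ∀ E ≤ S, IsElementaryAbelian 2 E → (cen K).relIndex E ≤ (cen K).relIndex A₁ ∧
    ((cen K).relIndex E = (cen K).relIndex A₁ → E ≤ A₁ ⊔ S ⊓ cen K ∨ E ≤ A₂ ⊔ S ⊓ cen K)
  sw : ∃ y ∈ S, cj y A₁ = A₂ ∧ cj y A₂ = A₁
  cA : S ⊓ cen A₁ ≤ A₁ ⊔ S ⊓ cen K
  out : ∃ Y ≤ K, Y ≤ nor A₁ ∧ ¬ Y ≤ M
  fpf : ∀ w ∈ A₁ ⊓ A₂, w ∉ cen K → ∃ h ∈ K ⊓ nor A₁ ⊓ nor A₂, ⁅h, w⁆ ∉ cen K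
  cU : K ⊓ cen (S ⊓ K) ≤ S
  tor : (∃ (r : ℕ) (E : Subgroup G), r.Prime ∧ r ≠ 2 ∧ E ≤ K ⊓ nor (S ⊓ K) ∧ IsElementaryAbelian r E ∧
      Nat.card E = r ^ 2) ∨
    ((∃ h ∈ K ⊓ nor (S ⊓ K), orderOf h = 3) ∧ E9 K ∧
      ∀ x ∈ nor K, orderOf x = 3 → x ∈ cen (S ⊓ K) → x ∈ cen K)

/-- a simple component with a self-centralizing four-group, seen in `G`; `P = N_S(K)` -/
structure B4 (M P K : Subgroup G) (z₀ : G) : Prop where
  simple : IsSimpleGroup K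
  nab : ¬ IsMulCommutative K
  two : IsPGroup 2 P
  nK : P ≤ nor K
  syl : IsSyl 2 (P ⊓ K) K
  zK : z₀ ∈ K
  zP : z₀ ∈ zc P
  z1 : z₀ ≠ 1
  z2 : z₀ * z₀ = 1
  ch : CharP 2 (K ⊓ cen1 z₀)
  four : Four K
  nti : ¬ TI K
  KM : ¬ K ≤ M
  cM : K ⊓ cen1 z₀ ≤ M
  nD : ∀ D ≤ P ⊓ K, V4 D → P ≤ nor D → K ⊓ nor D ≤ M
  PM : P ≤ M

/-- a local witness datum inside the component -/
def Lw (M S K : Subgroup G) : Prop :=
  ∃ D Y : Subgroup G, D ≤ S ⊓ K ∧ D ≤ cen D ∧ Y ≤ K ∧ ¬ Y ≤ M ∧ Y ≤ nor (S ⊓ cen D)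

end Defs

/-- the induction hypothesis -/
def IH (n : ℕ) : Prop := ∀ (X : Type u) [Group X] [Finite X] (T M : Subgroup X), Nat.card X < n → Hy T M →
  SE X ∨ Four X

/-! ### Jobs: start and part A -/

def JKit : Prop := ∀ (G : Type u) [Group G] [Finite G] (T M : Subgroup G), Hy T M →
  SE G ∨ Four G ∨ ∃ s, Kit M s

def JA1 : Prop := ∀ (G : Type u) [Group G] [Finite G] (M S X : Subgroup G) (s : ℕ), Kit M s → Wit M S X →
  Nat.card S = s → ∃ q R A A' t, WA M S q R A A' t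

def JA2 : Prop := ∀ (G : Type u) [Group G] [Finite G] (M S R A A' : Subgroup G) (q : ℕ) (t : G),
  IsPGroup 2 S → WA M S q R A A' t → A ⊔ A' ≠ bm 2 S → Big S

def JA3 : Prop := ∀ (G : Type u) [Group G] [Finite G] (M S X R A A' : Subgroup G) (s q : ℕ) (t : G), Kit M s →
  Wit M S X → Nat.card S = s → WA M S q R A A' t → A ⊔ A' = bm 2 S → TG M q (bm 2 S) R A A' t

def JTW : Prop := ∀ (G : Type u) [Group G] [Finite G] (M B R A A' : Subgroup G) (q : ℕ) (t : G),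
  TG M q B R A A' t → 2 < q → False

def JQ2 : Prop := ∀ (G : Type u) [Group G] [Finite G] (M B R A A' : Subgroup G) (t : G),
  TG M 2 B R A A' t → Four G

def JBeta : Prop := ∀ (G : Type u) [Group G] [Finite G] (M : Subgroup G) (s : ℕ), Kit M s →
  (∀ S X, Wit M S X → Nat.card S = s → ∃ q R A A' t, WA M S q R A A' t ∧ A ⊔ A' ≠ bm 2 S) →
  ∃ S H, Beta M s S ∧ S ≤ H ∧ Gam M H

/-! ### Jobs: components -/

def JC0 : Prop := ∀ (G : Type u) [Group G] [Finite G] (M S H : Subgroup G) (s : ℕ), Kit M s → Beta M s S →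
  S ≤ H → Gam M H → ∃ H' K, Cf M s S H' K

def JEmb : Prop := ∀ (G : Type u) [Group G] [Finite G] (M S S₀ T H L : Subgroup G) (s : ℕ) (z : G), Kit M s →
  Beta M s S → S ≤ H → Gam M H → Zt M S T z → L ≤ H → IsQuasisimple L → z ∈ nor L → ¬ L ≤ cen1 z →
  L ≤ cen (pCoreOf 2 H) → S₀ ≤ S → S₀.relIndex S ≤ 2 → S₀ ≤ nor L →
  ∃ K, IsComponentOf K H ∧ L ≤ K ∧ (TI K → TI L)

def JC1 : Prop := JEmb.{u} → ∀ (G : Type u) [Group G] [Finite G] (M S H K : Subgroup G) (s : ℕ), Kit M s →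
  Cf M s S H K → Lw M S K → ∃ K' i, Tr M s S K' i

def JHat : Prop := ∀ (G : Type u) [Group G] [Finite G] (M S T H K : Subgroup G) (s : ℕ) (z : G), Kit M s →
  Cf M s S H K → Zt M S T z → ∃ (X : Type u) (_ : Group X) (_ : Finite X) (π : ↥(K ⊔ S ⊓ nor K) →* X)
    (K' S' M' : Subgroup X) (z' : X), Pr M S K z π K' S' M' z'

def JK1 : Prop := ∀ (X : Type u) [Group X] [Finite X] (K S M : Subgroup X) (z : X), Hat K S M z →
  DS ↥(S ⊓ K) → z ∈ K ∧ Four K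

def JK2a : Prop := ∀ (X : Type u) [Group X] [Finite X] (K S M : Subgroup X) (z : X), Hat K S M z → Amb K →
  SE K ∨ Four K ∨ ∃ q R R' A A' t, TB0 K S M q R R' A A' t

def JK2b : Prop := ∀ (X : Type u) [Group X] [Finite X] (K S M : Subgroup X) (z : X) (q : ℕ)
  (R R' A A' : Subgroup K) (t : X), Hat K S M z → TB0 K S M q R R' A A' t →
  TW q (S ⊓ K) (R.map K.subtype) (A.map K.subtype) (A'.map K.subtype) t ∧ S ⊓ cen (S ⊓ K) ≤ K

def JK2c : Prop := ∀ (X : Type u) [Group X] [Finite X] [IsSimpleGroup X] (q : ℕ) (B R R' A A' : Subgroup X),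
  Amb X → TB q B R R' A A' → 2 < q → IsSyl 2 B ⊤ → Tor q B R A A'

def JK3 : Prop := ∀ (X : Type u) [Group X] [Finite X] (K S M : Subgroup X) (z : X), IH.{u} (Nat.card K + 1) →
  Hat K S M z → Sp0 K → (S ≤ K ∨ Nat.card ↥(S ⊓ K) ≤ 2 ^ 10) →
  SE K ∨ Four K ∨ Amb K ∨ DS ↥(S ⊓ K) ∨ Wr8 K

/-- the families of Lie type and the alternating groups on the list -/
def JK4a : Prop := ∀ (X : Type u) [Group X] [Finite X] (K S M : Subgroup X) (z : X), Hat K S M z →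
  Amb K ∨ DS ↥(S ⊓ K) ∨ TI K ∨ QT.Spo K

/-- the facts about a sporadic group on the list -/
def SpF (K : Type u) [Group K] : Prop :=
  Sp0 K ∧ ((∀ φ : MulAut K, ∃ k : K, φ = MulAut.conj k) ∨ ∀ T : Subgroup K, IsSyl 2 T ⊤ → Nat.card T ≤ 2 ^ 10)

def JK4b : Prop := ∀ (K : Type u) [Group K] [Finite K],
  Spor.IsoM11 K ∨ Spor.IsoM12 K ∨ Spor.IsoM22 K ∨ Spor.IsoM23 K ∨ Spor.IsoM24 K → SpF K

def JK4c : Prop := ∀ (K : Type u) [Group K] [Finite K],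
  Spor.IsoJ2 K ∨ Spor.IsoJ4 K ∨ Spor.IsoHS K ∨ Spor.IsoHe K ∨ Spor.IsoRu K → SpF K

def JK4w : Prop := ∀ (K : Type u) [Group K] [Finite K] [IsSimpleGroup K], ¬ IsMulCommutative K → Sp0 K → ¬ Wr8 K

def JLift4 : Prop := ∀ (G : Type u) [Group G] [Finite G] (M S T H K : Subgroup G) (s : ℕ) (z : G)
  (X : Type u) [Group X] [Finite X] (π : ↥(K ⊔ S ⊓ nor K) →* X) (K' S' M' : Subgroup X) (z' : X), Kit M s →
  Cf M s S H K → Zt M S T z → Pr M S K z π K' S' M' z' → z' ∈ K' → Four K' →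
  ∃ z₀, B4 M (S ⊓ nor K) K z₀ ∧ z * z₀ ∈ cen K

def JLiftT : Prop := ∀ (G : Type u) [Group G] [Finite G] (M S T H K : Subgroup G) (s : ℕ) (z : G)
  (X : Type u) [Group X] [Finite X] (π : ↥(K ⊔ S ⊓ nor K) →* X) (K' S' M' : Subgroup X) (z' : X) (q : ℕ)
  (R R' A A' : Subgroup K') (t : X), Kit M s → Cf M s S H K → Zt M S T z → Pr M S K z π K' S' M' z' →
  TB0 K' S' M' q R R' A A' t →
  TW q (S' ⊓ K') (R.map K'.subtype) (A.map K'.subtype) (A'.map K'.subtype) t → S' ⊓ cen (S' ⊓ K') ≤ K' →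
  Tor q (S'.subgroupOf K') R A A' → ∃ A₁ A₂, TF M S K A₁ A₂

def JTK3 : Prop := ∀ (G : Type u) [Group G] [Finite G] (M S K A₁ A₂ : Subgroup G) (s : ℕ) (i : G), Kt M s →
  Tr M s S K i → TF M S K A₁ A₂ → jt 2 (S ⊓ cen K) ≤ cen (jt 2 (S ⊓ cen K)) → False

def JTK4 : Prop := ∀ (G : Type u) [Group G] [Finite G] (M S K A₁ A₂ : Subgroup G) (s : ℕ) (i : G), Kt M s →
  Tr M s S K i → TF M S K A₁ A₂ → ¬ jt 2 (S ⊓ cen K) ≤ cen (jt 2 (S ⊓ cen K)) → False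

end H97.QU
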