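import Cfsg.Agent.H97.QUO1c
import Cfsg.Agent.H96.QUTool

/-! Small tools for the jobs of part 2 of `blueprints/QU.md`. -/

set_option autoImplicit false
set_option linter.unusedSectionVars false

namespace H97.QU

open Subgroup Cfsg H98 H96.CG
open H52 (zc)
open scoped commutatorElement

universe u

variable {G : Type u} [Group G] [Finite G] {M P K U D : Subgroup G} {a b g j x z₀ : G}

theorem eq_of_sq (h : a * b = 1) (hb : b * b = 1) : a = b := mul_right_cancel (h.trans hb.symm)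

theorem conj_sq (g : G) (h : a * a = 1) : g * a * g⁻¹ * (g * a * g⁻¹) = 1 := by rw [conj_mul, h]; simp

theorem conj_ne (g : G) (h : a ≠ 1) : g * a * g⁻¹ ≠ 1 := by simpa using h

theorem conj_fix (h : Commute g a) : g * a * g⁻¹ = a := by rw [h.eq, mul_inv_cancel_right]

theorem comm_of_fix (h : g * a * g⁻¹ = a) : Commute g a := mul_inv_eq_iff_eq_mul.1 h

theorem conj_conj (g h a : G) : g * h * a * (g * h)⁻¹ = g * (h * a * h⁻¹) * g⁻¹ := by group

theorem conj_dist (g a b : G) : g * (a * b) * g⁻¹ = g * a * g⁻¹ * (g * b * g⁻¹) := by group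

theorem isConj_conj (g a : G) : IsConj a (g * a * g⁻¹) := isConj_iff.2 ⟨g, rfl⟩

theorem mem_sup_cen (h : U ≤ nor K) : x ∈ U ⊔ cen K ↔ ∃ u ∈ U, ∃ c ∈ cen K, x = u * c :=
  mem_sup_left_norm (le_normalizer_centralizer h)

theorem B4.res (h : B4 M P K z₀) : res 2 K = K :=
  (h.eq_or (res_le K) (self_le_normalizer_res K)).resolve_left fun e => quasi_not_two h.quasi (res_eq_bot_iff.1 e)

theorem B4.mem_sup (_ : B4 M P K z₀) : x ∈ P ⊓ K ⊔ cen K ↔ ∃ u ∈ P ⊓ K, ∃ c ∈ cen K, x = u * c :=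
  mem_sup_cen (inf_le_right.trans le_normalizer)

/-- an involution with a centralizer of characteristic two induces an inner automorphism -/
theorem F4.rn (f : F4 M P K z₀) (d : IsDih K (P ⊓ K) z₀) (n : N4 P K z₀) (hj : j ∈ P) (jj : j * j = 1)
    (ch : CharP 2 (K ⊓ cen1 j)) : ∃ u ∈ P ⊓ K, ∃ c ∈ cen K, j = u * c :=
  let ⟨D, h1, h2, h3⟩ := f.rr d j hj jj ch
  f.mem_sup.1 (n.nn D h1 h2 ⟨hj, h3⟩)

/-- the diagonal of two commuting groups interchanged by an involution -/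
theorem diag_res (hK : res 2 K = K) (c : K ≤ cen (cj j K)) (jj : j * j = 1) (hx : x ∈ K) :
    x * (j * x * j⁻¹) ∈ res 2 (cen1 j) := by
  let δ : K →* G := MonoidHom.mk' (fun k => k * (j * k * j⁻¹)) fun k l => by
    rw [coe_mul, ← conj_mul, (com (c l.2) (conj_mem_cj k.2)).symm.mul_mul_mul_comm]
  have : res 2 K ≤ ((res 2 (cen1 j)).comap δ).map K.subtype := res_le_of_forall fun y hy e =>
    ⟨⟨y, hy⟩, mem_res_of_coprime (mem_cen1.2 (comm_of_fix ?_).symm)
      (e.coprime_dvd_left (orderOf_mk y hy ▸ orderOf_map_dvd δ _)), rfl⟩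
  · obtain ⟨y, h1, rfl⟩ := this (hK.ge hx)
    exact h1
  · show j * (y * (j * y * j⁻¹)) * j⁻¹ = y * (j * y * j⁻¹)
    rw [← conj_mul, ← conj_conj, jj, (com (c hy) (conj_mem_cj hy)).symm.eq]; simp

theorem nor_pair (h1 : g * a * g⁻¹ ∈ closure {a, b}) (h2 : g * b * g⁻¹ ∈ closure {a, b}) :
    g ∈ nor (closure {a, b}) := mem_normalizer_of_cj_le ((cj_pair g a b).le.trans (pair_le.2 ⟨h1, h2⟩))

end H97.QU
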