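import Cfsg.Agent.H14.FEKit

/-! Tower FE, job SC: the vertex group of a Sylow subgroup is strongly closed. -/

set_option autoImplicit false
set_option linter.unusedSectionVars false

namespace H97.FESC

open Cfsg Subgroup MulAction H14 H98 H1.Gold H31.S2 H14.GC H14.FE
open scoped commutatorElement

universe u

section

variable {G : Type u} [Group G] [Finite G] {A P P' : Subgroup G}

theorem vs_le : VS A P ≤ P := (closure_le _).2 fun _ hd => hd.1

/-- Transport of the vertex group along a conjugation. -/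
theorem conj_mem_vs {c : G} (h : ∀ d ∈ DS A P, c * d * c⁻¹ ∈ DS A P') {x : G} (hx : x ∈ VS A P) :
    c * x * c⁻¹ ∈ VS A P' := by
  have : VS A P ≤ (VS A P').comap (MulAut.conj c).toMonoidHom :=
    (closure_le _).2 fun d hd => subset_closure (h d hd)
  exact this hx

theorem ds_comm (h : MC A) (hC : Cn A) (hP : IsPGroup 2 P) {d e : G} (hd : d ∈ DS A P)
    (he : e ∈ DS A P) : d * e = e * d := by
  obtain ⟨dP, d2, B, hB, dB⟩ := hd
  obtain ⟨eP, -, B', hB', eB⟩ := he
  by_cases hne : B = B'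
  · subst hne
    exact hC B hB (P ⊓ B) inf_le_right hP.to_inf_left d ⟨dP, dB⟩ e ⟨eP, eB⟩ d2.2
  · exact h.comm hB hB' hne hP dB eB dP eP

theorem vs_comm (h : MC A) (hC : Cn A) (hP : IsPGroup 2 P) {x y : G} (hx : x ∈ VS A P)
    (hy : y ∈ VS A P) : x * y = y * x := by
  have h1 : ∀ d ∈ DS A P, VS A P ≤ centralizer ({d} : Set G) := fun d hd =>
    (closure_le _).2 fun e he => mem_centralizer_singleton_iff.2 (ds_comm h hC hP he hd)
  have h2 : VS A P ≤ centralizer ({y} : Set G) :=
    (closure_le _).2 fun d hd =>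
      mem_centralizer_singleton_iff.2 (mem_centralizer_singleton_iff.1 (h1 d hd hy)).symm
  exact mem_centralizer_singleton_iff.1 (h2 hx)

theorem vs_sq (h : MC A) (hC : Cn A) (hP : IsPGroup 2 P) {x : G} (hx : x ∈ VS A P) : x * x = 1 := by
  induction hx using closure_induction with
  | mem x hx => exact hx.2.1.2
  | one => simp
  | mul x y hx hy ihx ihy =>
    have hc : x * y = y * x := vs_comm h hC hP hx hy
    calc x * y * (x * y) = x * (y * x) * y := by group
      _ = x * (x * y) * y := by rw [hc]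
      _ = (x * x) * (y * y) := by group
      _ = 1 := by rw [ihx, ihy, one_mul]
  | inv x _ ih => rw [← mul_inv_rev, ih, inv_one]

theorem vs_le_sSup : VS A P ≤ sSup (FE.CP A P) := by
  refine (closure_le _).2 ?_
  rintro d ⟨dP, d2, B, hB, dB⟩
  exact le_sSup (mem_CP hB dP dB d2.1) dB

theorem sc (h : MC A) (hC : Cn A) (hCS : CS A) (hST : FE.ST A) (h3 : UD3 A) (hM : Mv A) :
    FE.SC A := by
  intro S hS
  refine ⟨vs_le, fun x hx g hy => ?_⟩
  have hS' : IsSyl 2 (cj g S) ⊤ := by
    have := hS.cj g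
    rwa [cj_top] at this
  have hyV : g * x * g⁻¹ ∈ VS A (cj g S) := by
    refine conj_mem_vs ?_ hx
    rintro d ⟨dP, d2, B, hB, dB⟩
    exact ⟨conj_mem_cj dP, d2.conj g, cj g B, vx_cj hB g, conj_mem_cj dB⟩
  generalize g * x * g⁻¹ = y at hy hyV
  have hy2 : y * y = 1 := vs_sq h hC hS'.isPGroup hyV
  obtain ⟨S'', hS'', hX, c, hc, hD⟩ := hST _ hS' y hyV (S ⊓ cen1 y) hS.isPGroup.to_inf_left inf_le_right
  have hsub : FE.CP A S ⊆ FE.CP A S'' := by
    intro B hB
    have hn : zpowers y ≤ nor (S ⊓ B) :=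
      le_normalizer_inf ((zpowers_le.2 hy).trans le_normalizer)
        (zpowers_le.2 (hM S _ hS hS' y hyV hy B hB))
    obtain ⟨s, hs, s2, hsc⟩ := exists_inv_cen_two (hS.isPGroup.to_le (zpowers_le.2 hy))
      hS.isPGroup.to_inf_left hn hB.2
    refine mem_CP hB.1 (hX ⟨hs.1, ?_⟩) hs.2 s2.1
    exact mem_centralizer_singleton_iff.2 (mem_centralizer_iff.1 hsc y (mem_zpowers y)).symm
  obtain ⟨hmax, -, hle⟩ := hCS.1 S hS
  have hsup : FE.CP A S'' ⊆ FE.CP A S := fun B hB =>
    hmax.2 B hB.1 fun B' hB' => h.adj hS''.isPGroup hB (hsub hB')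
  have hy'' : y ∈ VS A S'' := by
    have := conj_mem_vs (P' := S'') (c := c) (fun d hd => (hD _).2 (by
      have e : c⁻¹ * (c * d * c⁻¹) * c = d := by group
      rw [e]; exact hd)) hyV
    rwa [mem_centralizer_singleton_iff.1 hc, mul_inv_cancel_right] at this
  exact h3 S hS.isPGroup y (hle ⟨hy, sSup_le_sSup hsup (vs_le_sSup hy'')⟩) hy2

end

theorem jobSC : H14.FE.JobSC.{u} := fun _ _ _ _ h hC hCS hST h3 hM => sc h hC hCS hST h3 hM

end H97.FESC
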