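import Cfsg.Agent.H14.FESpec

/-! Tower FE, job UD: unique decomposition along a direct clique. -/

set_option autoImplicit false
set_option linter.unusedSectionVars false

namespace H97.FEUD

open Cfsg Subgroup MulAction H14 H98 H1.Gold H31.S2 H14.GC H14.FE
open scoped commutatorElement Pointwise

universe u

section

variable {G : Type u} [Group G] [Finite G] {A P : Subgroup G}

/-- A nontrivial element of a 2-group has an involution among its powers. -/
theorem exists_inv_zpowers (hP : IsPGroup 2 P) {x : G} (hx : x ∈ P) (h1 : x ≠ 1) :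
    ∃ d ∈ zpowers x, GC.Inv d := by
  obtain ⟨n, hn⟩ := hP ⟨x, hx⟩
  have hn' : x ^ 2 ^ n = 1 := by simpa using congrArg Subtype.val hn
  clear hn
  induction n generalizing x with
  | zero => exact absurd (by simpa using hn') h1
  | succ n ih =>
    by_cases h2 : x * x = 1
    · exact ⟨x, mem_zpowers x, h1, h2⟩
    · obtain ⟨d, hd, hdi⟩ := ih (P.mul_mem hx hx) h2 (by
        rw [← pow_two, ← pow_mul, ← pow_succ']; exact hn')
      exact ⟨d, (zpowers_le.2 (mul_mem (mem_zpowers x) (mem_zpowers x))) hd, hdi⟩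

theorem eq_one_of_NI (hP : IsPGroup 2 P) {Y : Subgroup G} (hY : NI Y) {x : G} (hx : x ∈ P)
    (hy : x ∈ Y) : x = 1 := by
  by_contra h1
  obtain ⟨d, hd, hdi⟩ := exists_inv_zpowers hP hx h1
  exact hY d (zpowers_le.2 hy hd) hdi

theorem cp_inv (hP : IsPGroup 2 P) {B : Subgroup G} (hB : B ∈ FE.CP A P) :
    ∃ d ∈ P ⊓ B, GC.Inv d := by
  obtain ⟨⟨x, hx⟩, h1⟩ := (ne_bot_iff_exists_ne_one).1 hB.2
  obtain ⟨d, hd, hdi⟩ := exists_inv_zpowers hP (mem_inf.1 hx).1 (fun e => h1 (Subtype.ext e))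
  exact ⟨d, zpowers_le.2 hx hd, hdi⟩

theorem cp_clq (h : MC A) (hP : IsPGroup 2 P) : Clq A (FE.CP A P) := by
  refine ⟨fun B hB => hB.1, fun B hB B' hB' => ?_⟩
  obtain ⟨d, hd, hdi⟩ := cp_inv hP hB
  obtain ⟨e, he, hei⟩ := cp_inv hP hB'
  exact h.f3 B B' hB.1 hB'.1 d hd.2 e he.2 hdi hei P hP hd.1 he.1

theorem cp_comm (h : MC A) (hP : IsPGroup 2 P) {B B' : Subgroup G} (hB : B ∈ FE.CP A P)
    (hB' : B' ∈ FE.CP A P) (hne : B ≠ B') {x y : G} (hx : x ∈ P ⊓ B) (hy : y ∈ P ⊓ B') :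
    x * y = y * x := by
  have hc := cp_clq h hP
  rw [mem_inf] at hx hy
  have h1 : x * y * x⁻¹ ∈ B' := (mem_normalizer_iff.1 (hc.2 B hB B' hB' hx.2) y).1 hy.2
  have h2 : y * x⁻¹ * y⁻¹ ∈ B := (mem_normalizer_iff.1 (hc.2 B' hB' B hB hy.2) x⁻¹).1 (inv_mem hx.2)
  have h3 : x * y * x⁻¹ * y⁻¹ = 1 := by
    refine eq_one_of_NI hP (h.ti B B' hB.1 hB'.1 hne)
      (mul_mem (mul_mem (mul_mem hx.1 hy.1) (inv_mem hx.1)) (inv_mem hy.1)) (mem_inf.2 ⟨?_, ?_⟩)
    · have := mul_mem hx.2 h2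
      simpa only [mul_assoc] using this
    · exact mul_mem h1 (inv_mem hy.2)
  calc x * y = x * y * x⁻¹ * y⁻¹ * (y * x) := by group
    _ = y * x := by rw [h3, one_mul]

/-- The induction along the vertices that meet `P`. -/
theorem peel (h : MC A) (hP : IsPGroup 2 P) (F : Subgroup G → Subgroup G)
    (hF : ∀ B ∈ FE.CP A P, F B ≤ P ⊓ B) (p : G → Prop) (T : Subgroup G)
    (step : ∀ B ∈ FE.CP A P, ∀ a ∈ F B, ∀ b ∈ P ⊓ sSup (FE.CP A P \ {B}), a * b = b * a → p (a * b) →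
      a ∈ T ∧ p b) :
    ∀ y ∈ ⨆ B ∈ FE.CP A P, F B, p y → y ∈ T := by
  have key : ∀ S : Set (Subgroup G), S.Finite → S ⊆ FE.CP A P → ∀ y ∈ ⨆ B ∈ S, F B, p y → y ∈ T := by
    intro S hS
    induction S, hS using Set.Finite.induction_on with
    | empty =>
      intro _ y hy _
      simp only [Set.mem_empty_iff_false, iSup_false, iSup_bot, mem_bot] at hy
      exact hy ▸ T.one_mem
    | @insert B S hBS _ ih =>
      intro hsub y hy hp
      have hB : B ∈ FE.CP A P := hsub (Set.mem_insert _ _)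
      have hS' : S ⊆ FE.CP A P := fun B' hB' => hsub (Set.mem_insert_of_mem _ hB')
      rw [iSup_insert] at hy
      have hcen : (⨆ B' ∈ S, F B') ≤ centralizer (F B : Set G) := by
        refine iSup₂_le fun B' hB' y' hy' => mem_centralizer_iff.2 fun a ha => ?_
        exact cp_comm h hP hB (hS' hB') (fun e => hBS (by rw [e]; exact hB')) (hF B hB ha) (hF B' (hS' hB') hy')
      have hle : (⨆ B' ∈ S, F B') ≤ P ⊓ sSup (FE.CP A P \ {B}) := by
        refine iSup₂_le fun B' hB' => le_inf ((hF B' (hS' hB')).trans inf_le_left) ?_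
        exact ((hF B' (hS' hB')).trans inf_le_right).trans
          (le_sSup ⟨hS' hB', fun e => hBS ((Set.mem_singleton_iff.1 e) ▸ hB')⟩)
      have hy' : y ∈ ((F B ⊔ ⨆ B' ∈ S, F B' : Subgroup G) : Set G) := hy
      rw [coe_mul_of_right_le_normalizer_left _ _ (hcen.trans (centralizer_le_normalizer _))] at hy'
      obtain ⟨a, ha, b, hb, rfl⟩ := hy'
      have hab : a * b = b * a := mem_centralizer_iff.1 (hcen hb) a ha
      obtain ⟨h1, h2⟩ := step B hB a ha b (hle hb) hab hp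
      exact T.mul_mem h1 (ih hS' b hb h2)
  exact key _ (Set.toFinite _) subset_rfl

/-- The square roots of one in `P ⊓ B`. -/
def Om (P B : Subgroup G) : Subgroup G := closure {x | x ∈ P ⊓ B ∧ x * x = 1}

theorem om_le {B : Subgroup G} : Om P B ≤ P ⊓ B := (closure_le _).2 fun _ hx => hx.1

theorem om_sq (hP : IsPGroup 2 P) {B : Subgroup G} (hB : CnB B) {x : G} (hx : x ∈ Om P B) :
    x * x = 1 := by
  induction hx using closure_induction with
  | mem x hx => exact hx.2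
  | one => simp
  | mul x y hx hy ihx ihy =>
    have hc : x * y = y * x :=
      hB (P ⊓ B) inf_le_right (hP.to_inf_left) x (om_le hx) y (om_le hy) ihx
    calc x * y * (x * y) = x * (y * x) * y := by group
      _ = x * (x * y) * y := by rw [hc]
      _ = (x * x) * (y * y) := by group
      _ = 1 := by rw [ihx, ihy, one_mul]
  | inv x _ ih => rw [← mul_inv_rev, ih, inv_one]

theorem vs_le_iSup : VS A P ≤ ⨆ B ∈ FE.CP A P, Om P B := by
  refine (closure_le _).2 ?_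
  rintro d ⟨hdP, hdi, B, hB, hdB⟩
  have hB' : B ∈ FE.CP A P := ⟨hB, fun e => hdi.1 (by
    have : d ∈ P ⊓ B := ⟨hdP, hdB⟩
    rw [e] at this
    exact mem_bot.1 this)⟩
  exact (le_iSup₂_of_le (f := fun B (_ : B ∈ FE.CP A P) => Om P B) B hB' le_rfl)
    (subset_closure ⟨⟨hdP, hdB⟩, hdi.2⟩)

theorem mem_vs {Q B : Subgroup G} (hB : Vx A B) {a : G} (ha : a ∈ B) (hQ : a ∈ Q) (h2 : a * a = 1) :
    a ∈ VS A Q := by
  by_cases h1 : a = 1
  · exact h1 ▸ one_mem _
  · exact subset_closure ⟨hQ, ⟨h1, h2⟩, B, hB, ha⟩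

theorem ud3 (h : MC A) (hD : Dir A) : UD3 A := by
  intro P hP y hy h2
  refine peel h hP (fun B => P ⊓ B) (fun _ _ => le_rfl) (fun y => y * y = 1) (VS A P) ?_ y hy h2
  intro B hB a ha b hb hab hp
  rw [mem_inf] at ha hb
  have e : a * a = (b * b)⁻¹ := by
    rw [eq_inv_iff_mul_eq_one]
    calc a * a * (b * b) = a * (a * b) * b := by group
      _ = a * (b * a) * b := by rw [hab]
      _ = a * b * (a * b) := by group
      _ = 1 := hp
  have h1 : a * a = 1 := eq_one_of_NI hP (hD _ (cp_clq h hP) B hB) (mul_mem ha.1 ha.1)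
    (mem_inf.2 ⟨mul_mem ha.2 ha.2, by rw [e]; exact inv_mem (mul_mem hb.2 hb.2)⟩)
  refine ⟨mem_vs hB.1 ha.2 ha.1 h1, ?_⟩
  rw [h1] at e
  exact inv_eq_one.1 e.symm

theorem ud1 (h : MC A) (hC : Cn A) (hD : Dir A) : UD1 A := by
  intro P hP y hy g hg hgn hgy
  refine peel h hP (Om P) (fun _ _ => om_le) (fun y => g * y = y * g) _ ?_ y (vs_le_iSup hy) hgy
  intro B hB a ha b hb hab hp
  have ha' := mem_inf.1 (om_le ha)
  rw [mem_inf] at hb
  have hW : ∀ w ∈ sSup (FE.CP A P \ {B}), g * w * g⁻¹ ∈ sSup (FE.CP A P \ {B}) := by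
    have : sSup (FE.CP A P \ {B}) ≤ (sSup (FE.CP A P \ {B})).comap (MulAut.conj g).toMonoidHom := by
      refine sSup_le fun B' hB' w hw => ?_
      exact le_sSup hB' ((mem_normalizer_iff.1 (hgn B' hB'.1) w).1 hw)
    exact fun w hw => this hw
  have e : a⁻¹ * (g * a * g⁻¹) = b * (g * b * g⁻¹)⁻¹ := by
    have e1 : g * (a * b) * g⁻¹ = a * b := by rw [hp]; group
    calc a⁻¹ * (g * a * g⁻¹) = a⁻¹ * (g * (a * b) * g⁻¹) * (g * b * g⁻¹)⁻¹ := by group
      _ = b * (g * b * g⁻¹)⁻¹ := by rw [e1]; group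
  have h1 : a⁻¹ * (g * a * g⁻¹) = 1 := by
    refine eq_one_of_NI hP (hD _ (cp_clq h hP) B hB)
      (mul_mem (inv_mem ha'.1) (mul_mem (mul_mem hg ha'.1) (inv_mem hg))) (mem_inf.2 ⟨?_, ?_⟩)
    · exact mul_mem (inv_mem ha'.2) ((mem_normalizer_iff.1 (hgn B hB) a).1 ha'.2)
    · rw [e]
      exact mul_mem hb.2 (inv_mem (hW b hb.2))
  have hga : g * a = a * g := by
    calc g * a = a * (a⁻¹ * (g * a * g⁻¹)) * g := by group
      _ = a * g := by rw [h1, mul_one]
  have h2 := om_sq hP (hC B hB.1) ha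
  refine ⟨mem_vs hB.1 ha'.2 ⟨mem_vs hB.1 ha'.2 ha'.1 h2, ?_⟩ h2, ?_⟩
  · exact mem_centralizer_singleton_iff.2 hga.symm
  · rw [e] at h1
    calc g * b = (b * (g * b * g⁻¹)⁻¹)⁻¹ * (b * g) := by group
      _ = b * g := by rw [h1]; group

end

theorem jobUD : H14.FE.JobUD.{u} := fun _ _ _ _ h hC hD => ⟨ud1 h hC hD, ud3 h hD⟩

end H97.FEUD
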