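import Cfsg.Agent.H30.FEFlag
import Cfsg.Agent.H27.FeZ
import Cfsg.Agent.H27.FeY
import Cfsg.Agent.H62.FEF3a
import Cfsg.Agent.H49.FeCm
import Cfsg.Agent.H45.FESE2
import Cfsg.Agent.H58.FEMv
import Cfsg.Agent.H19.FeMX
import Cfsg.Agent.H20.FENo
import Cfsg.Agent.H35.FeDa
import Cfsg.Agent.H13.FEK2a
import Cfsg.Agent.H60.FeP3
import Cfsg.Agent.H29.FENAB
import Cfsg.Agent.H29.FEMin
import Cfsg.Agent.H83.FEKey
import Cfsg.Agent.H83.FESt
import Cfsg.Agent.H77.FeMQ
import Cfsg.Agent.H67.FeCS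
import Cfsg.Agent.H67.FeSEM
import Cfsg.Agent.H5.FEG
import Cfsg.Agent.H99.FECnt2
import Cfsg.Agent.H99.FEDirE
import Cfsg.Agent.H10.FeT3
import Cfsg.Agent.H10.FeT2
import Cfsg.Agent.H41.FeNc
import Cfsg.Agent.H53.FEM
import Cfsg.Agent.H80.FEF
import Cfsg.Agent.H3.FEOd
import Cfsg.Agent.H84.FeIso
import Cfsg.Agent.H55.FEK2b
import Cfsg.Agent.H59.FEFin
import Cfsg.Agent.H26.FEE
import Cfsg.Agent.H25.FeDb
import Cfsg.Agent.H25.FeLift
import Cfsg.Agent.H73.FeCnt1
import Cfsg.Agent.H94.FEUD2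
import Cfsg.Agent.H94.FED0
import Cfsg.Agent.H79.FeMk
import Cfsg.Agent.H76.FESE1
import Cfsg.Agent.H76.FEEd
import Cfsg.Agent.H97.FEUD
import Cfsg.Agent.H97.FESC

/-! Tower FE (S1308, the full-edge half): assembly. -/

set_option autoImplicit false

namespace H97.FEAsm

open Cfsg Subgroup MulAction H14 H98 H1.Gold H31.S2 H14.GC H14.FE
open scoped commutatorElement

universe u

theorem dlt : AllPG.{u} fun _ _ _ _ _ _ pt B β => Dlt pt B β := fun X _ _ J Ω _ _ _ _ pt B β h =>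
  H25.FeDb.jobDb H94.FE.jobD0 X J Ω pt B β h (H25.FeLift.jobLift X J Ω pt B β h)
    (H35.FeDa.jobDa X J Ω pt B β h)

theorem sem : SEM.{u} := H67.FeSEM.jobSEM H29.FEN.jobNAB H73.FeC.jobCnt1 H99.FECnt2.jobCnt2

theorem p3 : P3.{u} := fun X _ _ J Ω _ _ _ _ pt B β h hp =>
  H60.FeP3.jobP3 H76.FESE1.jobSE1 sem X J Ω pt B β h (H3.FEOd.jobOd X J Ω pt B β h)
    (H27.FeY.jobY X J Ω pt B β h hp (H25.FeLift.jobLift X J Ω pt B β h) (dlt X J Ω pt B β h))

theorem p2 : P2.{u} := by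
  intro X _ _ J Ω _ _ _ _ pt B β h hf a
  by_cases hl : ∃ l ∈ closure (ZZ B β) ⊔ (toPermHom X Ω).ker, l • pt a = pt a ∧ l • a ≠ a
  · obtain ⟨l, h1, h2, h3⟩ := hl
    exact H53.FE.jobM H76.FESE1.jobSE1 X J Ω pt B β h hf (H3.FEOd.jobOd X J Ω pt B β h)
      (H27.FeZ.jobZ X J Ω pt B β h hf (dlt X J Ω pt B β h)) a l h1 h2 h3
  push Not at hl
  refine H80.FEF.jobF H76.FESE1.jobSE1 H45.FES.jobSE2 X J Ω pt B β h a ?_
  have hN : (closure (ZZ B β)).Normal := ⟨fun n hn g => by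
    refine (Subgroup.closure_le ((closure (ZZ B β)).comap (MulAut.conj g).toMonoidHom)).2 ?_ hn
    rintro z ⟨j, h1, h2, h3⟩
    exact Subgroup.subset_closure ⟨g • j, H53.FE.conj_mem h h1 g, h2.conj g, H53.FE.zz_conj h h3 g⟩⟩
  set L : Subgroup X := closure (ZZ B β) ⊔ (toPermHom X Ω).ker with hL
  have hLn : L.Normal := sup_normal _ _
  have htop : L ⊔ stabilizer X a = ⊤ := by
    refine (h.home _ (pt a) (le_sup_right.trans le_sup_left) fun j e => ?_).resolve_right fun hle => ?_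
    · exact (h.big j).mono (le_inf ((h.mn j a e).trans le_sup_right) le_rfl)
    · obtain ⟨b, hb⟩ : ∃ b : Ω, b ≠ pt a := by
        obtain ⟨b, c, hbc⟩ := h.two
        by_cases e : b = pt a
        · exact ⟨c, fun e' => hbc (e.trans e'.symm)⟩
        · exact ⟨b, e⟩
      obtain ⟨j, rfl⟩ := h.surj b
      obtain ⟨z, h1, h2, h3⟩ := H53.FE.exists_zz h j
      have hz : z ∈ L ⊔ stabilizer X a :=
        mem_sup_left (mem_sup_left (subset_closure ⟨j, h1, h2, h3⟩))
      exact hb (h.fix j z h1 h2 _ (hle hz)).symm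
  intro g hg
  have hg' : g ∈ ((L ⊔ stabilizer X a : Subgroup X) : Set X) := by rw [htop]; exact mem_top g
  rw [normal_mul] at hg'
  obtain ⟨l, h1, s, h2, rfl⟩ := hg'
  have h3 : s • a = a := h2
  have h4 : s • pt a = pt a := by rw [← h.pt_smul, h3]
  have h5 : l • pt a = pt a := by
    have : (l * s) • pt a = pt a := hg
    rwa [mul_smul, h4] at this
  show (l * s) • a = a
  rw [mul_smul, h3, hl l h1 h5]

theorem min : Min.{u} := H29.FEM.jobMin H19.FeMX.jobMX

section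

variable {G : Type u} [Group G] [Finite G]

theorem noE (hS : IsSimpleGroup G) (hna : ¬ IsMulCommutative G) {A : Subgroup G} (h : MC A) (hC : Cn A)
    (hD : Dir A) : NoE A := by
  have cs := H67.FeCS.jobCS G A h
  have st := H83.FE.jobST G A h hC
  have ud := H97.FEUD.jobUD G A h hC hD
  have mv := H58.FEMv.jobMv G A h hC cs (H83.FE.jobKEY G A h) st ud.1 (H94.FE.jobUD2 G A h hD)
  exact H59.FEFin.jobFin G A hS hna h hC cs hD (H97.FESC.jobSC G A h hC cs st ud.2 mv)

theorem el_ab {R : Subgroup G} (el : El R) : FE.Ab R := fun a ha b hb => by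
  have h1 := el _ (mul_mem ha hb)
  calc a * b = (b * b) * (a * b) * (a * a) := by rw [el a ha, el b hb]; group
    _ = b * (b * a * b * a) * a := by group
    _ = b * (a * b * (a * b))⁻¹ * a := by
      rw [mul_inv_rev, mul_inv_rev, inv_eq_of_mul_eq_one_right (el a ha),
        inv_eq_of_mul_eq_one_right (el b hb)]; group
    _ = b * a := by rw [h1]; group

theorem el_cj {R : Subgroup G} (el : El R) (c : G) : El (cj c R) := fun a ha => by
  have := el _ (mem_cj.1 ha)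
  calc a * a = c * (c⁻¹ * a * c * (c⁻¹ * a * c)) * c⁻¹ := by group
    _ = 1 := by rw [this]; group

theorem done_sol {Q R : Subgroup G} (hR : IsSyl 2 R Q) (h4 : Four Q) (el : El R)
    (hs : Group.IsSolvable Q) : Done Q := by
  have : Fact (Nat.Prime 2) := ⟨Nat.prime_two⟩
  obtain ⟨z, hz, iz⟩ := four_exists_inv h4
  refine ⟨z, hz, inv_iff.1 iz,
    Group.isSolvable_of_isSolvable_injective (inclusion_injective inf_le_right), fun S => ?_⟩
  have hS := isSyl_map_subtype S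
  obtain ⟨c, -, hc⟩ := hR.exists_cj_le hS.isPGroup (hS.le.trans inf_le_right)
  have e1 : El ((S : Subgroup ↥(cen1 z ⊓ Q)).map (cen1 z ⊓ Q).subtype) := by
    have := el_cj (fun a ha => el a (hc ha) : El (cj c _)) c⁻¹
    rwa [cj_inv_cj] at this
  refine ⟨⟨⟨fun a b => Subtype.ext (Subtype.ext ?_)⟩⟩, fun a ha => Subtype.ext ?_⟩
  · exact el_ab e1 _ (mem_map_of_mem _ a.2) _ (mem_map_of_mem _ b.2)
  · simpa [pow_two] using e1 _ (mem_map_of_mem _ ha)

end

theorem main : H14.FE.Main.{u} := by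
  intro G _ _ K hS hna fs
  have : Fact (Nat.Prime 2) := ⟨Nat.prime_two⟩
  by_contra dn
  have mq := (H77.FeMQ.jobMQ H76.FEEd.jobEd H13.FEK2a.jobK2a H55.FEK2b.jobK2b H84.FeIso.jobIso
    H49.FeCm.jobCm H41.FeNc.jobNc H5.FEG.jobG G K fs).resolve_left dn
  have te : IsTightlyEmbedded (cen K) := fs.std.2.1
  refine H20.FENo.jobNo G K hS hna fs ?_
  obtain ⟨R, hR, -⟩ := exists_isSyl_le (IsPGroup.of_bot (p := 2)) (bot_le : ⊥ ≤ cen K)
  by_cases el : El R
  · by_cases hs : Group.IsSolvable (cen K)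
    · exact absurd (done_sol hR fs.four el hs) dn
    obtain ⟨E, h1, h2, h3, h4, h5⟩ := H26.FE.jobE G _ R hR el hs
    obtain ⟨mn, hno⟩ := H79.FeMk.jobMk G _ te mq E h1 h2 h3 fun R' hR' => by
      obtain ⟨z, hz, iz⟩ := four_exists_inv (syl_four hR' h3)
      exact ⟨z, hz, .inr (h5 E (vx_self E) z (hR'.le hz) iz)⟩
    exact hno (noE hS hna (f3_of mn (H62.FE.jobF3a G E mn)) h4 (H99.FEDirE.jobDirE G E mn h5))
  · have nel : ∀ R', IsSyl 2 R' (pElementClosure 2 (cen K)) → ¬ El R' := fun R' hR' e => by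
      obtain ⟨R₂, h2, hle⟩ := exists_isSyl_le hR'.isPGroup (hR'.le.trans (pec_le _))
      have e2 := hR'.eq_of_le h2.isPGroup hle (le_pec h2.isPGroup h2.le)
      obtain ⟨c, -, hc⟩ := h2.exists_cj_eq hR
      exact el (by rw [← hc, e2]; exact el_cj e c)
    have h4 : Four (pElementClosure 2 (cen K)) :=
      (syl_four hR fs.four).mono (le_pec hR.isPGroup hR.le)
    obtain ⟨mn, hno⟩ := H79.FeMk.jobMk G _ te mq _ le_rfl (normalizer_le_normalizer_pec _) h4
      fun R' hR' => by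
        have := nel R' hR'
        unfold El at this
        push Not at this
        obtain ⟨a, ha, h⟩ := this
        exact ⟨a, ha, .inl h⟩
    have hA : pElementClosure 2 (cen K) ≠ ⊤ := fun e => by
      have e1 : cen K = ⊤ := top_le_iff.1 (e ▸ pec_le _)
      have hp := fs.std.1.1
      have hnt : Nontrivial K := by
        have := fs.std.1.2.toNontrivial
        exact (QuotientGroup.mk_surjective (s := center K)).nontrivial
      refine Group.IsPerfect.not_isSolvable K (Group.isSolvable_of_comm fun a b => Subtype.ext ?_)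
      have : (b : G) ∈ cen K := by rw [e1]; exact mem_top _
      exact this a a.2
    have mc := f3_of mn (H62.FE.jobF3a G _ mn)
    have cs := H67.FeCS.jobCS G _ mc
    have cn := H10.FeT2.jobT2 min p2 G _ hS hA mc cs nel
    exact hno (noE hS hna mc cn
      (H10.FeT3.jobT3 min p3 G _ hS hA mc cs (H30.FE.jobFlag G _ mc) nel cn))

end H97.FEAsm
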