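import Cfsg.Agent.H23.NDSpec
import Cfsg.Agent.H2.Fitting

/-! ND tower (S4780), slot `G2`. -/

set_option autoImplicit false

namespace H97.ND

open Subgroup H23.ND H55.Nd

universe u

variable {G : Type u} [Group G]

theorem cm {A B : Subgroup G} {a b : G} (ha : a ∈ A) (hb : b ∈ B) : a * b * a⁻¹ * b⁻¹ ∈ ⁅A, B⁆ :=
  commutator_mem_commutator ha hb

/-- onto, so injective -/
theorem inj_of_onto [Finite G] {A B : Subgroup G} [hA : A.Normal] [hB : B.Normal] {d : G}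
    (H : ∀ a ∈ A, ∃ b ∈ A, (d * b * d⁻¹ * b⁻¹)⁻¹ * a ∈ B) :
    ∀ b ∈ A, d * b * d⁻¹ * b⁻¹ ∈ B → b ∈ B := by
  have m : ∀ b : A, d * b * d⁻¹ * (b : G)⁻¹ ∈ A := fun b =>
    mul_mem (hA.conj_mem _ b.2 d) (inv_mem b.2)
  let f : A ⧸ B.subgroupOf A → A ⧸ B.subgroupOf A := Quotient.map' (fun b => ⟨_, m b⟩) fun a b k => by
    rw [QuotientGroup.leftRel_apply] at k ⊢
    have k' : (a : G)⁻¹ * b ∈ B := k
    have := hB.conj_mem _ (mul_mem (hB.conj_mem _ k' d) (inv_mem k')) a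
    rw [mem_subgroupOf]
    convert this using 1
    simp only [coe_mul, coe_inv]
    group
  have hf : Function.Surjective f := by
    rintro ⟨a⟩
    obtain ⟨b, hb, e⟩ := H a a.2
    exact ⟨QuotientGroup.mk ⟨b, hb⟩, QuotientGroup.eq.2 e⟩
  intro b hb e
  have := Finite.injective_iff_surjective.2 hf (a₁ := QuotientGroup.mk ⟨b, hb⟩)
    (a₂ := QuotientGroup.mk 1) (QuotientGroup.eq.2 (by
      rw [mem_subgroupOf]
      simpa using inv_mem e))
  exact (QuotientGroup.eq_one_iff (N := B.subgroupOf A) _).1 this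

theorem comm_C0 {P : Subgroup G} {h d c : G} (hd : d ∈ zpowers h) (hc : c ∈ C0 P h) :
    d * c = c * d := by
  obtain ⟨k, rfl⟩ := hd
  exact Commute.zpow_left (mem_C0.1 hc).2 k

variable [Finite G] {p : ℕ} {P : Subgroup G} [hP : P.Normal] {h d : G}

omit [Finite G] in
theorem g3J (H : PG p P h) (F : GF1 P h) (hd : d ∈ zpowers h) (dP : d ∉ P)
    (h2 : d ∈ Ct (L2 P) (L3 P)) (J : Subgroup G) [hJ : J.Normal] (h3 : d ∈ Ct (L3 P) J) :
    L3 P ≤ J := by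
  have l2 : L2 P ≤ CC P := F.g0 ▸ le_sup_right
  have e1 : d ∈ Ct (L2 P) J := fun a ha => by
    obtain ⟨b, hb, e⟩ := F.lift d hd (L3 P) (commutator_le_right _ _) a
      (commutator_le_right _ _ ha) (h2 a ha)
    have := hJ.conj_mem _ (inv_mem (h3 b hb)) a
    convert this using 1
    calc d * a * d⁻¹ * a⁻¹ = d * (a * b) * b⁻¹ * d⁻¹ * a⁻¹ := by group
      _ = _ := by rw [e]; group
  have e2 : d ∈ Ct (CC P) J := by
    rw [← zpowers_le, le_Ct, F.g0]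
    refine H24.commutator_sup_right_le (le_Ct.1 (zpowers_le.2 fun c hc => ?_))
      (le_Ct.1 (zpowers_le.2 e1))
    rw [comm_C0 hd hc]
    simp
  have e3 : ∀ x ∈ P, ∃ q ∈ P, q ∈ Ct (CC P) J ∧ ∃ c ∈ CC P, x = q * c := fun x hx => by
    obtain ⟨y, hy, c, hc, e⟩ := F.sj d hd dP x hx
    refine ⟨_, mul_mem (hP.conj_mem y hy d) (inv_mem hy), ?_, c, hc, e⟩
    have := mul_mem e2 ((Ct_normal _ _).conj_mem _ (inv_mem e2) y)
    simpa only [mul_assoc] using this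
  have e4 : L2 P ≤ Ct (CC P) J := fun a ha => by
    obtain ⟨x, hx, k⟩ := H.f.ne
    obtain ⟨q, hq, k1, c, hc, rfl⟩ := e3 x hx
    obtain ⟨y, -, e⟩ := H.f.cl q hq (fun k2 => k (mul_mem k2 hc)) a ha
    have := mul_mem (inv_mem k1) ((Ct_normal _ _).conj_mem _ k1 y)
    rwa [e, inv_mul_cancel_left] at this
  refine (commutator_mono le_rfl (K₂ := Ct (CC P) J ⊔ CC P) fun x hx => ?_).trans
    (H24.commutator_sup_right_le ?_ (le_Ct.1 e4))
  · obtain ⟨q, -, k1, c, hc, rfl⟩ := e3 x hx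
    exact mul_mem_sup k1 hc
  · rw [commutator_comm]
    exact (commutator_mono le_rfl l2).trans (le_Ct.1 le_rfl)

theorem g3 (H : PG p P h) (F : GF1 P h) (hd : d ∈ zpowers h) (dP : d ∉ P)
    (h2 : d ∈ Ct (L2 P) (L3 P)) : ∀ b ∈ L3 P, d * b * d⁻¹ * b⁻¹ ∈ L4 P → b ∈ L4 P := by
  let π := QuotientGroup.mk' (L4 P)
  have n3 : (L3 P).Normal := inferInstance
  have l3 : L3 P ≤ P := commutator_le_right _ _
  have m : ∀ g, ∀ b ∈ L3 P, g * b * g⁻¹ * b⁻¹ ∈ L3 P := fun g b hb =>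
    mul_mem (n3.conj_mem _ hb g) (inv_mem hb)
  have c : ∀ y ∈ P, ∀ b ∈ L3 P, π y * π b * (π y)⁻¹ = π b := fun y hy b hb => by
    have := (QuotientGroup.eq_one_iff _).2 (inv_mem (cm hb hy) : _ ∈ L4 P)
    rw [← mul_inv_eq_one]
    simpa [π, mul_assoc] using this
  let J : Subgroup G :=
    { carrier := {x | ∃ b ∈ L3 P, π x = π d * π b * (π d)⁻¹ * (π b)⁻¹}
      one_mem' := ⟨1, one_mem _, by simp⟩
      mul_mem' := by
        rintro x y ⟨a, ha, e1⟩ ⟨b, hb, e2⟩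
        refine ⟨a * b, mul_mem ha hb, ?_⟩
        have := c a (l3 ha) _ (m d b hb)
        simp only [map_mul, map_inv] at this ⊢
        rw [e1, e2, ← this]; group
      inv_mem' := by
        rintro x ⟨a, ha, e1⟩
        refine ⟨a⁻¹, inv_mem ha, ?_⟩
        have := c a⁻¹ (l3 (inv_mem ha)) _ (m d a ha)
        simp only [map_mul, map_inv] at this ⊢
        rw [e1, ← this]; group }
  have hJ : J.Normal := ⟨by
    rintro x ⟨a, ha, e1⟩ g
    obtain ⟨y, hy, k, hk, rfl⟩ := dec_gen H.b.gen g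
    refine ⟨_, n3.conj_mem _ ha k, ?_⟩
    have e2 : π k * π d = π d * π k := by
      obtain ⟨i, rfl⟩ := hd
      obtain ⟨j, rfl⟩ := hk
      rw [← map_mul, ← map_mul, (Commute.zpow_zpow_self h j i).eq]
    have := c y hy _ (m d _ (n3.conj_mem _ ha k))
    simp only [map_mul, map_inv] at this ⊢
    rw [← this, e1]
    calc _ = π y * (π k * π d * π a * (π k * π d)⁻¹ * (π k * π a * (π k)⁻¹)⁻¹ ) * (π y)⁻¹ := by group
      _ = _ := by rw [e2]; group⟩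
  refine inj_of_onto fun a ha => ?_
  obtain ⟨b, hb, e⟩ := g3J H F hd dP h2 J (fun b hb => ⟨b, hb, by simp⟩) ha
  exact ⟨b, hb, QuotientGroup.eq.1 e.symm⟩

theorem jobG2 : JobG2.{u} := by
  intro G _ _ p P hP h H F
  obtain ⟨d, hd, dP, d3⟩ := F.g1 (L3 P) (L4 P) (commutator_le_left _ _) (commutator_le_left _ _)
    le_rfl
  refine ⟨fun d => g3 H F, fun e => ?_, fun e => ?_⟩
  · have := Fact.mk H.b.hp
    have := H.pg.isNilpotent
    exact H2.eq_bot_of_le_commutator_of_isNilpotent (commutator_le_right _ _)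
      (g3J H F hd dP (e ▸ mem_top d) _ d3)
  obtain ⟨d', hd', dP', d2⟩ := F.g1 (L2 P) (L3 P) (commutator_le_left _ _) le_rfl le_rfl
  have l0 : C0 P h ≤ CC P := F.g0 ▸ le_sup_left
  have e' : ⁅P, CC P⁆ ≤ L3 P := by rwa [commutator_comm]
  have e1 : CC P ≤ Ct (C0 P h) (L4 P) := by
    rw [F.g0]
    refine sup_le (fun x hx c hc => g3 H F hd' dP' d2 _ (e (cm (l0 hx) (mem_C0.1 hc).1)) ?_)
      (le_Ct.2 (H24.three_subgroups_le (commutator_mono ((commutator_mono le_rfl l0).trans e') le_rfl)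
        (commutator_mono ((commutator_mono l0 le_rfl).trans e) le_rfl)))
    rw [comm_C0 hd' (mul_mem (mul_mem (mul_mem hx hc) (inv_mem hx)) (inv_mem hc))]
    simp
  rw [commutator_comm, ← le_Ct]
  intro x hx
  obtain ⟨y, hy, c, hc, rfl⟩ := F.sj d hd dP x hx
  refine mul_mem (fun c hc => ?_) (e1 hc)
  have k := (inferInstance : (L4 P).Normal).conj_mem _
    (inv_mem (d3 _ (e' (cm (inv_mem hy) (l0 hc))))) (d * y * d⁻¹)
  convert k using 1
  calc d * y * d⁻¹ * y⁻¹ * c * (d * y * d⁻¹ * y⁻¹)⁻¹ * c⁻¹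
      = d * y * d⁻¹ * y⁻¹ * c * y * c⁻¹ * (c * d) * y⁻¹ * d⁻¹ * c⁻¹ := by group
    _ = d * y * d⁻¹ * y⁻¹ * c * y * c⁻¹ * (d * c) * y⁻¹ * (c * d)⁻¹ := by rw [comm_C0 hd hc]; group
    _ = _ := by rw [← comm_C0 hd hc]; group

end H97.ND
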