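import Cfsg.Agent.H97.FEAsm
import Cfsg.Agent.H14.NF0
import Cfsg.Agent.H47.CA1

/-! S1308: the core from the full-edge theorem and the six chapters of the non-full half. -/

set_option autoImplicit false

namespace H97.NFCore

open Cfsg Subgroup MulAction H14 H98 H1.Gold H31.S2 H14.GC H14.FE H14.NF

universe u

theorem core_of (ab : ChAb.{u}) (n1 : ChN1.{u}) (re : ChRE.{u}) (x1 : ChX1.{u}) (te : ChTE.{u})
    (cb : ChCB.{u}) : H51.CT.Core.{u} := by
  intro G _ _ hS hna _ K std _ h2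
  have : Fact (Nat.Prime 2) := ⟨Nat.prime_two⟩
  have four : Four (cen K) := four_iff.2 h2
  refine .inr ?_
  by_cases ex : ∃ g T, NF.NE K g T
  swap
  · have fs : FS K := ⟨std, four, fun g hg he hd => by
      obtain ⟨T, hT, -⟩ := exists_isSyl_le (IsPGroup.of_bot (p := 2))
        (bot_le : ⊥ ≤ cj g (cen K) ⊓ nor (cen K))
      obtain ⟨d, h3, h4⟩ := exists_inv_of_even (even_iff_two_dvd.1 he)
      exact ex ⟨g, T, std, four, hg, hT, syl_ne_bot hT h3 h4, hd⟩⟩
    obtain ⟨z, h3, h4, h5, h6⟩ := H97.FEAsm.main G K hS hna fs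
    exact ⟨z, h3, h4, h5, fun S => .inl (h6 S)⟩
  by_cases cy : ∃ g T, NF.NE K g T ∧ IsCyclic T
  · obtain ⟨g, T, h, hc⟩ := cy
    exact n1 G K hS g T h hc
  have all : ∀ g T, NF.NE K g T → El T ∧ Four T := fun g T h => by
    have a := ab G K g T h
    have f : Four T := by
      by_contra nf
      refine cy ⟨g, T, h, H47.CA.isCyclic_of_comm h.syl.isPGroup a fun x hx y hy ox oy => ?_⟩
      by_contra hne
      exact nf ⟨x, hx, y, hy, inv_iff.2 ox, inv_iff.2 oy, hne, a x hx y hy⟩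
    exact ⟨x1 G K g T h a f, f⟩
  by_cases el : ∀ R, IsSyl 2 R (cen K) → El R
  · obtain ⟨g, T, h⟩ := ex
    exact re G K hS g T h (all g T h).1 (all g T h).2 el
  push Not at el
  obtain ⟨R, hR, nel⟩ := el
  obtain ⟨E, h3, h4, h5⟩ := te G K hS ⟨all, ex, fun R' hR' e => by
    obtain ⟨c, -, hc⟩ := hR'.exists_cj_eq hR
    exact nel (hc ▸ H97.FEAsm.el_cj e c)⟩
  exact absurd h5 (cb G K std E h3 h4)

end H97.NFCore
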