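import Cfsg.Agent.H98.RD

/-! Rank one blocks relative to a 2-group `B` and the graph of non-commuting conjugates. -/

set_option autoImplicit false

namespace H97.QT

open Cfsg Subgroup H98
open scoped commutatorElement

variable {G : Type*} [Group G]

/-- `F` is a rank one block with module `U`, relative to the 2-group `B`. -/
structure JB (B F U : Subgroup G) (q : ℕ) : Prop where
  UB : U ≤ B
  ab : U ≤ centralizer (U : Set G)
  sq : ∀ u ∈ U, u * u = 1
  nF : B ≤ normalizer (F : Set G)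
  nU : B ≤ normalizer (U : Set G)
  cm : ⁅B ⊓ centralizer (U : Set G), F⁆ ≤ U
  iB : (centralizer (U : Set G)).relIndex B = q
  iU : (centralizer (B : Set G)).relIndex U = q
  reg : ∀ b ∈ B, b ∉ centralizer (U : Set G) → ∀ u ∈ U, ⁅u, b⁆ ∈ centralizer (F : Set G) →
    u ∈ centralizer (B : Set G)
  pn : ∀ X : Subgroup G, IsPGroup 2 X → X ≤ normalizer (F : Set G) → F ≤ normalizer (X : Set G) →
    X ≤ centralizer (U : Set G)

theorem relIndex_cj (g : G) (A B : Subgroup G) : (cj g A).relIndex (cj g B) = A.relIndex B :=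
  Subgroup.relIndex_map_map_of_injective _ _ (MulAut.conj g).injective

theorem mc {A : Subgroup G} {x : G} : x ∈ centralizer (A : Set G) ↔ ∀ a ∈ A, a * x = x * a :=
  Subgroup.mem_centralizer_iff

namespace JB

variable {B F U F' U' F'' U'' : Subgroup G} {q : ℕ}

theorem cj (h : JB B F U q) (g : G) : JB (cj g B) (cj g F) (cj g U) q where
  UB := cj_mono g h.UB
  ab := by rw [← cj_centralizer]; exact cj_mono g h.ab
  sq := by
    rintro _ ⟨u, hu, rfl⟩
    rw [← map_mul, h.sq u hu, map_one]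
  nF := by rw [← cj_normalizer]; exact cj_mono g h.nF
  nU := by rw [← cj_normalizer]; exact cj_mono g h.nU
  cm := by rw [← cj_centralizer, ← cj_inf, ← cj_commutator]; exact cj_mono g h.cm
  iB := by rw [← cj_centralizer, relIndex_cj, h.iB]
  iU := by rw [← cj_centralizer, relIndex_cj, h.iU]
  reg := by
    rintro _ ⟨b, hb, rfl⟩ hb' _ ⟨u, hu, rfl⟩ hc
    rw [← cj_centralizer] at hb' hc ⊢
    refine ⟨u, h.reg b hb (fun x => hb' ⟨b, x, rfl⟩) u hu ?_, rfl⟩
    rw [← map_commutatorElement] at hc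
    obtain ⟨y, hy, e⟩ := hc
    rwa [(MulAut.conj g).injective e] at hy
  pn := by
    intro X hX h1 h2
    rw [← cj_centralizer, le_cj_iff]
    apply h.pn _ (isPGroup_cj _ hX)
    · rw [← le_cj_iff, cj_normalizer]; exact h1
    · rw [← cj_normalizer, le_cj_iff, inv_inv]; exact h2

theorem of_mem (h : JB B F U q) {g : G} (hg : g ∈ normalizer (B : Set G)) :
    JB B (H98.cj g F) (H98.cj g U) q := by
  have := h.cj g
  rwa [cj_eq_self hg] at this

theorem conj_eq (h : JB B F U q) {c e : G} (hc : c ∈ B) (hc' : c ∈ centralizer (U : Set G)) (he : e ∈ F) :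
    ∃ u ∈ U, c * e * c⁻¹ = u * e :=
  ⟨⁅c, e⁆, h.cm (commutator_mem_commutator ⟨hc, hc'⟩ he), by simp [commutatorElement_def]⟩

theorem comm_mem (h : JB B F U q) {c d : G} (hc : c ∈ B) (hc' : c ∈ centralizer (U : Set G))
    (hd : d ∈ B) (hd' : d ∈ centralizer (U : Set G)) : ⁅c, d⁆ ∈ centralizer (F : Set G) := by
  have key : ∀ e ∈ F, c * d * e * (c * d)⁻¹ = d * c * e * (d * c)⁻¹ := by
    intro e he
    obtain ⟨u, hu, eu⟩ := h.conj_eq hc hc' he
    obtain ⟨v, hv, ev⟩ := h.conj_eq hd hd' he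
    have a1 : c * d * e * (c * d)⁻¹ = v * (u * e) := by
      calc c * d * e * (c * d)⁻¹ = c * (d * e * d⁻¹) * c⁻¹ := by group
        _ = (c * v) * e * c⁻¹ := by rw [ev]; group
        _ = v * (c * e * c⁻¹) := by rw [← mc.1 hc' v hv]; group
        _ = _ := by rw [eu]
    have a2 : d * c * e * (d * c)⁻¹ = u * (v * e) := by
      calc d * c * e * (d * c)⁻¹ = d * (c * e * c⁻¹) * d⁻¹ := by group
        _ = (d * u) * e * d⁻¹ := by rw [eu]; group
        _ = u * (d * e * d⁻¹) := by rw [← mc.1 hd' u hu]; group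
        _ = _ := by rw [ev]
    rw [a1, a2, ← mul_assoc, ← mul_assoc, mc.1 (h.ab hu) v hv]
  rw [mc]
  intro e he
  have h1 := key _ (conj_mem_of_mem_normalizer' (h.nF (B.mul_mem hd hc)) he)
  have h2 : ⁅c, d⁆ * e * ⁅c, d⁆⁻¹ = e := by
    calc ⁅c, d⁆ * e * ⁅c, d⁆⁻¹ = c * d * ((d * c)⁻¹ * e * (d * c)) * (c * d)⁻¹ := by
          simp only [commutatorElement_def]; group
      _ = _ := by rw [h1]; group
  calc e * ⁅c, d⁆ = ⁅c, d⁆ * e * ⁅c, d⁆⁻¹ * ⁅c, d⁆ := by rw [h2]
    _ = _ := by group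

theorem sq_mem (h : JB B F U q) {c : G} (hc : c ∈ B) (hc' : c ∈ centralizer (U : Set G)) :
    c * c ∈ centralizer (F : Set G) := by
  rw [mc]
  intro e he
  obtain ⟨u, hu, eu⟩ := h.conj_eq hc hc' he
  have a1 : c * c * e * (c * c)⁻¹ = e := by
    calc c * c * e * (c * c)⁻¹ = c * (c * e * c⁻¹) * c⁻¹ := by group
      _ = (c * u) * e * c⁻¹ := by rw [eu]; group
      _ = u * (c * e * c⁻¹) := by rw [← mc.1 hc' u hu]; group
      _ = (u * u) * e := by rw [eu]; group
      _ = e := by rw [h.sq u hu, one_mul]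
  calc e * (c * c) = c * c * e * (c * c)⁻¹ * (c * c) := by rw [a1]
    _ = _ := by group

theorem phi_le (h : JB B F U q) {W : Subgroup G} (hW : W ≤ B ⊓ centralizer (U : Set G)) :
    ⁅W, W⁆ ≤ centralizer (F : Set G) := by
  rw [commutator_le]
  intro a ha b hb
  exact h.comm_mem (hW ha).1 (hW ha).2 (hW hb).1 (hW hb).2

theorem mem_of_comm (h : JB B F U q) {b u : G} (hb : b ∈ B) (hb' : b ∉ centralizer (U : Set G)) (hu : u ∈ U)
    (e : u * b = b * u) : u ∈ centralizer (B : Set G) := by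
  apply h.reg b hb hb' u hu
  rw [commutatorElement_eq_one_iff_mul_comm.2 e]
  exact one_mem _

variable [Finite G]

/-- If `U'` does not centralize `U`, then `B = U' C_B(U)`. -/
theorem dec (h : JB B F U q) (h' : JB B F' U' q) (nc : ¬ U' ≤ centralizer (U : Set G)) {b : G} (hb : b ∈ B) :
    ∃ u' ∈ U', u'⁻¹ * b ∈ centralizer (U : Set G) := by
  have nc' : ¬ U ≤ centralizer (U' : Set G) := fun x => nc (le_centralizer_iff.1 x)
  obtain ⟨u, hu, hu'⟩ := SetLike.not_le_iff_exists.1 nc'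
  have e : centralizer (U : Set G) ⊓ U' = centralizer (B : Set G) ⊓ U' := by
    apply le_antisymm
    · rintro x ⟨hx, hx'⟩
      exact ⟨h'.mem_of_comm (h.UB hu) hu' hx' (mc.1 hx u hu).symm, hx'⟩
    · exact inf_le_inf_right _ (centralizer_anti h.UB)
  apply H96.exists_mul_of_relIndex_le h'.UB _ hb
  rw [h.iB, ← inf_relIndex_right, e, inf_relIndex_right, h'.iU]

/-- `C_B(U) = U C_B(U U')`. -/
theorem dec2 (h : JB B F U q) (h' : JB B F' U' q) (nc : ¬ U' ≤ centralizer (U : Set G)) {c : G} (hc : c ∈ B)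
    (hc' : c ∈ centralizer (U : Set G)) :
    ∃ u ∈ U, ∃ d ∈ B, d ∈ centralizer (U : Set G) ∧ d ∈ centralizer (U' : Set G) ∧ c = u * d := by
  have nc' : ¬ U ≤ centralizer (U' : Set G) := fun x => nc (le_centralizer_iff.1 x)
  obtain ⟨u, hu, e⟩ := h'.dec h nc' hc
  exact ⟨u, hu, u⁻¹ * c, B.mul_mem (B.inv_mem (h.UB hu)) hc,
    mul_mem (inv_mem (h.ab hu)) hc', e, by group⟩

theorem mem_cent (h : JB B F U q) (h' : JB B F' U' q) (nc : ¬ U' ≤ centralizer (U : Set G)) {x : G}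
    (hx : x ∈ B) (hx' : x ∉ centralizer (U : Set G)) (h2 : x * x = 1) :
    ∃ u' ∈ U', ∃ u ∈ centralizer (B : Set G), ∃ d ∈ B, d ∈ centralizer (U : Set G) ∧
      d ∈ centralizer (U' : Set G) ∧ x = u' * (u * d) := by
  obtain ⟨u', hu', e⟩ := h.dec h' nc hx
  obtain ⟨u, hu, d, hd, hd1, hd2, e2⟩ :=
    h.dec2 h' nc (B.mul_mem (B.inv_mem (h'.UB hu')) hx) e
  have ex : x = u' * (u * d) := by rw [← e2]; group
  refine ⟨u', hu', u, ?_, d, hd, hd1, hd2, ex⟩
  have hu'' : u' ∉ centralizer (U : Set G) := fun y => hx' (by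
    have := mul_mem y e
    simpa using this)
  apply h.reg u' (h'.UB hu') hu'' u hu
  have i1 : u⁻¹ = u := inv_eq_of_mul_eq_one_right (h.sq u hu)
  have i2 : u'⁻¹ = u' := inv_eq_of_mul_eq_one_right (h'.sq u' hu')
  have c1 := mc.1 hd1 u hu
  have c2 := mc.1 hd2 u' hu'
  have a : u' * u * u' * u * (d * d) = 1 := by
    rw [← h2, ex]
    calc u' * u * u' * u * (d * d) = u' * u * u' * (u * d) * d := by group
      _ = u' * u * (u' * d) * u * d := by rw [c1]; group
      _ = u' * u * (d * u') * u * d := by rw [c2]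
      _ = _ := by group
  have a2 : ⁅u, u'⁆ = d * d := by
    rw [commutatorElement_def, i1, i2]
    have : u * u' * u * u' = (u' * u * u' * u)⁻¹ := by
      simp only [mul_inv_rev, i1, i2, mul_assoc]
    rw [this]
    exact inv_eq_of_mul_eq_one_right a
  rw [a2]
  exact h.sq_mem hd hd1

theorem le_cent (h : JB B F U q) (h' : JB B F' U' q) (h'' : JB B F'' U'' q)
    (nc : ¬ U' ≤ centralizer (U : Set G)) (nc' : ¬ U'' ≤ centralizer (U : Set G)) :
    U'' ≤ centralizer (U' : Set G) := by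
  have k : ∀ x ∈ U'', x ∉ centralizer (U : Set G) → x ∈ centralizer (U' : Set G) := by
    intro x hx hx'
    obtain ⟨u', hu', u, hu, d, _, _, hd2, e⟩ := h.mem_cent h' nc (h''.UB hx) hx' (h''.sq x hx)
    rw [e]
    exact mul_mem (h'.ab hu') (mul_mem (centralizer_anti h'.UB hu) hd2)
  obtain ⟨x, hx, hx'⟩ := SetLike.not_le_iff_exists.1 nc'
  intro y hy
  by_cases hy' : y ∈ centralizer (U : Set G)
  · have h1 : y * x ∉ centralizer (U : Set G) := fun z => hx' (by
      have := mul_mem (inv_mem hy') z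
      simpa using this)
    have := mul_mem (k _ (U''.mul_mem hy hx) h1) (inv_mem (k x hx hx'))
    simpa using this
  · exact k y hy hy'

/-- Two neighbours of `U` have the same centralizer in `B`. -/
theorem cent_le (h : JB B F U q) (h' : JB B F' U' q) (h'' : JB B F'' U'' q)
    (nc : ¬ U' ≤ centralizer (U : Set G)) (nc' : ¬ U'' ≤ centralizer (U : Set G)) :
    B ⊓ centralizer (U' : Set G) ≤ centralizer (U'' : Set G) := by
  have ncs : ¬ U ≤ centralizer (U' : Set G) := fun x => nc (le_centralizer_iff.1 x)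
  rintro c ⟨hc, hc'⟩
  obtain ⟨w, hw, d, hd, hd2, hd1, rfl⟩ := h'.dec2 h ncs hc hc'
  refine mul_mem (h.le_cent h'' h' nc' nc hw) ?_
  obtain ⟨u, hu, d', hd', hd1', hd2', e⟩ := h.dec2 h'' nc' hd hd1
  obtain ⟨x, hx, hx'⟩ := SetLike.not_le_iff_exists.1 nc'
  obtain ⟨u', hu', u0, hu0, d0, hd0, hd01, _, ex⟩ := h.mem_cent h' nc (h''.UB hx) hx' (h''.sq x hx)
  have hu1 : u ∈ centralizer (B : Set G) := by
    apply h.reg x (h''.UB hx) hx' u hu
    have a1 : ⁅u, x⁆ = ⁅d, x⁆ := by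
      have c1 := mc.1 hd2' x hx
      rw [e]
      simp only [commutatorElement_def]
      calc u * x * u⁻¹ * x⁻¹ = u * (x * d') * d'⁻¹ * u⁻¹ * x⁻¹ := by group
        _ = u * (d' * x) * d'⁻¹ * u⁻¹ * x⁻¹ := by rw [c1]
        _ = _ := by group
    have a2 : ⁅d, x⁆ = (u' * u0) * ⁅d, d0⁆ * (u' * u0)⁻¹ := by
      have c1 : u' * u0 * d = d * (u' * u0) := by
        rw [mul_assoc, ← mc.1 hu0 d hd, ← mul_assoc, mc.1 hd2 u' hu', mul_assoc]
      rw [ex]
      simp only [commutatorElement_def]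
      calc d * (u' * (u0 * d0)) * d⁻¹ * (u' * (u0 * d0))⁻¹
          = (d * (u' * u0)) * d0 * d⁻¹ * d0⁻¹ * (u' * u0)⁻¹ := by group
        _ = (u' * u0 * d) * d0 * d⁻¹ * d0⁻¹ * (u' * u0)⁻¹ := by rw [c1]
        _ = _ := by group
    have hn : u' * u0 ∈ normalizer (centralizer (F : Set G) : Set G) := by
      have : u0 = u'⁻¹ * x * d0⁻¹ := by rw [ex]; group
      have hu0B : u0 ∈ B := by
        rw [this]
        exact B.mul_mem (B.mul_mem (B.inv_mem (h'.UB hu')) (h''.UB hx)) (B.inv_mem hd0)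
      exact le_normalizer_centralizer h.nF (B.mul_mem (h'.UB hu') hu0B)
    rw [a1, a2]
    exact conj_mem_of_mem_normalizer hn (h.comm_mem hd hd1 hd0 hd01)
  rw [e]
  exact mul_mem (centralizer_anti h''.UB hu1) hd2'

theorem cent_eq (h : JB B F U q) (h' : JB B F' U' q) (h'' : JB B F'' U'' q)
    (nc : ¬ U' ≤ centralizer (U : Set G)) (nc' : ¬ U'' ≤ centralizer (U : Set G)) :
    B ⊓ centralizer (U' : Set G) = B ⊓ centralizer (U'' : Set G) :=
  le_antisymm (le_inf inf_le_left (h.cent_le h' h'' nc nc')) (le_inf inf_le_left (h.cent_le h'' h' nc' nc))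

end JB

end H97.QT
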