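import Cfsg.Agent.H97.QULib2

/-! The frames `F1`, `F2`, `O0` (jobs JFr, JO0 of `blueprints/QU.md`). -/

set_option autoImplicit false
set_option linter.unusedSectionVars false

namespace H97.QU

open Subgroup Cfsg H98 H96.CG
open H52 (zc)
open scoped commutatorElement

universe u

variable {G : Type u} [Group G] [Finite G] {M T S K Q : Subgroup G} {s : ℕ} {i z t w₀ z₀ : G}

theorem Tr.two (r : Tr M s S K i) : IsPGroup 2 S := r.cf.beta.good.two

theorem Tr.syl (k : Kit M s) (r : Tr M s S K i) : IsSyl 2 S (cen1 i) :=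
  k.gam_syl _ S r.cf.gam r.cf.beta.good r.cf.beta.card.ge r.cf.le

theorem Tr.nc (k : Kit M s) (r : Tr M s S K i) (hz : TC z) : ¬ IsConj i z := fun e =>
  no_comp (k.tc1 i (hz.of_isConj e.symm)) (IsComponentOf.quasi r.cf.comp) (IsComponentOf.subN r.cf.comp)

theorem Kit.cen_cen (k : Kit M s) (i2 : i * i = 1) {j : G} (hj : TC j) (e : Commute j i) :
    CharP 2 (cen1 j ⊓ cen1 i) := by
  rw [cen1_eq i]
  exact (k.tc1 j hj).inf_centralizer (two_zpowers i2) (le_normalizer_of_le (zpowers_le.2 (mem_cen1.2 e.symm)))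

theorem Kit.rule (k : Kit M s) (c : IsComponentOf K (cen1 i)) (i2 : i * i = 1) {j : G} (hj : TC j)
    (e : Commute j i) : CharP 2 (K ⊓ cen1 j) := by
  have h := k.cen_cen i2 hj e
  rw [inf_comm] at h
  exact h.subN ((IsComponentOf.subN c).inf_right _)

theorem Zt.zS (k : Kit M s) (zt : Zt M S T z) (h : Good M S) : z ∈ zc S :=
  ⟨k.good_z S T h zt.syl zt.ST zt.TM zt.zT, centralizer_anti zt.ST zt.zT.2⟩

theorem Tr.qq (k : Kit M s) (r : Tr M s S K i) (zt : Zt M S T z) (tT : t ∈ T) (tS : t ∈ nor S) (tn : t ∉ S)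
    (tt : t * t ∈ S) (h1 : Q ≤ S) (h2 : S ≤ nor Q) (h3 : Q ≤ cen (ncl S K)) : Q ⊓ cj t Q = ⊥ := by
  obtain ⟨U, X, w, hX⟩ := r.wit
  have hP : S ⊔ zpowers t ≤ T := sup_le zt.ST (zpowers_le.2 tT)
  have n : S ≤ nor (Q ⊓ cj t Q) := le_normalizer_inf h2 (((cj_eq_self tS).ge.trans (cj_mono t h2)).trans (cj_nor t Q).le)
  refine k.no_norm U X _ _ w (zt.syl.isPGroup.to_le hP) (hP.trans zt.TM) ?_ (r.two.to_le (inf_le_left.trans h1))
    (hX.trans (sup_le (le_normalizer_of_le_centralizer (cen_symm (inf_le_left.trans h3))) n))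
    (sup_le n (zpowers_le.2 (cj_eq_self_iff.1 ?_)))
  · rw [card_sup_zp tS tt tn, r.cf.beta.card]
    have : 0 < s := r.cf.beta.card ▸ Nat.card_pos
    omega
  · rw [cj_inf, cj_cj, cj_eq_self (h2 tt), inf_comm]

theorem Tr.fc (k : Kit M s) (r : Tr M s S K i) (zt : Zt M S T z) (tT : t ∈ T) (tS : t ∈ nor S) (tn : t ∉ S)
    (tt : t * t ∈ S) (qq : Q ⊓ cj t Q = ⊥) (iQ : i ∈ Q) (w1 : w₀ ∈ zc S) (w2 : w₀ * w₀ = 1) (wz : z * w₀ ∈ Q)
    (h : ∀ w ∈ zc S, w * w = 1 → w ∈ Q ∨ w * w₀ ∈ Q) : Fc M T S K s i z t ∧ (w₀ = z ∨ w₀ = i * z) := by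
  have zS := zt.zS k r.cf.beta.good
  have nZ : ∀ {g w}, g ∈ nor S → w ∈ zc S → g * w * g⁻¹ ∈ zc S := fun {g w} hg hw => by
    have := conj_mem_cj (g := g) hw
    rwa [cj_zc', cj_eq_self hg] at this
  have sq : ∀ {g w : G}, w * w = 1 → g * w * g⁻¹ * (g * w * g⁻¹) = 1 := fun e => by rw [conj_mul, e]; simp
  have out : ∀ a ∈ Q, a ≠ 1 → t * a * t⁻¹ ∉ Q := fun a ha a1 e => a1 (by
    simpa using qq.le (mem_inf.2 ⟨e, conj_mem_cj ha⟩))
  have A : ∀ a ∈ Q, a ∈ zc S → a * a = 1 → a = 1 ∨ a = i := fun a ha hz a2 => or_iff_not_imp_left.2 fun a1 => by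
    have e1 := (h _ (nZ tS hz) (sq a2)).resolve_left (out a ha a1)
    have e2 := (h _ (nZ tS r.iS) (sq r.i2)).resolve_left (out i iQ r.i1)
    by_contra e
    refine out (a * i⁻¹) (mul_mem ha (inv_mem iQ)) (by rwa [Ne, mul_inv_eq_one]) ?_
    simpa [mul_assoc] using mul_mem e1 (inv_mem e2)
  have sq2 : ∀ {a b}, a ∈ zc S → b ∈ zc S → a * a = 1 → b * b = 1 → a * b * (a * b) = 1 := fun ha hb e1 e2 => by
    rw [(zcom ha hb.1).mul_mul_mul_comm, e1, e2, mul_one]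
  have zi : z * i = i * z := (zcom r.iS zS.1).eq
  have B : w₀ = z ∨ w₀ = i * z := (A _ wz (mul_mem zS w1) (sq2 zS w1 zt.z2 w2)).imp
    (fun e => by rw [← inv_of_sq zt.z2, inv_eq_of_mul_eq_one_right e]) fun e => by
      rw [← zi, ← e, ← mul_assoc, zt.z2, one_mul]
  have om : ∀ w ∈ zc S, w * w = 1 → w = 1 ∨ w = i ∨ w = z ∨ w = i * z := fun w hw e => by
    rcases h w hw e with e' | e'
    · exact (A w e' hw e).imp_right .inl
    have e1 : w = w * w₀ * w₀ := by rw [mul_assoc, w2, mul_one]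
    rcases A _ e' (mul_mem hw w1) (sq2 hw w1 e w2) with e' | e' <;> rw [e'] at e1 <;> rcases B with rfl | rfl
    · exact .inr (.inr (.inl (by simpa using e1)))
    · exact .inr (.inr (.inr (by simpa using e1)))
    · exact .inr (.inr (.inr e1))
    · exact .inr (.inr (.inl (by rw [e1, ← mul_assoc, r.i2, one_mul])))
  have nc := r.nc k zt.tc
  have C : ∀ g ∈ nor S, g * i * g⁻¹ = i ∨ g * i * g⁻¹ = i * z := fun g hg => by
    rcases om _ (nZ hg r.iS) (sq r.i2) with e | e | e | e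
    exacts [(r.i1 (by simpa using e)).elim, .inl e, (nc (isConj_iff.2 ⟨g, e⟩)).elim, .inr e]
  have ti := (C t tS).resolve_left fun e => out i iQ r.i1 (e.symm ▸ iQ)
  have fix : ∀ g ∈ T, g * i * g⁻¹ = i → g ∈ S := fun g hg e => ((r.syl k).eq_of_le
    (zt.syl.isPGroup.to_le (inf_le_left : T ⊓ cen1 i ≤ T)) (le_inf zt.ST r.cf.le) inf_le_right).le
      ⟨hg, mem_cen1.2 (mul_inv_eq_iff_eq_mul.1 e)⟩
  refine ⟨⟨r, zt, tT, tS, tn, tt, fun g hg => (mem_sup_zp tS tt).2 ((C g hg.2).imp (fix g hg.1) fun e =>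
    fix _ (mul_mem hg.1 tT) ?_), ti, om, nc, r.syl k, fun j => k.rule r.cf.comp r.i2⟩, B⟩
  rw [show g * t * i * (g * t)⁻¹ = g * (t * i * t⁻¹) * g⁻¹ by group, ti, ← conj_mul, e,
    (zcom zt.zT hg.1).eq, mul_inv_cancel_right, mul_assoc, zt.z2, mul_one]

theorem Tr.nK (k : Kit M s) (r : Tr M s S K i) (h : S ≤ nor K) : cen1 i ≤ nor K :=
  (k.comp2 _ K (core_cen1_ne r.i2 r.i1) r.cf.comp).resolve_right fun e => (r.syl k).not_dvd_relIndex
    (e ▸ relIndex_dvd_of_le_left _ h)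

theorem Tr.iK (r : Tr M s S K i) : i ∈ cen K := mem_cen.2 fun _ hy => mem_cen1.1 (r.cf.comp.1 hy)

theorem jobFr : JFr.{u} := by
  intro J G _ _ M T S K s i z z₀ k r zt b zz
  obtain ⟨t, tT, tS, tn, tt⟩ := exists_sq_mem zt.syl.isPGroup (zt.ST.lt_of_ne fun e =>
    (k.lt T zt.syl).ne (e ▸ r.cf.beta.card.symm))
  have zS := zt.zS k r.cf.beta.good
  have f := J G M _ K z₀ b
  by_cases hK : S ≤ nor K
  · rw [inf_of_le_left hK] at f
    have nK := r.nK k hK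
    have qq : S ⊓ cen K ⊓ cj t (S ⊓ cen K) = ⊥ := r.qq k zt tT tS tn tt inf_le_left
      (le_normalizer_inf le_normalizer (le_normalizer_centralizer hK)) (by rw [ncl_eq_self hK]; exact inf_le_right)
    obtain ⟨fc, e⟩ := r.fc k zt tT tS tn tt qq ⟨r.iS.1, r.iK⟩ f.zP f.z2 ⟨mul_mem zS.1 f.zP.1, zz⟩ fun w hw _ =>
      (f.zC w hw).imp (fun e => ⟨hw.1, e⟩) fun e => ⟨mul_mem hw.1 f.zP.1, e⟩
    have ch : CharP 2 (cen1 i ⊓ cen K) := by
      refine (k.cen_cen r.i2 zt.tc (zcom zS r.iS.1).symm).normal (le_inf (fun x hx => mem_cen1.2 ?_) inf_le_left) (inf_le_right.trans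
        (le_normalizer_inf le_normalizer (le_normalizer_centralizer nK)))
      have c0 : Commute x z₀ := (com hx.2 f.zK).symm
      rcases e with rfl | rfl
      · exact c0
      · simpa using (mem_cen1.1 hx.1).inv_right.mul_right c0
    refine .inl ⟨t, ?_⟩
    rcases e with rfl | rfl
    exacts [.inl ⟨fc, f, nK, qq, ch⟩, .inr ⟨fc, f, nK, qq, ch⟩]
  obtain ⟨y, yS, yn⟩ := SetLike.not_le_iff_exists.1 hK
  have yi := r.cf.le yS
  have idx := (k.comp2 _ K (core_cen1_ne r.i2 r.i1) r.cf.comp).resolve_left fun e => yn (e yi)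
  have two : ∀ g ∈ cen1 i, g ∈ nor K ∨ g * y ∈ nor K := fun g hg => or_iff_not_imp_left.2 fun e =>
    (mul_mem_iff_of_index_two (a := (⟨g, hg⟩ : cen1 i)) (b := ⟨y, yi⟩) idx).2 (iff_of_false e yn)
  have nn : ∀ g ∈ cen1 i, g ∈ nor K → g ∈ nor (cj y K) := fun g hg e => by
    rw [← cj_nor, mem_cj]
    refine (two _ (mul_mem (inv_mem yi) hg)).resolve_left fun e' => yn ?_
    simpa using inv_mem (mul_mem e' (inv_mem e))
  have yy : y * y ∈ nor K := (two y yi).resolve_left yn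
  have k2 : cj y (cj y K) = K := by rw [cj_cj, cj_eq_self yy]
  have c2 := IsComponentOf.cj_of_mem r.cf.comp yi
  have cm : K ≤ cen (cj y K) := (IsComponentOf.eq_or_cen r.cf.comp c2).resolve_left fun e =>
    yn (cj_eq_self_iff.1 e.symm)
  have eP : cj y (S ⊓ nor K) = S ⊓ nor K := cj_eq_self (mem_normalizer_of_cj_le fun x hx => by
    have h1 : x ∈ S := cj_le_of_le_of_mem inf_le_left yS hx
    have h2 := nn _ (r.cf.le (mem_cj.1 hx).1) (mem_cj.1 hx).2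
    rw [← cj_nor, mem_cj] at h2
    refine ⟨h1, ?_⟩
    simpa [mul_assoc] using mul_mem (mul_mem yy h2) (inv_mem yy))
  have f' := J G M _ _ _ (eP ▸ b.cj (r.cf.beta.good.le yS))
  have y2 : y * (y * z₀ * y⁻¹) * y⁻¹ = z₀ := by
    rw [show y * (y * z₀ * y⁻¹) * y⁻¹ = y * y * z₀ * (y * y)⁻¹ by group,
      (zcom f.zP ⟨mul_mem yS yS, yy⟩).eq, mul_inv_cancel_right]
  have z12 : Commute z₀ (y * z₀ * y⁻¹) := (com (cm f.zK) f'.zK).symm
  have ne9 : ¬ E9 (cj y K) := fun ⟨E, h1, h2, h3⟩ => by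
    obtain ⟨D, d1, d2⟩ := f.toL4.exists_v4
    obtain ⟨x, hx, x3⟩ := f.xD D (d1.trans inf_le_right) d2
    refine k.no_rank3 d2.two d2.ne_bot h2 h3 x3 (centralizer_anti h1 (cm hx.1)) (fun e => ?_)
      (le_normalizer_of_le_centralizer (h1.trans (cen_symm ((d1.trans inf_le_right).trans cm)))) hx.2
    rw [f'.eq_one (h1 e) (cm hx.1), orderOf_one] at x3
    omega
  have ne9' : ¬ E9 K := fun e => ne9 (e.cj y)
  have nQ : S ≤ nor (S ⊓ cen K ⊓ cen (cj y K)) := by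
    rw [inf_assoc]
    refine le_normalizer_inf le_normalizer fun g hg => cj_eq_self_iff.1 ?_
    rw [cj_inf, cj_cen, cj_cen]
    rcases two g (r.cf.le hg) with e | e
    · rw [cj_eq_self e, cj_eq_self (nn g (r.cf.le hg) e)]
    · have e1 : cj g (cj y K) = K := by rw [cj_cj, cj_eq_self e]
      have e2 : cj g K = cj y K := by
        rw [← k2, cj_cj, cj_eq_self (nn _ (r.cf.le (mul_mem hg yS)) e), k2]
      rw [e1, e2, inf_comm]
  have qq := r.qq k zt tT tS tn tt (inf_le_left.trans inf_le_left) nQ (le_centralizer_ncl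
    (inf_le_left.trans inf_le_right) nQ)
  have w1 : z₀ * (y * z₀ * y⁻¹) ∈ zc S := by
    refine mem_zc.2 ⟨mul_mem f.zP.1.1 f'.zP.1.1, fun g hg => ?_⟩
    have cy : Commute y (z₀ * (y * z₀ * y⁻¹)) := by
      rw [Commute, SemiconjBy, ← mul_inv_eq_iff_eq_mul, ← conj_mul, y2, z12.eq]
    rcases two g (r.cf.le hg) with e | e
    · exact (zcom f.zP ⟨hg, e⟩).mul_right (zcom f'.zP ⟨hg, e⟩)
    · simpa using ((zcom f.zP ⟨mul_mem hg yS, e⟩).mul_right (zcom f'.zP ⟨mul_mem hg yS, e⟩)).mul_left cy.inv_left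
  have tr : ∀ w ∈ zc S, w * z₀ ∈ cen K → w * (z₀ * (y * z₀ * y⁻¹)) ∈ S ⊓ cen K ⊓ cen (cj y K) := fun w hw e => by
    refine ⟨⟨mul_mem hw.1 w1.1, ?_⟩, ?_⟩
    · rw [← mul_assoc]; exact mul_mem e (cen_symm cm f'.zK)
    · rw [z12.eq, ← mul_assoc]
      refine mul_mem ?_ (cm f.zK)
      have := conj_mem_cj (g := y) e
      rwa [cj_cen, ← conj_mul, (zcom hw yS).eq, mul_inv_cancel_right] at this
  obtain ⟨fc, e⟩ := r.fc k zt tT tS tn tt qq ⟨⟨r.iS.1, r.iK⟩, mem_cen.2 fun _ hy => mem_cen1.1 (c2.1 hy)⟩ w1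
    (by rw [z12.symm.mul_mul_mul_comm, f.z2, f'.z2, mul_one]) (tr z zS zz) fun w hw _ => by
      have hn : w ∈ nor K := IsComponentOf.mem_nor r.cf.comp (r.cf.le hw.1) (fun e => f.z1 (f.eq_one f.zK e)) (by
        rw [← (zcom hw f.zP.1.1).eq, mul_inv_cancel_right]; exact f.zK)
      refine (f.zC w ⟨⟨hw.1, hn⟩, centralizer_anti inf_le_left hw.2⟩).imp (fun e => ⟨⟨hw.1, e⟩, ?_⟩) (tr w hw)
      have := conj_mem_cj (g := y) e
      rwa [cj_cen, (zcom hw yS).eq, mul_inv_cancel_right] at this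
  exact .inr ⟨_, t, y, _, ⟨fc, yS, yn, rfl, k2, rfl, y2, fun g hg => (two g hg).imp (fun e => ⟨e, nn g hg e⟩)
    fun e => ⟨e, nn _ (mul_mem hg yi) e⟩, c2, cm, f, f', f.typ.resolve_right fun ⟨_, _, e⟩ => ne9' e.e9,
    f'.typ.resolve_right fun ⟨_, _, e⟩ => ne9 e.e9, f.alt.resolve_right fun ⟨_, _, _, e⟩ => ne9' e.e9,
    f'.alt.resolve_right fun ⟨_, _, _, e⟩ => ne9 e.e9, qq, fun j => k.rule c2 r.i2⟩, e⟩

theorem jobO0 : JO0.{u} := by
  intro J G _ _ M T S K s i z t k f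
  have r := f.tr
  have tM := f.zt.TM f.tT
  have eS := cj_eq_self f.tS
  have zS := f.zt.zS k r.cf.beta.good
  have zi : z * i = i * z := (zcom r.iS zS.1).eq
  have tz : t * z * t⁻¹ = z := by rw [(zcom f.zt.zT f.tT).eq, mul_inv_cancel_right]
  have e1 : i * z * z = i := by rw [mul_assoc, f.zt.z2, mul_one]
  have t1 : t * (i * z) * t⁻¹ = i := by rw [← conj_mul, f.ti, tz, e1]
  have eC : cj t (cen1 i) = cen1 (i * z) := by rw [cj_cen1, f.ti]
  have k2 : cj t (cj t K) = K := by rw [cj_cj, cj_eq_self (f.f4.nK f.tt)]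
  have c2 : IsComponentOf (cj t K) (cen1 (i * z)) := eC ▸ IsComponentOf.cj r.cf.comp t
  have f2 : F4 M S (cj t K) i := J G M _ _ _ (by simpa only [eS, t1] using f.f4.toB4.cj tM)
  have r2 : Tr M s S (cj t K) (i * z) := by
    obtain ⟨U, X, w, hX⟩ := r.wit
    refine ⟨⟨r.cf.beta, eC ▸ eS.ge.trans (cj_mono t r.cf.le), eC ▸ k.gam_cj _ t r.cf.gam tM, c2, f2.nti⟩,
      f.f4.z1, f.f4.z2, f.f4.zP, _, _, k.wit_cj U X t w tM, ?_⟩
    simpa only [cj_sup, cj_ncl, eS] using cj_mono t hX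
  have fc2 : Fc M T S (cj t K) s (i * z) z t :=
    ⟨r2, f.zt, f.tT, f.tS, f.tn, f.tt, f.nT, by rw [t1, e1], fun w hw e => by
      rw [e1]; have := f.om w hw e; tauto, r2.nc k f.zt.tc, r2.syl k, fun j => k.rule c2 r2.i2⟩
  have ui : S ⊓ K ⊓ cj t K = ⊥ := by
    by_contra e
    obtain ⟨w, h1, h2, h3, h4⟩ := exists_inv_zc r.two (inf_le_left.trans inf_le_left)
      (le_normalizer_inf f.f4.nU f2.nK) e
    rcases f.om w h2 h3 with rfl | rfl | rfl | rfl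
    · exact h4 rfl
    · exact h4 (f.f4.eq_one h1.1.2 r.iK)
    · exact r.i1 (f.f4.eq_one (e1 ▸ mul_mem f.f4.zK h1.1.2) r.iK)
    · exact h4 (f2.eq_one h1.2 r2.iK)
  have nz : ∀ {K₁ K₂ z₁ z₂}, F4 M S K₁ z₁ → F4 M S K₂ z₂ → K₁ ≤ cen1 z₂ → IsComponentOf K₂ (cen1 z₁) → z₁ * z₂ = z →
      ∀ d ∈ S ⊓ K₁, d * d = 1 → d ≠ 1 → d * z₂ ∉ cen K₂ := by
    intro K₁ K₂ z₁ z₂ a b c1 c2 e d hd d2 d1 h
    obtain ⟨g, hg, rfl⟩ := a.one d hd.2 d2 d1
    have := k.rule c2 a.z2 (j := g * z₁ * g⁻¹ * z₂) (by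
      have := f.zt.tc.cj g
      rwa [← e, ← conj_mul, (mem_cen1.1 (c1 hg)).eq, mul_inv_cancel_right] at this)
      (zcom a.zP (mul_mem hd.1 b.zP.1))
    rw [inf_of_le_left fun x hx => mem_cen1.2 (com h hx)] at this
    exact quasi_not_charP b.quasi this
  have ez : i * z * i = z := by rw [mul_assoc, zi, ← mul_assoc, r.i2, one_mul]
  have ez' : i * (i * z) = z := by rw [← mul_assoc, r.i2, one_mul]
  refine ⟨f.toFc, fc2, f.f4, f2, ez, ez', rfl, k2, t1, f.ti, f.nK, eC ▸ cj_nor t K ▸ cj_mono t f.nK, ?_, ui, ?_, f.ch,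
    by simpa only [cj_inf, cj_cen, eC] using f.ch.cj t, nz f.f4 f2 r.cf.comp.1 c2 ez, nz f2 f.f4 c2.1 r.cf.comp ez'⟩
  · refine commutator_eq_bot_iff_le_centralizer.1 (eq_bot_iff.2 (le_trans (le_inf ?_ ?_) ui.le))
    · exact commutator_le_left' (inf_le_left.trans f.f4.nU)
    · exact (commutator_le_right' (inf_le_left.trans f2.nU)).trans inf_le_right
  · rw [← f.qq, cj_inf, eS, cj_cen, ← inf_inf_distrib_left, inf_assoc]

end H97.QU
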