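import Cfsg.Agent.H97.QUMXb
import Cfsg.Agent.H12.ExtTransfer

/-! Job JMX2 of `blueprints/QU.md`. -/

set_option autoImplicit false
set_option linter.unusedSectionVars false
set_option linter.unusedSimpArgs false

namespace H97.QU

open Subgroup Cfsg H98 H96.CG
open H52 (zc)
open scoped commutatorElement

universe u

variable {G : Type u} [Group G] [Finite G] {T : Subgroup G} {n : ℕ} {σ d i z ρ e g c w f y : G}

theorem lc {a b c : G} (h : a * b = c) (x : G) : a * (b * x) = c * x := by rw [← mul_assoc, h]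

theorem sq_mem_of {C : Subgroup G} (h : c ∈ nor C) (h1 : c * c ∈ C) (h2 : g * c ∈ C) : g * g ∈ C := by
  rw [show g * g = g * c * (c⁻¹ * (g * c) * c) * (c * c)⁻¹ by group]
  exact mul_mem (mul_mem h2 (conj_mem_of_mem_normalizer' h h2)) (inv_mem h1)

namespace MX
variable (m : MX T n σ d i z ρ e)
include m

theorem σS : σ ∈ closure {σ, d, i} := subset_closure (by simp)

theorem dS : d ∈ closure {σ, d, i} := subset_closure (by simp)

theorem iS : i ∈ closure {σ, d, i} := subset_closure (by simp)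

theorem CS : closure {σ, i} ≤ closure {σ, d, i} := pair_le.2 ⟨m.σS, m.iS⟩

theorem pow4 : σ ^ (4 : ℤ) ≠ 1 := fun h => absurd ((pow_dvd_pow 2 m.four).trans
  (m.ord ▸ orderOf_dvd_of_pow_eq_one (n := 4) (by exact_mod_cast h))) (by decide)

theorem dih : Dih (closure {σ, d}) (closure {σ, d}) z n σ d :=
  ⟨by have := m.four; omega, m.ord, m.dd, m.dσ, fun ⟨k, h⟩ => m.pow4 (by
    have := m.dσ
    rw [← h, conj_fix ((Commute.refl σ).zpow_left k), eq_inv_iff_mul_eq_one] at this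
    rw [show (4 : ℤ) = 2 + 2 from rfl, zpow_add, zpow_two, this, mul_one]), rfl, m.ez,
    inf_of_le_left fun g hg => mem_cen1.2 (zcom m.zT (m.ST (pair_le.2 ⟨m.σS, m.dS⟩ hg)))⟩

theorem ρρ : ρ * ρ = z := by rw [← m.dih.rho, m.er, ← zpow_natCast]; norm_cast

theorem eρ' : ρ = σ ^ ((2 : ℤ) ^ (n - 2)) := by rw [m.er, ← zpow_natCast]; norm_cast

theorem memC : c ∈ closure {σ, i} ↔ ∃ k : ℤ, c = σ ^ k ∨ c = i * σ ^ k :=
  mem_rd (m := 1) m.ii (by rw [conj_fix m.iσ, zpow_one])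

theorem powC (k : ℤ) : σ ^ k ∈ closure {σ, i} := zpow_mem (mem_pair_left _ _) k

theorem zC : z ∈ closure {σ, i} := m.dih.ez' ▸ m.powC _

theorem comC (hc : c ∈ closure {σ, i}) : Commute σ c := by
  obtain ⟨k, rfl | rfl⟩ := m.memC.1 hc
  exacts [(Commute.refl σ).zpow_right k, m.iσ.symm.mul_right ((Commute.refl σ).zpow_right k)]

theorem dC (hc : c ∈ closure {σ, i}) : d * c * d⁻¹ = c⁻¹ := by
  obtain ⟨k, rfl | rfl⟩ := m.memC.1 hc
  · exact m.dih.inv0 k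
  · rw [conj_dist, m.dih.inv0, conj_fix m.id.symm, mul_inv_rev, inv_of_sq m.ii, (m.iσ.zpow_right k).inv_right.eq]

theorem dn : d ∈ nor (closure {σ, i}) :=
  nor_pair (m.dσ ▸ inv_mem (mem_pair_left _ _)) ((conj_fix m.id.symm).symm ▸ mem_pair_right _ _)

theorem memS : g ∈ closure {σ, d, i} ↔ g ∈ closure {σ, i} ∨ g * d ∈ closure {σ, i} := by
  rw [triple_eq, mem_sup_zp m.dn (m.dd ▸ one_mem _)]

theorem invC (hc : c ∈ closure {σ, i}) (h : c * c = 1) : c = 1 ∨ c = z ∨ c = i ∨ c = i * z := by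
  obtain ⟨k, rfl | rfl⟩ := m.memC.1 hc
  · exact (m.dih.pow_inv h).imp_right .inl
  · rw [(m.iσ.zpow_right k).symm.mul_mul_mul_comm, m.ii, one_mul] at h
    rcases m.dih.pow_inv h with h | h <;> simp [h]

theorem refl (h : g * d ∈ closure {σ, i}) : ⁅σ, g⁆ = σ * σ := by
  have e : g = g * d * d := by rw [mul_assoc, m.dd, mul_one]
  rw [commutatorElement_def, mul_assoc, mul_assoc, ← mul_assoc g, e, conj_conj, ← conj_inv, m.dσ, inv_inv,
    conj_fix (m.comC h).symm]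

theorem eS : T ⊓ cen1 i = closure {σ, d, i} :=
  m.sS.eq_of_le (m.syl.isPGroup.to_le inf_le_left) (le_inf m.ST m.sS.le) inf_le_right

theorem iz : Commute i z := zcom m.zT (m.ST m.iS)

theorem i1 : i ≠ 1 := fun h => m.nc (by simpa [h] using m.ei)

theorem ciz : IsConj i (i * z) := isConj_iff.2 ⟨e, m.ei⟩

theorem mem1 : g ∈ T ⊓ nor (closure {i, z}) ↔ g ∈ T ∧ (g * i * g⁻¹ = i ∨ g * i * g⁻¹ = i * z) := by
  refine ⟨fun h => ⟨h.1, ?_⟩, fun h => ⟨h.1, nor_pair ?_ ((conj_fix (zcom m.zT h.1)).symm ▸ mem_pair_right _ _)⟩⟩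
  · rcases (mem_pair m.ii m.dih.z2 m.iz).1 (conj_mem_of_mem_normalizer h.2 (mem_pair_left i z)) with h | h | h | h
    exacts [(conj_ne g m.i1 h).elim, .inl h, (m.nc (isConj_iff.2 ⟨g, h⟩)).elim, .inr h]
  · rcases h.2 with h | h <;> rw [h]
    exacts [mem_pair_left _ _, mul_mem (mem_pair_left _ _) (mem_pair_right _ _)]

theorem S1 : closure {σ, d, i} ≤ T ⊓ nor (closure {i, z}) := fun _ h =>
  m.mem1.2 ⟨m.ST h, .inl (conj_fix (mem_cen1.1 (m.sS.le h)))⟩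

theorem dec1 (hg : g ∈ T ⊓ nor (closure {i, z})) (hf : f ∈ T) (fi : f * i * f⁻¹ = i * z) :
    g ∈ closure {σ, d, i} ∨ g * f ∈ closure {σ, d, i} :=
  (m.mem1.1 hg).2.imp (fun h => m.eS.le ⟨hg.1, mem_cen1.2 (comm_of_fix h)⟩) fun h => m.eS.le ⟨mul_mem hg.1 hf,
    mem_cen1.2 (comm_of_fix (by rw [conj_conj, fi, conj_dist, h, conj_fix (zcom m.zT hg.1), mul_assoc, m.dih.z2, mul_one]))⟩

theorem eC : e ∈ nor (closure {σ, i}) := nor_pair m.eσ (m.ei ▸ mul_mem (mem_pair_right _ _) m.zC)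

theorem ee : e * e = 1 ∨ e * e = z := m.alt.imp (·.1) (·.1)

theorem sqC (hg : g ∈ T ⊓ nor (closure {i, z})) : g * g ∈ closure {σ, i} := by
  have e2 : e * e ∈ closure {σ, i} := m.ee.elim (· ▸ one_mem _) (· ▸ m.zC)
  rcases m.dec1 hg m.eT m.ei with h | h <;> rcases m.memS.1 h with h | h
  · exact mul_mem h h
  · exact sq_mem_of m.dn (m.dd ▸ one_mem _) h
  · exact sq_mem_of m.eC e2 h
  · exact sq_mem_of (mul_mem m.eC m.dn) (by rwa [m.ed.symm.mul_mul_mul_comm, m.dd, mul_one]) (mul_assoc g e d ▸ h)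

theorem ρd : d * ρ * d⁻¹ = ρ⁻¹ := m.eρ' ▸ m.dih.inv0 _

theorem ρi : ρ⁻¹ = ρ * z := 
  inv_eq_of_mul_eq_one_right (by rw [← mul_assoc, m.ρρ, m.dih.z2])

theorem ρS : ρ ∈ closure {σ, i} := m.eρ' ▸ m.powC _

theorem iρ : Commute i ρ := m.eρ' ▸ m.iσ.zpow_right _

/-- the action of `e` on `σ` -/
theorem act : (∃ c, (c = 1 ∨ c = z) ∧ e * σ * e⁻¹ = σ * c) ∨ ∃ c, (c = ρ ∨ c = ρ⁻¹) ∧ e * σ * e⁻¹ = σ * c * i := by
  have D := m.dih
  have n4 := m.four
  have ec : Commute (e * e) σ := m.ee.elim (· ▸ Commute.one_left σ) (· ▸ (m.comC m.zC).symm)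
  have ez := conj_fix (zcom m.zT m.eT)
  have p2 : (2 : ℤ) ^ (n - 2) = 2 * 2 ^ (n - 3) := by rw [← pow_succ']; congr; omega
  have i2 : ∀ k : ℤ, i ^ (2 * k) = 1 := fun k => by rw [zpow_mul, zpow_two, m.ii, one_zpow]
  have key : ∀ a : ℤ, σ ^ (a * 2 ^ (n - 2)) = ρ → ∃ b, a = 4 * b + 1 := fun a h => by
    rw [m.eρ', D.pow_eq, D.two_pow, D.two_pow', ← mul_assoc, ← sub_one_mul,
      Int.mul_dvd_mul_iff_right (by positivity)] at h
    obtain ⟨b, h⟩ := h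
    exact ⟨b, by omega⟩
  have h0 := conj_fix m.eρ
  have h1 := conj_fix ec
  rw [conj_conj] at h1
  nth_rw 1 [m.eρ', ← conj_zpow] at h0
  obtain ⟨a, h | h⟩ := m.memC.1 m.eσ <;> rw [h] at h0 h1
  · obtain ⟨b, rfl⟩ := key a (by rwa [zpow_mul])
    rw [← conj_zpow, h, ← zpow_mul, show (4 * b + 1) * (4 * b + 1) = (2 * b + 1) * (4 * b + 4 * b) + 1 by ring,
      zpow_add_one, mul_eq_right] at h1
    exact .inl ⟨_, D.pow_inv ((zpow_add _ _ _).symm.trans (D.odd_dvd (by omega) h1)), by rw [h, add_comm, zpow_one_add]⟩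
  obtain ⟨b, rfl⟩ := key a (by rwa [(m.iσ.zpow_right a).mul_zpow, p2, i2, one_mul, ← p2, ← zpow_mul] at h0)
  rw [conj_dist, m.ei, ← conj_zpow, h, (m.iσ.zpow_right _).mul_zpow, show 4 * b + 1 = 2 * (2 * b) + 1 from by ring,
    zpow_add_one i, i2, one_mul, ← mul_assoc, mul_assoc i z, ← m.iz.eq, ← mul_assoc, m.ii, one_mul, ← zpow_mul,
    show (2 * (2 * b) + 1) * (2 * (2 * b) + 1) = (2 * b + 1) * (4 * b + 4 * b) + 1 by ring, zpow_add_one, ← mul_assoc,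
    mul_eq_right, ← D.odd_z (k := 2 * b + 1) (by omega), ← zpow_add, ← mul_add] at h1
  have h2 := D.odd_dvd (by omega) h1
  refine .inr ⟨σ ^ (4 * b), ?_, by rw [h, add_comm, zpow_one_add, (m.iσ.mul_right (m.iσ.zpow_right _)).eq]⟩
  rcases D.pow_inv (k := 4 * b + 2 ^ (n - 2)) (by rw [← zpow_add, ← h2, D.two_pow']; congr 1; ring) with h | h <;>
    rw [zpow_add, ← m.eρ'] at h
  exacts [.inr (eq_inv_of_mul_eq_one_left h), .inl (mul_right_cancel (h.trans m.ρρ.symm))]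

theorem eqT (h : ∀ y ∈ T, y ∈ nor (T ⊓ nor (closure {i, z})) → y * i * y⁻¹ ∈ closure {σ, i}) :
    T ≤ T ⊓ nor (closure {i, z}) := by
  by_contra hn
  obtain ⟨y, hy, yn⟩ := SetLike.exists_of_lt (lt_inf_normalizer m.syl.isPGroup (inf_le_left.lt_of_not_ge hn))
  rcases m.invC (h y hy.1 hy.2) (conj_sq y m.ii) with h | h | h | h
  exacts [conj_ne y m.i1 h, m.nc (isConj_iff.2 ⟨y, h⟩), yn (m.mem1.2 ⟨hy.1, .inl h⟩), yn (m.mem1.2 ⟨hy.1, .inr h⟩)]

theorem case1 (hc : c = ρ ∨ c = ρ⁻¹) (h : e * σ * e⁻¹ = σ * c * i) : False := by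
  have ez := zcom m.zT m.eT
  rcases m.alt with ⟨e2, nc, h1⟩ | ⟨e2, -, a, b, two, ne, ha, hb⟩
  · have h2 : IsConj (e * ρ * i) (e * ρ⁻¹ * i) := isConj_iff.2 ⟨d, by
      rw [conj_dist, conj_dist, conj_fix m.ed.symm, conj_fix m.id.symm, m.ρd]⟩
    have h3 := isConj_conj σ⁻¹ e
    have ie : i * e = e * (i * z) := by
      rw [← mul_left_inj e⁻¹, mul_inv_cancel_right, conj_dist, m.ei, conj_fix ez, mul_assoc, m.dih.z2, mul_one]
    rw [show σ⁻¹ * e * σ⁻¹⁻¹ = σ⁻¹ * (e * σ * e⁻¹) * e by group, h, mul_assoc σ, inv_mul_cancel_left, mul_assoc, ie,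
      m.iz.eq] at h3
    rcases hc with rfl | rfl
    · rw [← mul_assoc, ← m.eρ.eq, mul_assoc, ← mul_assoc c, ← m.ρi, ← mul_assoc] at h3
      exact nc ((h1.trans h2).trans h3.symm)
    · rw [← mul_assoc, ← m.eρ.inv_right.eq, m.ρi, mul_assoc, mul_assoc, ← mul_assoc z, m.dih.z2, one_mul, ← mul_assoc] at h3
      exact nc (h1.trans h3.symm)
  have e1 := m.mem1.2 ⟨m.eT, .inr m.ei⟩
  have σ1 := m.S1 m.σS
  have eq := m.eqT fun y _ hy => by
    have A : ∀ g ∈ T ⊓ nor (closure {i, z}), g * g ∈ cj y⁻¹ (closure {σ, i}) := fun g hg => by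
      rw [mem_cj, inv_inv, conj_dist]; exact m.sqC (conj_mem_of_mem_normalizer hy hg)
    have h1 : ρ ∈ cj y⁻¹ (closure {σ, i}) := by
      rw [m.er, show n - 2 = n - 3 + 1 by have := m.four; omega, pow_succ, pow_mul, sq]; exact A _ (pow_mem σ1 _)
    have h2 := A _ (mul_mem σ1 e1)
    rw [show σ * e * (σ * e) = σ * (e * σ * e⁻¹) * (e * e) by group, h, mul_mem_cancel_right (A e e1), ← mul_assoc, ← mul_assoc,
      mul_mem_cancel_left (mul_mem (A σ σ1) (hc.elim (· ▸ h1) (· ▸ inv_mem h1))),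
      mem_cj, inv_inv] at h2
    exact h2
  obtain ⟨g, -, hg⟩ := m.syl.exists_cj_le two le_top
  have B : ∀ a' ∈ closure {a, b}, IsConj z (a' * a') → g * (a' * a') * g⁻¹ = z := fun a ha h => by
    have h' := h.trans (isConj_conj g _)
    obtain ⟨x, hx⟩ := isConj_iff.1 h'
    have := m.sqC (eq (hg (conj_mem_cj ha)))
    rw [← conj_dist] at this
    rcases m.invC this (hx ▸ conj_sq x m.dih.z2) with e | e | e | e
    exacts [(conj_ne x m.dih.z1 (hx.trans e)).elim, e, (m.nc (e ▸ h').symm).elim, (m.nc (m.ciz.trans (e ▸ h').symm)).elim]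
  exact ne (by simpa using (B a (mem_pair_left _ _) ha).trans (B b (mem_pair_right _ _) hb).symm)

theorem act0 (fT : f ∈ T) (ff : f * f = 1) (fi : f * i * f⁻¹ = i * z) (hg : g ∈ T) (h : g ∈ nor (closure {z, f})) :
    g * f * g⁻¹ = f ∨ g * f * g⁻¹ = f * z := by
  have fz := zcom m.zT fT
  rcases (mem_pair m.dih.z2 ff fz.symm).1 (conj_mem_of_mem_normalizer h (mem_pair_right z f)) with h | h | h | h
  · exact (m.dih.z1 (by simpa [conj_eq_one_iff.1 h] using fi)).elim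
  · obtain rfl : z = f := by simpa using (conj_fix (zcom m.zT hg)).trans h.symm
    exact (m.dih.z1 (by rwa [conj_fix m.iz.symm, left_eq_mul] at fi)).elim
  exacts [.inl h, .inr (h.trans fz.eq.symm)]

section
variable (fT : f ∈ T) (ff : f * f = 1) (fi : f * i * f⁻¹ = i * z) (fρ : Commute f ρ)
  (f2 : ∀ g ∈ closure {σ, d, i}, g * f * g⁻¹ = f ∨ g * f * g⁻¹ = f * z)
include fT ff fi fρ f2

theorem f2' (hg : g ∈ T ⊓ nor (closure {i, z})) : g * f * g⁻¹ = f ∨ g * f * g⁻¹ = f * z :=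
  (m.dec1 hg fT fi).elim (f2 g) fun h => by simpa using f2 _ h

theorem z2 (hw : w ∈ T ⊓ nor (closure {i, z})) (ww : w * w = 1)
    (h : ∀ g ∈ closure {σ, d, i}, g * w * g⁻¹ = w ∨ g * w * g⁻¹ = w * z) :
    w ∈ closure {σ, i} ∨ w ∈ closure {z, f} ∨ IsConj (f * ρ * i) w := by
  have D := m.dih
  have zc : ∀ g ∈ T, Commute g z := fun _ => zcom m.zT
  have A : ∀ w ∈ closure {σ, d, i}, (∀ g ∈ closure {σ, d, i}, g * w * g⁻¹ = w ∨ g * w * g⁻¹ = w * z) →
      w ∈ closure {σ, i} := fun w hw h => (m.memS.1 hw).resolve_right fun e => m.pow4 (by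
    have := m.refl e
    rw [show (4 : ℤ) = 2 + 2 from rfl, zpow_add, zpow_two, ← this, commutatorElement_def]
    rcases h σ m.σS with h | h <;> rw [h]
    · simp
    · rw [conj_fix (zc w (m.ST hw)), D.z2])
  refine (m.dec1 hw fT fi).imp (A w · h) fun h1 => ?_
  have h2 : ∀ g ∈ closure {σ, d, i}, g * (w * f) * g⁻¹ = w * f ∨ g * (w * f) * g⁻¹ = w * f * z := fun g hg => by
    rw [conj_dist]
    rcases h g hg with e | e <;> rcases f2 g hg with e' | e' <;> rw [e, e']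
    exacts [.inl rfl, .inr (mul_assoc _ _ _).symm, .inr (by rw [mul_assoc, ← (zc f fT).eq, mul_assoc]),
      .inl (by rw [(zc f fT).symm.mul_mul_mul_comm, D.z2, mul_one])]
  have h3 := A _ h1 h2
  have h4 := h2 d m.dS
  have ew : w = w * f * f := by rw [mul_assoc, ff, mul_one]
  rw [m.dC h3] at h4
  rw [ew] at ww ⊢
  generalize w * f = c at h3 h4 ww
  have h5 : ∀ k : ℤ, (σ ^ k)⁻¹ = σ ^ k ∨ (σ ^ k)⁻¹ = σ ^ k * z → σ ^ k = 1 ∨ σ ^ k = z ∨ σ ^ k = ρ ∨ σ ^ k = ρ * z := by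
    rintro k (h | h)
    · exact (D.pow_inv (eq_inv_iff_mul_eq_one.1 h.symm)).imp_right .inl
    · rcases D.pow_inv (k := k + 2 ^ (n - 2)) (by
        rw [zpow_add, ((Commute.refl σ).zpow_zpow _ _).mul_mul_mul_comm, D.rho, mul_assoc, ← h, mul_inv_cancel])
        with h | h <;> rw [zpow_add, ← m.eρ'] at h
      exacts [.inr (.inr (.inr (m.ρi ▸ eq_inv_of_mul_eq_one_left h))), .inr (.inr (.inl (mul_right_cancel (h.trans m.ρρ.symm))))]
  have iz := m.iz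
  have fz := zc f fT
  have ρz := zc ρ (m.ST (m.CS m.ρS))
  have fi' : i * f = f * i * z := by
    rw [← mul_left_inj f⁻¹, mul_inv_cancel_right, mul_assoc, ← fz.inv_left.eq, ← mul_assoc, fi, mul_assoc, D.z2, mul_one]
  obtain ⟨k, rfl | rfl⟩ := m.memC.1 h3
  · rcases h5 k h4 with h | h | h | h <;> rw [h] at ww ⊢
    · exact .inl (mul_mem (one_mem _) (mem_pair_right _ _))
    · exact .inl (mul_mem (mem_pair_left _ _) (mem_pair_right _ _))
    · rw [fρ.mul_mul_mul_comm, ff, mul_one, m.ρρ] at ww; exact (D.z1 ww).elim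
    · rw [(fρ.mul_right fz).mul_mul_mul_comm, ff, mul_one, ρz.symm.mul_mul_mul_comm, D.z2, mul_one, m.ρρ] at ww
      exact (D.z1 ww).elim
  have c := m.iσ.zpow_right k
  rw [mul_inv_rev, inv_of_sq m.ii, ← c.inv_right.eq, mul_assoc, mul_right_inj, mul_right_inj] at h4
  rcases h5 k h4 with h | h | h | h <;> rw [h] at ww ⊢
  · simp only [mul_assoc, mul_one, lc fi', lc fz.symm.eq, lc ff, iz.symm.eq, fi', lc iz.symm.eq, lc m.ii, D.z2, one_mul] at ww
    exact (D.z1 ww).elim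
  · simp only [mul_assoc, mul_one, lc fi', lc fz.symm.eq, fz.symm.eq, lc ff, iz.symm.eq, fi', lc iz.symm.eq, lc m.ii, D.z2,
      lc D.z2, one_mul] at ww
    exact (D.z1 ww).elim
  · exact .inr (isConj_iff.2 ⟨i, by simp only [mul_assoc, inv_of_sq m.ii, m.ii, mul_one, fρ.eq]⟩)
  · refine .inr (isConj_iff.2 ⟨1, ?_⟩)
    simp only [mul_assoc, lc m.iρ.eq, lc fρ.symm.eq, lc fi', fz.symm.eq, ρz.symm.eq, lc ρz.symm.eq, D.z2, one_mul, mul_one, inv_one]

theorem case0 (nf : ¬ IsConj i f) : False := by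
  have D := m.dih
  have zc : ∀ g ∈ T, Commute g z := fun _ => zcom m.zT
  have fz := zc f fT
  have f1 : f ≠ 1 := fun h => D.z1 (by simpa [h] using fi)
  have fz' : z ≠ f := fun h => D.z1 (by rwa [← h, conj_fix m.iz.symm, left_eq_mul] at fi)
  have cf : IsConj f (z * f) := isConj_iff.2 ⟨i, by
    rw [← mul_left_inj (i * f⁻¹), ← mul_assoc, inv_mul_cancel_right, mul_assoc z, ← mul_assoc f, fi, m.iz.eq,
      mul_inv_cancel_right, ← mul_assoc, D.z2, one_mul]⟩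
  have mem := fun x => mem_pair (x := x) D.z2 ff fz.symm
  have nor0 : ∀ g ∈ T, g * f * g⁻¹ ∈ closure {z, f} → g ∈ nor (closure {z, f}) := fun g hg h =>
    nor_pair ((conj_fix (zc g hg)).symm ▸ mem_pair_left _ _) h
  have act := fun g => m.act0 (g := g) fT ff fi
  have P1 : T ⊓ nor (closure {i, z}) ≤ T ⊓ nor (closure {z, f}) := fun g hg => ⟨hg.1, nor0 g hg.1 (by
    rcases m.f2' fT ff fi fρ f2 hg with h | h <;> rw [h]
    exacts [mem_pair_right _ _, mul_mem (mem_pair_right _ _) (mem_pair_left _ _)])⟩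
  have tr : ∀ {P : Subgroup G} {w : G}, (∀ g ∈ P, g * w * g⁻¹ = w ∨ g * w * g⁻¹ = w * z) → ∀ y ∈ T, y ∈ nor P →
      ∀ g ∈ P, g * (y * w * y⁻¹) * g⁻¹ = y * w * y⁻¹ ∨ g * (y * w * y⁻¹) * g⁻¹ = y * w * y⁻¹ * z :=
    fun {P w} h y y1 y2 g hg => by
      have e : g * (y * w * y⁻¹) * g⁻¹ = y * (y⁻¹ * g * y * w * (y⁻¹ * g * y)⁻¹) * y⁻¹ := by group
      refine (h _ (conj_mem_of_mem_normalizer' y2 hg)).imp (fun h => ?_) fun h => ?_
      · rw [e, h]
      · rw [e, h, conj_dist, conj_fix (zc y y1)]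
  have nZ : T ≤ T ⊓ nor (closure {z, f}) := by
    by_cases hc : IsConj i (f * ρ * i)
    swap
    · refine (m.eqT fun y y1 y2 => ?_).trans P1
      rcases m.z2 fT ff fi fρ f2 (conj_mem_of_mem_normalizer y2 (m.S1 m.iS)) (conj_sq y m.ii) fun g hg =>
        tr (fun g hg => (m.mem1.1 hg).2) y y1 y2 g (m.S1 hg) with h | h | h
      · exact h
      · rcases (mem _).1 h with h | h | h | h
        exacts [(conj_ne y m.i1 h).elim, (m.nc (isConj_iff.2 ⟨y, h⟩)).elim, (nf (isConj_iff.2 ⟨y, h⟩)).elim,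
          (nf ((isConj_iff.2 ⟨y, h⟩).trans cf.symm)).elim]
      · exact (hc ((isConj_conj y i).trans h.symm)).elim
    by_contra hn
    obtain ⟨y, hy, yn⟩ := SetLike.exists_of_lt (lt_inf_normalizer m.syl.isPGroup (inf_le_left.lt_of_not_ge hn))
    have A := tr (P := T ⊓ nor (closure {z, f})) (fun g hg => act g hg.1 hg.2) y hy.1 hy.2
    have fy := T.mul_mem (T.mul_mem hy.1 fT) (T.inv_mem hy.1)
    have f2y := conj_sq y ff
    have c := isConj_conj y f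
    have h0 := yn ∘ fun h => ⟨hy.1, nor0 y hy.1 h⟩
    have h1 : y * f * y⁻¹ ≠ z := fun h => fz' (by simpa using (conj_fix (zc y hy.1)).trans h.symm)
    have h2 := conj_ne y f1
    generalize y * f * y⁻¹ = w at *
    rcases m.z2 fT ff fi fρ f2 (m.mem1.2 ⟨fy, (A i (P1 (m.S1 m.iS))).imp (fun h => conj_fix (comm_of_fix h).symm)
      fun h => by
        rw [inv_of_sq m.ii] at h
        rw [inv_of_sq f2y, ← mul_right_inj i, ← mul_assoc, ← mul_assoc, h, ← mul_assoc, m.ii, one_mul, mul_assoc,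
          ← (zc w fy).eq, ← mul_assoc, f2y, one_mul]⟩) f2y (fun g hg => A g (P1 (m.S1 hg))) with h | h | h
    · rcases m.invC h f2y with h | h | h | h
      exacts [h2 h, h1 h, nf (h ▸ c).symm, nf (m.ciz.trans (h ▸ c).symm)]
    · exact h0 h
    · exact nf ((hc.trans h).trans c.symm)
  have act' := fun g hg => act g hg (nZ hg).2
  have out : ∀ g ∈ T, ∀ h ∈ T, g ∉ T ⊓ cen1 f → h ∉ T ⊓ cen1 f → g * h ∈ T ⊓ cen1 f := fun g hg h hh a b =>
    ⟨mul_mem hg hh, mem_cen1.2 (comm_of_fix (by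
      rw [conj_conj, (act' h hh).resolve_left fun e => b ⟨hh, mem_cen1.2 (comm_of_fix e)⟩, conj_dist,
        (act' g hg).resolve_left fun e => a ⟨hg, mem_cen1.2 (comm_of_fix e)⟩, conj_fix (zc g hg), mul_assoc, D.z2,
        mul_one]))⟩
  have iT := m.ST m.iS
  have iD : i ∉ T ⊓ cen1 f := fun h => D.z1 (mul_eq_left.1 (fi.symm.trans (conj_fix (mem_cen1.1 h.2).symm)))
  refine H12.not_mem_res_of_extremal (D := T ⊓ cen1 f) m.syl (commutator_le.2 fun g hg h hh => ⟨commutator_le_of_le le_rfl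
    le_rfl (commutator_mem_commutator hg hh), mem_cen1.2 (comm_of_fix ?_)⟩) m.ii iT iD m.iS m.sS.isPGroup
    (fun r hr => mem_cen1.1 (m.sS.le hr)) (fun a ha => out _ (ha (conj_mem_cj m.iS)) i iT (fun h => ?_) iD)
    (m.res.ge (mem_top i))
  · have e : ∀ g ∈ T, ∀ h ∈ T, g * (h * f * h⁻¹) * g⁻¹ = h * (g * f * g⁻¹) * h⁻¹ := fun g hg h hh => by
      rcases act' g hg with e | e <;> rcases act' h hh with e' | e' <;>
        simp only [e, e', conj_dist, conj_fix (zc g hg), conj_fix (zc h hh)]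
    have := e _ (inv_mem hg) _ (inv_mem hh)
    rw [show ⁅g, h⁆ * f * ⁅g, h⁆⁻¹ = g * h * (g⁻¹ * (h⁻¹ * f * h⁻¹⁻¹) * g⁻¹⁻¹) * (g * h)⁻¹ by
      simp only [commutatorElement_def]; group, this]
    group
  have eS : T ⊓ cen1 (a * i * a⁻¹) = cj a (closure {σ, d, i}) := (cj_cen1 a i ▸ m.sS.cj a).eq_of_le
    (m.syl.isPGroup.to_le inf_le_left) (le_inf ha (cj_cen1 a i ▸ cj_mono a m.sS.le)) inf_le_right
  have A : ∀ w ∈ closure {z, f}, a⁻¹ * w * a ∈ closure {σ, i} := fun w hw => by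
    have wT := pair_le.2 ⟨m.zT.1, fT⟩ hw
    have wc := (pair_le (H := cen1 (a * i * a⁻¹))).2 ⟨mem_cen1.2 (zc _ h.1).symm, mem_cen1.2 (mem_cen1.1 h.2).symm⟩ hw
    refine (m.memS.1 (mem_cj.1 (eS.le ⟨wT, wc⟩))).resolve_right fun e => m.pow4 ?_
    have h1 := m.refl e
    have h2 := (ea_pair D.z2 ff fz.symm).2 _ (mul_mem (conj_mem_of_mem_normalizer (nZ (ha (conj_mem_cj m.σS))).2 hw)
      (inv_mem hw))
    rw [show a * σ * a⁻¹ * w * (a * σ * a⁻¹)⁻¹ * w⁻¹ = a * ⁅σ, a⁻¹ * w * a⁆ * a⁻¹ by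
      simp only [commutatorElement_def]; group, h1, conj_pow, conj_eq_one_iff] at h2
    rw [show (4 : ℤ) = 2 + 2 from rfl, zpow_add, zpow_two, ← sq, h2]
  have B : ∀ w ∈ closure {z, f}, IsConj f w → a⁻¹ * w * a = z := fun w hw h => by
    have c : IsConj f (a⁻¹ * w * a) := h.trans (isConj_iff.2 ⟨a⁻¹, by rw [inv_inv]⟩)
    obtain ⟨x, hx⟩ := isConj_iff.1 c
    rcases m.invC (A w hw) (hx ▸ conj_sq x ff) with e | e | e | e
    exacts [(conj_ne x f1 (hx.trans e)).elim, e, (nf (e ▸ c).symm).elim, (nf (m.ciz.trans (e ▸ c).symm)).elim]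
  have := (B _ (mul_mem (mem_pair_left _ _) (mem_pair_right _ _)) cf).trans (B f (mem_pair_right _ _) (IsConj.refl f)).symm
  exact D.z1 (by simpa using this)

end

end MX

theorem jobMX2 : JMX2.{u} := by
  intro G _ _ T n σ d i z ρ e m
  rcases m.act with ⟨c, hc, h⟩ | ⟨c, hc, h⟩
  swap
  · exact m.case1 hc h
  have zc : ∀ g ∈ T, Commute g z := fun _ => zcom m.zT
  have ρT := m.ST (m.CS m.ρS)
  have D := m.dih
  have cz : c ∈ closure {z} := hc.elim (· ▸ one_mem _) (· ▸ subset_closure rfl)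
  have cσ : Commute c σ := hc.elim (· ▸ Commute.one_left σ) (· ▸ (zc σ (m.ST m.σS)).symm)
  have fin : ∀ f ∈ T, f * f = 1 → f * i * f⁻¹ = i * z → f * σ * f⁻¹ = σ * c → Commute f ρ →
      d * f * d⁻¹ ∈ closure {z, f} → ¬ IsConj i f → False := fun f fT ff fi fσ fρ fd =>
    m.case0 fT ff fi fρ fun g hg => m.act0 fT ff fi (m.ST hg) ((closure_le _).2 (by
      have A : ∀ g ∈ T, ∀ c ∈ closure {z}, f * g * f⁻¹ = g * c → g ∈ nor (closure {z, f}) := fun g hg c hc e =>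
        (inv_mem_iff).1 (nor_pair ((conj_fix (zc g hg).inv_left).symm ▸ mem_pair_left _ _) (by
          rw [show g⁻¹ * f * g⁻¹⁻¹ = g⁻¹ * (f * g * f⁻¹) * f by group, e, inv_mul_cancel_left]
          exact mul_mem (closure_mono (by simp) hc) (mem_pair_right _ _)))
      rintro _ (rfl | rfl | rfl)
      exacts [A _ (m.ST m.σS) c cz fσ, nor_pair ((conj_fix (zc _ (m.ST m.dS))).symm ▸ mem_pair_left _ _) fd,
        A _ (m.ST m.iS) z (subset_closure rfl) fi]) hg)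
  rcases m.alt with ⟨e2, nc, -⟩ | ⟨e2, h1, -⟩
  · exact fin e m.eT e2 m.ei h m.eρ ((conj_fix m.ed.symm).symm ▸ mem_pair_right _ _) nc
  refine fin (e * ρ) (mul_mem m.eT ρT) (by rw [m.eρ.symm.mul_mul_mul_comm, e2, m.ρρ, D.z2])
    (by rw [conj_conj, conj_fix m.iρ.symm, m.ei]) (by rw [conj_conj, conj_fix (m.comC m.ρS).symm, h])
    (m.eρ.mul_left (Commute.refl ρ)) ?_ fun h => m.nc (h.trans h1.symm)
  rw [conj_dist, conj_fix m.ed.symm, m.ρd, m.ρi, ← mul_assoc]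
  exact mul_mem (mem_pair_right _ _) (mem_pair_left _ _)

end H97.QU
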