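import Cfsg.Agent.H97.QUO2m

/-! Job JMXa of `blueprints/QU.md`. -/

set_option autoImplicit false
set_option linter.unusedSectionVars false

namespace H97.QU

open Subgroup Cfsg H98 H96.CG
open H52 (zc)
open scoped commutatorElement

universe u

variable {G : Type u} [Group G] [Finite G] {M T S K D : Subgroup G} {s : ℕ} {i z t g h x y a b c d n ρ : G}

theorem conj_comm (g a b : G) : g * ⁅a, b⁆ * g⁻¹ = ⁅g * a * g⁻¹, g * b * g⁻¹⁆ := by
  simp only [commutatorElement_def]; group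

/-- a self-centralizing `E₈ = D × ⟨i⟩` -/
structure EO (D : Subgroup G) (i : G) : Prop where
  v : V4 D
  ii : i * i = 1
  ic : i ∈ cen D
  iD : i ∉ D
  cE : cen (D ⊔ zpowers i) ≤ D ⊔ zpowers i

/-- `g` centralizes `D` and translates the coset `D i` by `b` -/
structure Wt (D : Subgroup G) (i g b : G) : Prop where
  c : g ∈ cen D
  m : b ∈ D
  e : g * i * g⁻¹ = b * i

theorem Wt.mul (w : Wt D i g b) (w' : Wt D i h c) (v : V4 D) : Wt D i (g * h) (b * c) :=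
  ⟨mul_mem w.c w'.c, mul_mem w.m w'.m, by
    rw [conj_conj, w'.e, conj_dist, conj_fix (com w.c w'.m).symm, w.e, ← mul_assoc, (com (v.le_cen w.m) w'.m).eq]⟩

theorem Wt.inv (w : Wt D i g b) (v : V4 D) : Wt D i g⁻¹ b :=
  ⟨inv_mem w.c, w.m, by
    rw [← mul_right_inj b, ← mul_assoc b b, v.sq w.m, one_mul]
    nth_rw 1 [← conj_fix (com (inv_mem w.c) w.m).symm]
    rw [← conj_dist, ← w.e]; group⟩

theorem Wt.cj (w : Wt D i g b) (h1 : n ∈ nor D) (h2 : Commute n i) : Wt D i (n * g * n⁻¹) (n * b * n⁻¹) :=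
  ⟨conj_mem_of_mem_normalizer (normalizer_le_normalizer_centralizer D h1) w.c, conj_mem_of_mem_normalizer h1 w.m, by
    nth_rw 1 [← conj_fix h2]
    rw [show n * g * n⁻¹ * (n * i * n⁻¹) * (n * g * n⁻¹)⁻¹ = n * (g * i * g⁻¹) * n⁻¹ by group, w.e, conj_dist,
      conj_fix h2]⟩

namespace EO
variable (o : EO D i)
include o

theorem mem : x ∈ D ⊔ zpowers i ↔ x ∈ D ∨ x * i ∈ D :=
  mem_sup_zp (centralizer_le_normalizer _ o.ic) (o.ii ▸ one_mem D)

theorem ea : IsElementaryAbelian 2 (D ⊔ zpowers i) :=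
  H12.ea_sup o.v.1 (H12.ea_zpowers ((sq i).trans o.ii)) (cen_symm (zpowers_le.2 o.ic))

theorem card : Nat.card ↥(D ⊔ zpowers i) = 8 := by
  rw [card_sup_zp (centralizer_le_normalizer _ o.ic) (o.ii ▸ one_mem D) o.iD, o.v.2]

theorem ker (w : Wt D i g 1) : g ∈ D ⊔ zpowers i :=
  o.cE ((cen_sup _ _).ge ⟨w.c, (cen1_eq i).le (mem_cen1.2 (comm_of_fix (w.e.trans (one_mul i))))⟩)

theorem ker' (w : Wt D i g b) (h : g ∈ D ⊔ zpowers i) : b = 1 :=
  mul_eq_right.1 (w.e.symm.trans (conj_fix (ea_com o.ea h (mem_sup_right (mem_zpowers i)))))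

theorem nE (w : Wt D i g b) : g ∈ nor (D ⊔ zpowers i) := mem_normalizer_of_cj_le (by
  rw [cj_sup, cj_zpowers, w.e, cj_eq_self (centralizer_le_normalizer _ w.c)]
  exact sup_le le_sup_left (zpowers_le.2 (mul_mem_sup w.m (mem_zpowers i))))

/-- the action on `E` -/
theorem act (w : Wt D i g b) (hc : c * i ∈ D) : g * c * g⁻¹ = b * c := by
  have e : c = c * i * i := by rw [mul_assoc, o.ii, mul_one]
  rw [e, conj_dist, conj_fix (com w.c hc).symm, w.e, ← mul_assoc, (com (o.v.le_cen w.m) hc).eq, mul_assoc]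

theorem sq (w : Wt D i g b) : g * g ∈ D := by
  have := w.mul w o.v
  rw [o.v.sq w.m] at this
  refine (o.mem.1 (o.ker this)).elim id fun h => ?_
  have e := o.act w h
  rw [mul_assoc, mul_inv_cancel_right, eq_comm, mul_eq_right] at e
  rw [ea_sq o.ea (o.ker (e ▸ w))]
  exact one_mem D

theorem comm (w : Wt D i g b) (w' : Wt D i h c) : ⁅g, h⁆ ∈ D := by
  rw [show ⁅g, h⁆ = g * h * (g * h) * (h⁻¹ * (g * g)⁻¹ * h⁻¹⁻¹) * (h * h)⁻¹ by rw [commutatorElement_def]; group,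
    conj_fix (com (inv_mem w'.c) (inv_mem (o.sq w))).symm]
  exact mul_mem (mul_mem (o.sq (w.mul w' o.v)) (inv_mem (o.sq w))) (inv_mem (o.sq w'))

theorem fpf (hx : x ∈ nor D) (h3 : orderOf x = 3) (hc : x ∉ cen D) (ha : a ∈ D) (e : x * a * x⁻¹ = a) : a = 1 :=
  by_contra fun h => (o.v.rot hx h3 hc ha h).1 e

/-- the elements `⁅g, x⁆` commute with their conjugates under `x` -/
theorem exists_y (hx : x ∈ nor D) (h3 : orderOf x = 3) (hc : x ∉ cen D) (xi : Commute x i) (w : Wt D i g b) (b1 : b ≠ 1) :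
    ∃ y a, Wt D i y a ∧ a ≠ 1 ∧ y * (x * y * x⁻¹) * (x * (x * y * x⁻¹) * x⁻¹) = 1 ∧ Commute y (x * y * x⁻¹) := by
  have x3 : x * x * x = 1 := by rw [← pow_three', ← h3, pow_orderOf_eq_one]
  have w1 := w.mul ((w.cj hx xi).inv o.v) o.v
  have e : g * (x * g * x⁻¹)⁻¹ * (x * (g * (x * g * x⁻¹)⁻¹) * x⁻¹) * (x * (x * (g * (x * g * x⁻¹)⁻¹) * x⁻¹) * x⁻¹) = 1 := by
    rw [show g * (x * g * x⁻¹)⁻¹ * (x * (g * (x * g * x⁻¹)⁻¹) * x⁻¹) * (x * (x * (g * (x * g * x⁻¹)⁻¹) * x⁻¹) * x⁻¹) =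
      g * (x * x * x * g * (x * x * x)⁻¹)⁻¹ by simp only [mul_inv_rev, inv_inv, mul_assoc, inv_mul_cancel_left], x3]; simp
  refine ⟨_, _, w1, fun h => b1 (o.fpf hx h3 hc w.m (eq_of_sq h (conj_sq x (o.v.sq w.m))).symm), e, ?_⟩
  generalize g * (x * g * x⁻¹)⁻¹ = y at w1 e
  have w2 := w1.cj hx xi
  have m := o.comm w1 w2
  refine commutatorElement_eq_one_iff_commute.1 (o.fpf hx h3 hc m ?_)
  rw [conj_comm, eq_inv_of_mul_eq_one_right e]
  generalize x * y * x⁻¹ = y' at w2 m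
  rw [show ⁅y', (y * y')⁻¹⁆ = (y * y')⁻¹ * ⁅y, y'⁆ * (y * y')⁻¹⁻¹ by simp only [commutatorElement_def]; group,
    conj_fix (com (inv_mem (mul_mem w1.c w2.c)) m).symm]

theorem comm_tau {τ y' : G} (hτ : τ ∈ nor D) (τi : Commute τ i) (w : Wt D i y a) (w' : Wt D i y' b) (e : Commute y y')
    (h1 : τ * a * τ⁻¹ = b) (h2 : τ * b * τ⁻¹ = a) (a1 : a ≠ 1) (ab : a ≠ b) : y'⁻¹ * (τ * y * τ⁻¹) ∈ D := by
  have c1 := (w'.inv o.v).mul (w.cj hτ τi) o.v
  have c2 := (w.inv o.v).mul (w'.cj hτ τi) o.v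
  rw [h1, o.v.sq w'.m] at c1
  rw [h2, o.v.sq w.m] at c2
  have m1 := o.ker c1
  have m2 := o.ker c2
  refine (o.mem.1 m1).resolve_right fun h => ?_
  have k : Commute (τ * y * τ⁻¹) (τ * y' * τ⁻¹) := e.map (MulAut.conj τ)
  rw [← mul_inv_cancel_left y' (τ * y * τ⁻¹), ← mul_inv_cancel_left y (τ * y' * τ⁻¹)] at k
  generalize y'⁻¹ * (τ * y * τ⁻¹) = c at *
  generalize y⁻¹ * (τ * y' * τ⁻¹) = c' at *
  have k' : y⁻¹ * c * y⁻¹⁻¹ * c' = y'⁻¹ * c' * y'⁻¹⁻¹ * c := by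
    rw [← mul_right_inj (y * y')]
    nth_rw 1 [e.eq]
    simpa [mul_assoc] using k.eq
  rw [o.act (w.inv o.v) h, mul_assoc, (ea_com o.ea m1 m2).eq, ← mul_assoc, mul_left_inj] at k'
  rcases o.mem.1 m2 with h' | h'
  · rw [conj_fix (com (inv_mem w'.c) h').symm, mul_eq_right] at k'
    exact a1 k'
  · rw [o.act (w'.inv o.v) h', mul_left_inj] at k'
    exact ab k'

end EO

namespace O2
variable (f : O2 M T S K s i z t)
include f

theorem cenD (h1 : D ≤ S ⊓ K) (h2 : V4 D) : S ⊓ cen D ≤ D ⊔ zpowers i := fun g hg => by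
  obtain ⟨u, hu, c, hc, rfl⟩ := f.f4.mem_sup.1 (f.n4.nn D h1 h2 ⟨hg.1, centralizer_le_normalizer _ hg.2⟩)
  exact mul_mem_sup (f.f4.cD D (h1.trans inf_le_right) h2 ⟨hu.2, ((cen D).mul_mem_cancel_right
    (centralizer_anti (h1.trans inf_le_right) hc)).1 hg.2⟩) (f.q0.le ⟨(S.mul_mem_cancel_left hu.1).1 hg.1, hc⟩)

theorem good (k : Kit M s) (h1 : D ≤ S ⊓ K) (h2 : V4 D) : Good M (D ⊔ zpowers i) := by
  have := k.gam_good _ S D f.tr.cf.gam f.tr.cf.beta.good f.tr.cf.beta.card.ge f.tr.cf.le (h1.trans inf_le_left)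
    h2.le_cen ((IsComponentOf.core_le_cen f.tr.cf.comp).trans (centralizer_anti (h1.trans inf_le_right)))
  rwa [le_antisymm (f.cenD h1 h2) (sup_le (le_inf (h1.trans inf_le_left) h2.le_cen)
    (zpowers_le.2 ⟨f.tr.iS.1, centralizer_anti (h1.trans inf_le_right) f.tr.iK⟩))] at this

theorem eo (k : Kit M s) (h1 : D ≤ S ⊓ K) (h2 : V4 D) : EO D i := by
  refine ⟨h2, f.tr.i2, centralizer_anti (h1.trans inf_le_right) f.tr.iK, fun h => f.iK (h1 h).2, ?_⟩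
  have l : cen (D ⊔ zpowers i) ≤ cen1 i := (centralizer_anti le_sup_right).trans (cen1_eq i).ge
  obtain ⟨g, hg, e⟩ := f.syl.exists_cj_le (k.good_cen _ (f.good k h1 h2)).1 l
  have e' : D ⊔ zpowers i ≤ cen (D ⊔ zpowers i) := H12.ea_le_centralizer (H12.ea_sup h2.1 (H12.ea_zpowers
    ((sq i).trans f.tr.i2)) (cen_symm (zpowers_le.2 (centralizer_anti (h1.trans inf_le_right) f.tr.iK))))
  have := (le_inf e ((cj_mono g (centralizer_anti le_sup_left)).trans (cj_cen g D).le)).trans (f.cenD (le_inf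
    ((cj_mono g (le_sup_left.trans e')).trans e) (cj_le_of_le (h1.trans inf_le_right) (f.nK hg))) (h2.cj g))
  exact cj_le_cj_iff.1 (this.trans (by rw [cj_sup, cj_zpowers, conj_fix (mem_cen1.1 hg)]))

theorem wt (k : Kit M s) (h1 : D ≤ S ⊓ K) (h2 : V4 D) (hg : g ∈ nor (D ⊔ zpowers i) ⊓ cen D) : ∃ b, Wt D i g b := by
  rcases (f.eo k h1 h2).mem.1 (conj_mem_of_mem_normalizer hg.1 (mem_sup_right (mem_zpowers i))) with h | h
  · exact (f.nc ((isConj_conj g i).trans (f.zconj (h1 h).2 (h2.sq h) (conj_ne g f.tr.i1)).symm)).elim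
  · exact ⟨_, hg.2, h, by rw [mul_assoc _ i i, f.tr.i2, mul_one]⟩

theorem exists_t (h1 : D ≤ S ⊓ K) (h2 : V4 D) : ∃ t ∈ T, t ∈ nor D ∧ t * i * t⁻¹ = z * i := by
  obtain ⟨y, y1, y2⟩ := f.cj4 (cj t D) (map_le_iff_le_comap.2 fun d hd => f.tU d (h1 hd) (h2.sq hd)) D h1 (h2.cj t) h2
  exact ⟨y * t, (f.shift y1).tT, cj_eq_self_iff.1 (by rw [← cj_cj, y2]), (f.shift y1).ti.trans f.iz.eq⟩

theorem out4 (h1 : D ≤ S ⊓ K) (h2 : V4 D) : ¬ K ⊓ nor D ≤ M := fun h => by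
  obtain ⟨F, f1, f2, f3⟩ := f.f4.exists_out
  obtain ⟨y, y1, rfl⟩ := f.cj4 D h1 F f1 h2 f2
  exact f3 (by rw [← cj_nor, ← cj_eq_self (f.f4.nK y1), ← cj_inf]; exact cj_le_of_le_of_mem h (f.f4.PM y1))

end O2

theorem jobMXa : JMXa.{u} := by
  intro G _ _ M T S K s i z t d ρ k f dU ρU dd ρρ dρ
  have z2 := f.zt.z2
  have z1 := f.zt.z1
  have dz := zcom f.f4.zP dU.1
  have ρz := zcom f.f4.zP ρU.1
  have nc : ¬ Commute d ρ := fun e => z1 (by rw [conj_fix e] at dρ; rw [← ρρ]; nth_rw 1 [dρ]; simp)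
  have d1 : d ≠ 1 := fun e => nc (e ▸ Commute.one_left ρ)
  have dne : z ≠ d := fun e => nc (e ▸ ρz.symm)
  have v := v4_pair z2 dd dz.symm z1 d1 dne
  have l : closure {z, d} ≤ S ⊓ K := pair_le.2 ⟨f.f4.zU, dU⟩
  obtain ⟨ττ, τd⟩ := d8_swap dd ρρ dρ
  have τU := mul_mem dU ρU
  have zD := mem_pair_left z d
  have dD := mem_pair_right z d
  have τz := conj_fix (dz.mul_left ρz)
  have τD : d * ρ ∈ nor (closure {z, d}) := nor_pair (τz.symm ▸ zD) (τd.symm ▸ mul_mem dD zD)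
  have τc : d * ρ ∉ cen (closure {z, d}) := fun e => z1 (mul_eq_left.1 (τd.symm.trans (conj_fix (com e dD).symm)))
  have τi : Commute (d * ρ) i := com f.tr.iK τU.2
  have o := f.eo k l v
  have wt := fun g => f.wt (g := g) k l v
  have good := f.good k l v
  have out := f.out4 l v
  obtain ⟨t, tT, tD, ti⟩ := f.exists_t l v
  obtain ⟨x, hx, x3⟩ := f.f4.xD _ (l.trans inf_le_right) v
  have xc := f.f4.not_cen (l.trans inf_le_right) v hx.1 x3
  have eρ : ρ = d * (d * ρ) := by rw [← mul_assoc, dd, one_mul]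
  generalize closure {z, d} = D at *
  have xi := com f.tr.iK hx.1
  obtain ⟨g, wg⟩ : ∃ g, Wt D i g z := by
    rcases v.fix_or zD z1 tD τD (conj_fix (zcom f.zt.zT tT)) τz τc with h | h
    exacts [⟨_, h, zD, ti⟩, ⟨_, h, zD, by rw [conj_conj, conj_fix τi, ti]⟩]
  obtain ⟨y₀, a₀, w₀, a1, e₀, c₀⟩ := o.exists_y hx.2 x3 xc xi wg z1
  -- normalise: `y` translates by `d`
  obtain ⟨y, w, e₁, c₁⟩ : ∃ y, Wt D i y d ∧ y * (x * y * x⁻¹) * (x * (x * y * x⁻¹) * x⁻¹) = 1 ∧ Commute y (x * y * x⁻¹) := by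
    obtain ⟨n, hn, e⟩ := v.exists_back hx.2 x3 xc w₀.m a1 dD d1
    have nx : Commute n x := (mem_cen1.1 (zpowers_le.2 (mem_cen1.2 (Commute.refl x)) hn))
    have tr : ∀ y, x * (n * y * n⁻¹) * x⁻¹ = n * (x * y * x⁻¹) * n⁻¹ := fun y => by rw [← conj_conj, ← nx.eq, conj_conj]
    refine ⟨n * y₀ * n⁻¹, e ▸ w₀.cj (zpowers_le.2 hx.2 hn) (mem_cen1.1 (zpowers_le.2 (mem_cen1.2 xi) hn)), ?_, ?_⟩
    · rw [tr, tr, ← conj_dist, ← conj_dist, e₀]; simp
    · rw [tr]; exact c₀.map (MulAut.conj n)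
  have w1 := w.cj hx.2 xi
  have w2 := w1.cj hx.2 xi
  obtain ⟨r1, r2⟩ := v.rot hx.2 x3 xc dD d1
  have fp : ∀ {a}, a ∈ D → x * a * x⁻¹ = 1 → a = 1 := fun _ e => by simpa using e
  -- `y'` translates by `d z`, `y₃` by `z`
  obtain ⟨y', y₃, w', e₂, c₂, s₁, s₂⟩ : ∃ y' y₃, Wt D i y' (d * z) ∧ y * y' * y₃ = 1 ∧ Commute y y' ∧
      (y * y = 1 → y' * y' = 1) ∧ (y₃ * y₃ = 1 → y * y = 1) := by
    have c₃ : Commute y (x * (x * y * x⁻¹) * x⁻¹) := by
      rw [eq_inv_of_mul_eq_one_right e₁]; exact ((Commute.refl y).mul_right c₁).inv_right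
    rcases v.cases zD dD z1 d1 dne w1.m with e | e | e | e
    · exact (d1 (fp dD e)).elim
    · refine ⟨_, x * y * x⁻¹, by rwa [r2, e, ← dz.eq] at w2, ?_, c₃, fun h => conj_sq x (conj_sq x h), fun h => ?_⟩
      · rw [← e₁, mul_assoc, mul_assoc y]; congr 1; exact (c₁.map (MulAut.conj x)).eq.symm
      · simpa [conj_mul] using h
    · exact (r1 e).elim
    · exact ⟨_, _, by rwa [e, ← dz.eq] at w1, e₁, c₁, conj_sq x, fun h => by simpa [conj_mul] using h⟩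
  have τdz : d * ρ * (d * z) * (d * ρ)⁻¹ = d := by rw [conj_dist, τd, τz, mul_assoc, z2, mul_one]
  have cD := o.comm_tau τD τi w w' c₂ τd τdz d1 fun e => z1 (mul_eq_left.1 e.symm)
  have wτ := w.cj τD τi
  rw [τd] at wτ
  have yτ : Commute y (d * ρ * y * (d * ρ)⁻¹) := by
    rw [← mul_inv_cancel_left y' (d * ρ * y * (d * ρ)⁻¹)]; exact c₂.mul_right (com w.c cD).symm
  have we := w.mul wτ v
  rw [← mul_assoc d d, dd, one_mul] at we
  have eτ : Commute (d * ρ) (y * (d * ρ * y * (d * ρ)⁻¹)) := comm_of_fix (by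
    rw [conj_dist, ← conj_conj, ττ, yτ.eq]; simp)
  have ee : y * (d * ρ * y * (d * ρ)⁻¹) * (y * (d * ρ * y * (d * ρ)⁻¹)) = y * y * (d * ρ * (y * y) * (d * ρ)⁻¹) := by
    rw [yτ.symm.mul_mul_mul_comm, conj_dist]
  have e3 : y * (d * ρ * y * (d * ρ)⁻¹) * (y * (d * ρ * y * (d * ρ)⁻¹)) = (y₃ * y₃)⁻¹ := by
    rw [← mul_inv_cancel_left y' (d * ρ * y * (d * ρ)⁻¹), ← mul_assoc y y',
      (com (mul_mem w.c w'.c) cD).mul_mul_mul_comm, v.sq cD, mul_one, eq_inv_of_mul_eq_one_left e₂, mul_inv_rev]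
  have yτ' : y * (d * ρ) * y⁻¹ = y * (d * ρ * y * (d * ρ)⁻¹) * (d * ρ * (y * y)⁻¹ * (d * ρ)⁻¹ * (d * ρ)) := by group
  have he : y * (d * ρ * y * (d * ρ)⁻¹) ∈ D ⊔ closure {y, y'} := by
    rw [← mul_inv_cancel_left y' (d * ρ * y * (d * ρ)⁻¹)]
    exact mul_mem (mem_sup_right (mem_pair_left _ _)) (mul_mem (mem_sup_right (mem_pair_right _ _)) (mem_sup_left cD))
  generalize y * (d * ρ * y * (d * ρ)⁻¹) = e at *
  have ed := (com we.c dD).symm
  have ρi : ρ⁻¹ = z * ρ := by rw [← ρρ, eq_comm, ← mul_eq_one_iff_eq_inv, mul_assoc, ρρ, z2]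
  have cj : ∀ c, Commute d c → IsConj (e * ρ⁻¹ * c) (e * ρ * c) := fun c h => isConj_iff.2 ⟨d, by
    rw [conj_dist, conj_dist, conj_fix ed.symm, conj_fix h, ← conj_inv, dρ, inv_inv]⟩
  have two : IsPGroup 2 ↥(nor (D ⊔ zpowers i) ⊓ cen D) := isPGroup_of_forall_pow_mem v.two fun g hg =>
    ⟨1, by rw [pow_one, sq]; exact o.sq (wt g hg).choose_spec⟩
  refine ⟨?_, e, we.e.trans f.iz.eq.symm, ed, eρ ▸ ed.mul_right eτ.symm, ?_⟩
  · by_contra! hs
    have ET : D ⊔ zpowers i ≤ S := sup_le (l.trans inf_le_left) (zpowers_le.2 f.tr.iS.1)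
    have nE : ∀ g ∈ nor D, g * i * g⁻¹ ∈ D ⊔ zpowers i → g ∈ nor (D ⊔ zpowers i) := fun g h1 h2 =>
      mem_normalizer_of_cj_le (by rw [cj_sup, cj_zpowers, cj_eq_self h1]; exact sup_le le_sup_left (zpowers_le.2 h2))
    have iE : i ∈ D ⊔ zpowers i := mem_sup_right (mem_zpowers i)
    have τE := nE _ τD ((conj_fix τi).symm ▸ iE)
    have a1 : _ ≤ Nat.card ↥(S ⊓ nor (D ⊔ zpowers i)) := two_mul_card_le ((le_inf ET le_normalizer).lt_of_ne fun h =>
      τc (centralizer_anti le_sup_left (H12.ea_le_centralizer o.ea (h.ge ⟨τU.1, τE⟩))))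
    have a2 := two_mul_card_le ((inf_le_inf_right (nor (D ⊔ zpowers i)) f.zt.ST).lt_of_ne fun h => z1 (mul_eq_right.1
      (ti.symm.trans (conj_fix (zcom f.tr.iS (h.ge ⟨tT, nE t tD (ti ▸ mul_mem_sup zD (mem_zpowers i))⟩).1)))))
    have a0 := o.card
    obtain ⟨ww, a3⟩ := k.wit_of (T ⊓ nor (D ⊔ zpowers i)) _ (k.good_up _ _ good (f.zt.syl.isPGroup.to_le inf_le_left)
      (le_inf (ET.trans f.zt.ST) le_normalizer) (inf_le_left.trans f.zt.TM)) (by omega) inf_le_right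
      (k.tcD z _ f.zt.tc good.two (mem_sup_left zD)) fun h => out fun g hg =>
        h (nE g hg.2 ((conj_fix (com f.tr.iK hg.1)).symm ▸ iE))
    have τO : d * ρ ∈ nor (nor (D ⊔ zpowers i) ⊓ cen D) := le_normalizer_inf (le_normalizer_of_le (zpowers_le.2 τE))
      (le_normalizer_centralizer (zpowers_le.2 τD)) (mem_zpowers _)
    have a4 := ww.syl.card_le (two.to_sup_of_normal_left' (two_zpowers ττ) (zpowers_le.2 τO))
      (sup_le inf_le_left (zpowers_le.2 τE))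
    rw [card_sup_zp τO (ττ ▸ one_mem _) fun h => τc h.2] at a4
    have eE := mem_sup_left (T := zpowers i) (o.sq we)
    have a5 := card_sup_zp (o.nE we) eE fun h => z1 (o.ker' we h)
    have a6 : _ ≤ Nat.card ↥(nor (D ⊔ zpowers i) ⊓ cen D) := two_mul_card_le ((sup_le (le_inf le_normalizer ((H12.ea_le_centralizer o.ea).trans (centralizer_anti
      le_sup_left))) (zpowers_le.2 ⟨o.nE we, we.c⟩)).lt_of_ne fun h =>
        ((mem_sup_zp (o.nE we) eE).1 (h.ge ⟨o.nE w, w.c⟩)).elim (fun h => d1 (o.ker' w h)) fun h =>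
          dne (eq_of_sq (o.ker' (w.mul we v) h) z2).symm)
    omega
  have A : y * y ≠ 1 → e * e ≠ 1 := fun h h' => h (s₂ (inv_eq_one.1 (e3.symm.trans h')))
  have B : y * y = d ∨ y * y = z * d → e * e = z ∧ IsConj z (e * ρ) ∧ ∃ a b : G, IsPGroup 2 (closure {a, b} : Subgroup G) ∧
      a * a ≠ b * b ∧ IsConj z (a * a) ∧ IsConj z (b * b) := fun h => by
    have e2 : e * e = z := by
      rcases h with h | h <;> rw [ee, h]
      · rw [τd, ← mul_assoc, dd, one_mul]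
      · rw [← dz.eq, τdz, mul_assoc, ← dz.eq, ← mul_assoc, dd, one_mul]
    have y1 : y * y ≠ 1 := fun h' => z1 (by rw [← e2, ee, h']; simp)
    refine ⟨e2, ?_, y, e, two.to_le (pair_le.2 ⟨⟨o.nE w, w.c⟩, o.nE we, we.c⟩), fun h' => ?_,
      f.zconj (l (o.sq w)).2 (v.sq (o.sq w)) y1, e2.symm ▸ IsConj.refl z⟩
    · have := (f.zconj τU.2 ττ fun e => τc (e ▸ one_mem _)).trans (isConj_conj y _)
      rw [yτ', inv_of_sq (v.sq (o.sq w))] at this
      rcases h with h | h <;> rw [h] at this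
      · rw [τd, dz.eq, mul_assoc z, ← eρ, ← ρi] at this
        simpa using this.trans (by simpa using cj 1 (Commute.one_right d))
      · rwa [← dz.eq, τdz, ← eρ] at this
    · rw [e2] at h'
      rcases h with h | h <;> rw [h] at h'
      exacts [dne h'.symm, d1 (mul_eq_left.1 h')]
  rcases v.cases zD dD z1 d1 dne (o.sq w) with h | h | h | h
  · have e2 : e * e = 1 := by rw [ee, h]; simp
    refine .inl ⟨e2, fun hc => ?_, ?_⟩
    · have v' := v4_pair h (s₁ h) c₂ (fun e => d1 (o.ker' w (e ▸ one_mem _)))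
        (fun e => dne (eq_of_sq (o.ker' w' (e ▸ one_mem _)) z2).symm)
        fun e => z1 (mul_eq_left.1 (mul_right_cancel ((e ▸ w').e.symm.trans w.e)))
      have c : D ≤ cen (closure {y, y'}) := cen_symm (pair_le.2 ⟨w.c, w'.c⟩)
      have ea := H12.ea_sup v.1 v'.1 c
      have cd := H12.card_sup_of_disjoint (le_normalizer_of_le_centralizer c) (eq_bot_iff.2 fun g hg => by
        rcases (mem_pair h (s₁ h) c₂).1 hg.2 with e | e | e | e <;> rw [e] at hg ⊢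
        · exact one_mem _
        · exact (d1 (o.ker' w (mem_sup_left hg.1))).elim
        · exact (dne (eq_of_sq (o.ker' w' (mem_sup_left hg.1)) z2).symm).elim
        · exact (z1 (by simpa [← mul_assoc, dd] using o.ker' (w.mul w' v) (mem_sup_left hg.1))).elim)
      obtain ⟨g, rfl⟩ := isConj_iff.1 hc
      have lc : H98.cj g⁻¹ (D ⊔ closure {y, y'}) ≤ cen1 i := by
        rw [cj_le_iff, inv_inv, cj_cen1]; exact fun a ha => mem_cen1.2 (ea_com ea ha he)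
      obtain ⟨n, -, hn⟩ := f.syl.exists_cj_le (isPGroup_cj _ (H12.ea_isPGroup ea)) lc
      rw [cj_cj] at hn
      have a1 := card_le_rel (f.n4.rk2 _ hn (H12.ea_map ea _))
      have a2 := card_le_of_le ((le_inf (inf_le_right.trans hn) inf_le_left).trans f.q0.le)
      rw [Nat.card_zpowers, orderOf_eq_prime ((sq i).trans f.tr.i2) f.tr.i1] at a2
      rw [card_cj, cd, v.2, v'.2] at a1
      omega
    · have := (f.ui τU.2 ττ).trans (isConj_conj y _)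
      rw [conj_dist, yτ', h, w.e, inv_one, mul_one, mul_inv_cancel, one_mul, ← mul_assoc, mul_assoc e,
        show d * ρ * d = ρ⁻¹ by rw [← dρ, inv_of_sq dd]] at this
      exact this.trans (cj i (com f.tr.iK dU.2))
  · refine (A (h ▸ z1) ?_).elim
    rw [ee, h, τz, z2]
  · exact .inr (B (.inl h))
  · exact .inr (B (.inr h))

end H97.QU
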