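import Cfsg.Agent.H97.QUMXa

/-! Job JMXb of `blueprints/QU.md`. -/

set_option autoImplicit false
set_option linter.unusedSectionVars false

namespace H97.QU

open Subgroup Cfsg H98 H96.CG
open H52 (zc)
open scoped commutatorElement

universe u

variable {G : Type u} [Group G] [Finite G] {K U : Subgroup G} {n : ℕ} {z r d j a b c : G}

theorem triple_eq (a b c : G) : closure {a, b, c} = closure {a, c} ⊔ zpowers b := by
  rw [zpowers_eq_closure, ← Subgroup.closure_union]; congr 1; ext; simp; tauto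

theorem Dih.inv0 (h : Dih K U z n r d) (l : ℤ) : d * r ^ l * d⁻¹ = (r ^ l)⁻¹ := by simpa using h.inv 0 l

theorem Dih.odd_dvd (h : Dih K U z n r d) {k l : ℤ} (hk : ¬ 2 ∣ k) (e : r ^ (k * l) = 1) : r ^ l = 1 :=
  h.pow_eq_one.2 ((Int.prime_two.coprime_iff_not_dvd.2 hk).pow_left.dvd_of_dvd_mul_left (h.pow_eq_one.1 e))

theorem Dih.odd_z (h : Dih K U z n r d) {k : ℤ} (hk : ¬ 2 ∣ k) : r ^ (k * 2 ^ (n - 1)) = z :=
  (h.pow_z (dvd_mul_left _ _)).resolve_left fun e => h.z1 (h.ez'.trans (h.odd_dvd hk e))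

/-- an element whose square centralizes `U` and which interchanges the two classes of reflections inverts `r` -/
theorem Dih.inverts (h : Dih K U z n r d) (hj : j ∈ nor U) (jj : Commute (j * j) d) {k : ℤ} (hk : ¬ 2 ∣ k)
    (e : j * d * j⁻¹ = d * r ^ k) (l : ℤ) : j * r ^ l * j⁻¹ = r ^ (-l) := by
  obtain ⟨a, ha⟩ := h.conj_r hj
  have := conj_fix jj
  rw [conj_conj, e, conj_dist, e, ← conj_zpow, ha, ← zpow_mul, mul_assoc, ← zpow_add, mul_eq_left,
    show k + a * k = k * (a + 1) by ring] at this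
  rw [← conj_zpow, ha, eq_inv_of_mul_eq_one_left ((zpow_add_one r a).symm.trans (h.odd_dvd hk this)), inv_zpow']

theorem jobMXb : JMXb.{u} := by
  intro J G _ _ M T S K s i z t k f
  obtain ⟨n, r, d, e⟩ := f.dih k f.q0 f.n4
  obtain ⟨y, y1, y2⟩ := SetLike.not_le_iff_exists.1 (f.out k f.q0)
  have iU : i ∈ nor (S ⊓ K) := f.f4.nU f.tr.iS.1
  have dec : ∀ g ∈ S, g ∈ S ⊓ K ⊔ cen K → ∃ u ∈ S ⊓ K, g = u ∨ g = u * i := fun g hg h => by
    obtain ⟨u, hu, c, hc, rfl⟩ := f.f4.mem_sup.1 h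
    rcases (mem_zpowers_inv f.tr.i2).1 (f.q0.le ⟨(S.mul_mem_cancel_left hu.1).1 hg, hc⟩) with rfl | rfl
    exacts [⟨u, hu, .inl (mul_one u)⟩, ⟨u, hu, .inr rfl⟩]
  have dec' : ∀ g ∈ S, g ∈ S ⊓ K ⊔ cen K → g ∈ S ⊓ K ⊔ zpowers i := fun g hg h => by
    obtain ⟨u, hu, rfl | rfl⟩ := dec g hg h
    exacts [mem_sup_left hu, mul_mem_sup hu (mem_zpowers i)]
  have le : S ⊓ K ⊔ zpowers i ≤ S ⊓ K ⊔ cen K := sup_le_sup_left (zpowers_le.2 f.tr.iK) _
  have c1 := card_two (sup_le inf_le_left (zpowers_le.2 f.tr.iS.1)) y1 (fun h => y2 (le h)) fun b hb =>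
    or_iff_not_imp_left.2 fun h => dec' _ (mul_mem hb y1) (f.n4.idx b hb y y1 (fun h' => h (dec' b hb h')) y2)
  rw [card_sup_zp iU (f.tr.i2 ▸ one_mem _) (fun h => f.iK h.2), f.tr.cf.beta.card, e.card] at c1
  have n3 : 3 ≤ n := by
    have := (J G M T S K s i z t d _ k f e.dU (zpow_mem e.rU _) e.dd e.rho (e.inv0 _)).1
    by_contra h
    obtain rfl : n = 2 := le_antisymm (by omega) e.two
    omega
  obtain ⟨j, j1, j2, j3⟩ := f.n4.oi y y1 y2 (e.card ▸ Nat.pow_le_pow_right two_pos (Nat.succ_le_succ n3))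
  have jU := f.f4.nU j1
  obtain ⟨m, hm⟩ := e.conj_d' jU 0
  rw [zpow_zero, mul_one] at hm
  have jz := conj_fix (zcom f.f4.zP j1)
  have mo : ¬ 2 ∣ m := fun ⟨l, hl⟩ => by
    have v := e.v4 0
    have l0 := e.v4_le 0
    have r1 := zpow_mem e.rU l
    refine j2 ((mul_mem_cancel_left (mem_sup_left r1)).1 (f.n4.nn _ l0 v ⟨mul_mem r1.1 j1, cj_eq_self_iff.1 ?_⟩))
    rw [← cj_cj, cj_pair, zpow_zero, mul_one, jz, hm, e.cj_v4, hl, sub_self, zpow_zero, mul_one]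
  have inv := e.inverts jU (com j3 e.dU.2).symm mo hm
  have jj : j * j = 1 := ((mem_zpowers_inv f.tr.i2).1 (f.q0.le ⟨mul_mem j1 j1, j3⟩)).resolve_right fun h => by
    have h1 := conj_mem_of_mem_normalizer f.tS j1
    have h2 : t * j * t⁻¹ * (t * j * t⁻¹) = i * z := by rw [conj_mul, h, f.ti]
    generalize t * j * t⁻¹ = w at h1 h2
    have nz : ∀ u ∈ S ⊓ K, u ≠ i * z := fun u hu e => f.iK ((K.mul_mem_cancel_right f.f4.zK).1 (e ▸ hu.2))
    obtain ⟨u, hu, h3⟩ := dec _ (mul_mem j1 h1) (f.n4.idx j j1 w h1 j2 fun h => by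
      obtain ⟨u, hu, rfl | rfl⟩ := dec w h1 h
      · exact nz _ (mul_mem hu hu) h2
      · exact nz _ (mul_mem hu hu) (by rwa [(com f.tr.iK hu.2).symm.mul_mul_mul_comm, f.tr.i2, mul_one] at h2))
    have h4 : j * u * j⁻¹ * u = z := by
      have a : j * w * (j * w) = u * u := by
        rcases h3 with h3 | h3 <;> rw [h3]
        rw [(com f.tr.iK hu.2).symm.mul_mul_mul_comm, f.tr.i2, mul_one]
      have b : j * u * j⁻¹ * u = j * (j * w) * j⁻¹ * (j * w) := by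
        rcases h3 with h3 | h3 <;> rw [h3]
        rw [conj_dist, conj_fix (zcom f.tr.iS j1), mul_assoc _ i, (com f.tr.iK hu.2).symm.left_comm, f.tr.i2, mul_one]
      rw [b, show j * (j * w) * j⁻¹ * (j * w) = j * j * (w * w) by group, h, h2, ← mul_assoc, f.tr.i2, one_mul]
    obtain ⟨l, rfl | rfl⟩ := e.mem.1 hu
    · rw [inv, ← zpow_add, neg_add_cancel, zpow_zero] at h4
      exact e.z1 h4.symm
    · rw [conj_dist, hm, inv, mul_assoc d, ← zpow_add, mul_assoc d, ← mul_assoc _ d, e.pow_d, ← mul_assoc, ← mul_assoc, e.dd,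
        one_mul, ← zpow_add, e.ez', e.pow_eq, e.two_pow, e.two_pow'] at h4
      have := (dvd_mul_right _ _).trans h4
      omega
  have σσ : j * d * (j * d) = r ^ (-m) := by
    rw [← mul_assoc, show j * d * j = d * r ^ m by rw [← hm, inv_of_sq jj],
      mul_assoc, e.pow_d, ← mul_assoc, e.dd, one_mul]
  have pw : ∀ a : ℕ, (j * d) ^ 2 ^ (a + 1) = r ^ (-m * 2 ^ a) := fun a => by
    rw [pow_succ', pow_mul, sq, σσ, zpow_mul, ← zpow_natCast]; norm_cast
  have mo' : ¬ 2 ∣ -m := by rwa [dvd_neg]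
  have ez : z = (j * d) ^ 2 ^ n := by
    rw [← e.odd_z mo', ← pw, Nat.sub_add_cancel (by omega)]
  have eρ : (j * d) ^ 2 ^ (n + 1 - 2) = r ^ (-m * 2 ^ (n - 2)) := by rw [← pw]; congr 2; omega
  have σS := mul_mem j1 e.dU.1
  have ρρ : r ^ (-m * 2 ^ (n - 2)) * r ^ (-m * 2 ^ (n - 2)) = z := by
    rw [← zpow_add, ← mul_add, ← two_mul, ← e.two_pow', e.odd_z mo']
  obtain ⟨-, w, ee⟩ := J G M T S K s i z t d _ k f e.dU (zpow_mem e.rU _) e.dd ρρ (e.inv0 _)
  have dσ : d * (j * d) * d⁻¹ = (j * d)⁻¹ := by rw [mul_inv_rev, inv_of_sq jj, inv_of_sq e.dd, mul_assoc, mul_assoc, e.dd, mul_one]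
  have iσ := (zcom f.tr.iS σS).symm
  have id := (zcom f.tr.iS e.dU.1).symm
  have eS : closure {j * d, d, i} = S := by
    have m1 : j * d ∈ closure {j * d, d, i} := subset_closure (by simp)
    have m2 : d ∈ closure {j * d, d, i} := subset_closure (by simp)
    have m3 : i ∈ closure {j * d, d, i} := subset_closure (by simp)
    have U : S ⊓ K ⊔ zpowers i ≤ closure {j * d, d, i} := sup_le (e.gen.le.trans (pair_le.2 ⟨zpowers_le.2 (σσ ▸ mul_mem m1 m1)
      (mem_zpowers_zpow_iff.2 (Int.isCoprime_iff_gcd_eq_one.1 (by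
        rw [e.ord]; exact_mod_cast (Int.prime_two.coprime_iff_not_dvd.2 mo').symm.pow_right))), m2⟩)) (zpowers_le.2 m3)
    refine le_antisymm ((closure_le _).2 (by
      rintro _ (rfl | rfl | rfl); exacts [σS, e.dU.1, f.tr.iS.1])) fun g hg => by_contra fun h => h ?_
    exact (mul_mem_cancel_right ((mul_mem_cancel_right m2).1 m1)).1 (U (dec' _ (mul_mem hg j1)
      (f.n4.idx g hg j j1 (fun h' => h (U (dec' g hg h'))) j2)))
  have wz : Commute w z := ρρ ▸ ee.eρ.mul_right ee.eρ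
  have wt : w * t ∈ S := by
    have a : w * t ∈ cen1 i := mem_cen1.2 (comm_of_fix (by
      rw [conj_conj, f.ti, conj_dist, ee.ei, conj_fix wz, mul_assoc, f.zt.z2, mul_one]))
    obtain ⟨a, ha, b, hb, h⟩ := (mem_sup_right_norm f.f4.nK).1 (f.ci.le a)
    have := mem_cen1.2 (wz.mul_left (zcom f.zt.zT f.tT))
    rw [h] at this ⊢
    exact mul_mem (e.cz.le ⟨ha, ((cen1 z).mul_mem_cancel_right (mem_cen1.2 (zcom f.f4.zP hb))).1 this⟩).1 hb
  have wS : w ∈ nor S := (mul_mem_cancel_right f.tS).1 (le_normalizer wt)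
  refine ⟨n + 1, j * d, d, _, w, eρ ▸ ee, f.zt.syl, k.res, f.zt.zT, by omega, orderOf_eq_prime_pow
    (fun h => f.zt.z1 (ez.trans h)) (by rw [pow_succ, pow_mul, ← ez, sq, f.zt.z2]), ez, rfl, e.dd, dσ, f.tr.i2, iσ, id,
    eS ▸ f.syl, eS ▸ f.zt.ST, (T.mul_mem_cancel_right f.tT).1 (f.zt.ST wt), ?_, f.nc⟩
  have dn : d ∈ nor (closure {j * d, i}) := nor_pair (dσ ▸ inv_mem (mem_pair_left _ _))
    ((conj_fix id.symm).symm ▸ mem_pair_right _ _)
  have h := conj_mem_of_mem_normalizer wS σS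
  rw [← eS, triple_eq, mem_sup_zp dn (e.dd ▸ one_mem _)] at h
  refine h.resolve_right fun h => ?_
  have c : closure {j * d, i} ≤ cen1 (r ^ (-m * 2 ^ (n - 2))) := pair_le.2 ⟨mem_cen1.2 (eρ ▸ (Commute.refl _).pow_right _),
    mem_cen1.2 (zcom f.tr.iS (zpow_mem e.rU _).1).symm⟩
  have c1 := conj_mem_cj (g := w) (c (mem_pair_left _ _))
  rw [cj_cen1, conj_fix ee.eρ] at c1
  have c2 := conj_fix (mem_cen1.1 ((mul_mem_cancel_left c1).1 (c h)))
  rw [e.inv0] at c2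
  exact f.zt.z1 (by rw [← ρρ]; nth_rw 1 [← c2]; exact inv_mul_cancel _)

end H97.QU
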