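import Cfsg.Agent.H97.QULib3

/-! Job JN4a of `blueprints/QU.md`. -/

set_option autoImplicit false
set_option linter.unusedSectionVars false

namespace H97.QU

open Subgroup Cfsg H98 H96.CG
open H52 (zc)
open scoped commutatorElement

universe u

variable {G : Type u} [Group G] [Finite G] {M T S P P' K₁ K₂ W D : Subgroup G} {s : ℕ} {i z t y z₁ z₂ g x a b : G}

theorem mem_sup_of_cen (c : K₁ ≤ cen K₂) : x ∈ K₁ ⊔ K₂ ↔ ∃ a ∈ K₁, ∃ b ∈ K₂, x = a * b :=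
  mem_sup_left_norm (le_normalizer_of_le_centralizer c)

theorem ord_conj (g x : G) : orderOf (g * x * g⁻¹) = orderOf x := (MulAut.conj g).orderOf_eq x

theorem fuse2 (f : L4 P K₁ z₁) (f' : L4 P' K₂ z₂) (c : K₁ ≤ cen K₂) (h1 : z₁ ∈ K₁) (ha : a ∈ K₁) (hb : b ∈ K₂)
    (a2 : a * a = 1) (a1 : a ≠ 1) (b2 : b * b = 1) (b1 : b ≠ 1) : ∃ k ∈ K₁ ⊔ K₂, k * (z₁ * z₂) * k⁻¹ = a * b := by
  obtain ⟨k₁, k1, rfl⟩ := f.one a ha a2 a1
  obtain ⟨k₂, k2, rfl⟩ := f'.one b hb b2 b1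
  exact ⟨k₁ * k₂, mul_mem_sup k1 k2, by
    rw [conj_conj, conj_dist k₂, conj_fix (com (c h1) k2), conj_dist k₁, conj_fix (com (c k1) hb).symm]⟩

namespace F2
variable (f : F2 M T S K₁ K₂ s i z t y z₁ z₂)
include f

theorem kk (h1 : x ∈ K₁) (h2 : x ∈ K₂) : x = 1 := f.f2.eq_one h2 (f.cm h1)

theorem one (hx : x ∈ K₁ ⊔ K₂) (h1 : x ∈ cen K₁) (h2 : x ∈ cen K₂) : x = 1 := by
  obtain ⟨a, ha, b, hb, rfl⟩ := (mem_sup_of_cen f.cm).1 hx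
  rw [f.f1.eq_one ha ((mul_mem_cancel_right (cen_symm f.cm hb)).1 h1),
    f.f2.eq_one hb ((mul_mem_cancel_left (f.cm ha)).1 h2), mul_one]

theorem i2 : i ∈ cen K₂ := mem_cen.2 fun _ hy => mem_cen1.1 (f.comp2.1 hy)

theorem iK : i ∉ K₁ ⊔ K₂ := fun h => f.tr.i1 (f.one h f.tr.iK f.i2)

theorem nC : cen1 i ≤ nor (K₁ ⊔ K₂) := fun g hg => by
  have : y ∈ nor (K₁ ⊔ K₂) := cj_eq_self_iff.1 (by rw [cj_sup, f.k1, f.k2, sup_comm])
  have e : nor K₁ ⊓ nor K₂ ≤ nor (K₁ ⊔ K₂) := le_normalizer_sup inf_le_left inf_le_right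
  exact (f.two g hg).elim (fun h => e h) fun h => (mul_mem_cancel_right this).1 (e h)

theorem memP (hg : g ∈ S) (h : Commute g z₁) : g ∈ S ⊓ nor K₁ :=
  ⟨hg, IsComponentOf.mem_nor f.tr.cf.comp (f.syl.le hg) (fun e => f.f1.z1 (f.f1.eq_one f.f1.zK e))
    ((conj_fix h).symm ▸ f.f1.zK)⟩

theorem nW : S ≤ nor (S ⊓ (K₁ ⊔ K₂)) := le_normalizer_inf le_normalizer (f.syl.le.trans f.nC)

theorem U1 : S ⊓ nor K₁ ⊓ K₁ ≤ S ⊓ (K₁ ⊔ K₂) := inf_le_inf inf_le_left le_sup_left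

theorem U2 : S ⊓ nor K₁ ⊓ K₂ ≤ S ⊓ (K₁ ⊔ K₂) := inf_le_inf inf_le_left le_sup_right

end F2

theorem Fc.tz (f : Fc M T S K₁ s i z t) : t * z * t⁻¹ = z := conj_fix (zcom f.zt.zT f.tT)

theorem Fc.tiz (f : Fc M T S K₁ s i z t) : t * (i * z) * t⁻¹ = i := by
  rw [conj_dist, f.ti, f.tz, mul_assoc, f.zt.z2, mul_one]

theorem Fc.nt (f : Fc M T S K₁ s i z t) (h : S ≤ nor W) : S ≤ nor (cj t W) :=
  ((cj_eq_self f.tS).ge.trans (cj_mono t h)).trans (cj_nor t W).le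

theorem Fc.lt (f : Fc M T S K₁ s i z t) (h : W ≤ S) : cj t W ≤ S := cj_le_of_le h f.tS

/-- two normal subgroups of `S` with no common involution of the centre commute -/
theorem Fc.inf_bot (f : Fc M T S K₁ s i z t) (h : W ≤ S) (h1 : S ≤ nor W) (h2 : S ≤ nor D)
    (e1 : i ∈ W → i ∉ D) (e2 : z ∈ W → z ∉ D) (e3 : i * z ∈ W → i * z ∉ D) : W ⊓ D = ⊥ := by
  by_contra e
  obtain ⟨w, w1, w2, w3, w4⟩ := exists_inv_zc f.tr.two (inf_le_left.trans h) (le_normalizer_inf h1 h2) e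
  rcases f.om w w2 w3 with rfl | rfl | rfl | rfl
  exacts [w4 rfl, e1 w1.1 w1.2, e2 w1.1 w1.2, e3 w1.1 w1.2]

theorem cen_of_inf_bot (h1 : W ≤ nor D) (h2 : D ≤ nor W) (h : W ⊓ D = ⊥) : W ≤ cen D :=
  commutator_eq_bot_iff_le_centralizer.1 (eq_bot_iff.2 ((le_inf (commutator_le_left' h2)
    (commutator_le_right' h1)).trans h.le))

theorem Dih.mem_nor {K U : Subgroup G} {n : ℕ} {r d : G} (h : Dih K U z₁ n r d) (h1 : x ∈ nor K) (h2 : Commute x z₁) :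
    x ∈ nor U := by
  rw [← h.cz]
  exact le_normalizer_inf (zpowers_le.2 h1) (le_normalizer_of_le (zpowers_le.2 (mem_cen1.2 h2))) (mem_zpowers x)

theorem jobN4a : JN4a.{u} := by
  intro G _ _ M T S K₁ K₂ s i z t y z₁ z₂ k f ez
  have zz : z₁ * z₂ ∈ K₁ ⊔ K₂ := mul_mem_sup f.f1.zK f.f2.zK
  have iz : i * z * i = z := by
    rw [mul_assoc, (zcom f.tr.iS (f.zt.zS k f.tr.cf.beta.good).1).eq, ← mul_assoc, f.tr.i2, one_mul]
  have c : cj t (S ⊓ (K₁ ⊔ K₂)) ≤ cen (S ⊓ (K₁ ⊔ K₂)) := cen_of_inf_bot ((f.lt inf_le_left).trans f.nW)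
    (inf_le_left.trans (f.nt f.nW)) (f.inf_bot (f.lt inf_le_left) (f.nt f.nW) f.nW (fun _ h => f.iK h.2)
      (fun _ h => f.iK (by simpa [ez] using mul_mem zz (inv_mem h.2))) fun h _ => f.iK (by
        rw [← f.ti, conj_mem_cj_iff] at h; exact h.2))
  have A : ∀ a ∈ S ⊓ nor K₁ ⊓ K₁, ∀ b ∈ S ⊓ nor K₁ ⊓ K₂, a * a = 1 → a ≠ 1 → b * b = 1 → b ≠ 1 →
      t * (a * b) * t⁻¹ ∈ cen K₁ ⊓ cen K₂ := fun a ha b hb a2 a1 b2 b1 => by
    obtain ⟨g, hg, e⟩ := fuse2 f.f1.toL4 f.f2.toL4 f.cm f.f1.zK ha.2 hb.2 a2 a1 b2 b1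
    have h1 := conj_mem_cj (g := t) (mul_mem (f.U1 ha) (f.U2 hb))
    have h2 := f.memP (f.lt inf_le_left h1) (com (c h1) (f.U1 f.f1.zU)).symm
    have tc : TC (t * (a * b) * t⁻¹ * (z₁ * z₂)) := by
      have := (f.zt.tc.cj g).cj t
      rwa [← iz, conj_dist g, conj_fix (mem_cen1.1 (sup_le f.tr.cf.comp.1 f.comp2.1 hg)), ← ez, e, conj_dist t,
        f.ti, ← ez] at this
    have ci := zcom f.tr.iS (mul_mem h2.1 (mul_mem f.f1.zP.1.1 f.f2.zP.1.1))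
    refine ⟨(f.n1.c1 _ ⟨h2, centralizer_anti f.U1 (c h1)⟩).resolve_right fun e => ?_,
      (f.n2.c1 _ ⟨h2, centralizer_anti f.U2 (c h1)⟩).resolve_right fun e => ?_⟩
    · have := f.rule _ tc ci
      rw [← mul_assoc, inf_of_le_left fun x hx => mem_cen1.2 (com (mul_mem e (cen_symm f.cm f.f2.zK)) hx)] at this
      exact quasi_not_charP f.f1.quasi this
    · have := f.rule2 _ tc ci
      rw [← (com (f.cm f.f1.zK) f.f2.zK).eq, ← mul_assoc,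
        inf_of_le_left fun x hx => mem_cen1.2 (com (mul_mem e (f.cm f.f1.zK)) hx)] at this
      exact quasi_not_charP f.f2.quasi this
  obtain ⟨D, d1, d2⟩ := f.f1.toL4.exists_v4
  obtain ⟨D', d1', d2'⟩ := f.f2.toL4.exists_v4
  obtain ⟨x, hx, x3⟩ := f.f1.xD D (d1.trans inf_le_right) d2
  obtain ⟨x', hx', x3'⟩ := f.f2.xD D' (d1'.trans inf_le_right) d2'
  have B : ∀ a ∈ D, t * a * t⁻¹ ∈ cen K₁ ⊓ cen K₂ := fun a ha => by
    obtain ⟨b, hb, b1, ba⟩ := d2.exists_ne a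
    rcases eq_or_ne a 1 with rfl | a1
    · simp
    have := mul_mem (A _ (d1 (mul_mem ha hb)) _ f.f2.zU (d2.sq (mul_mem ha hb))
      (fun e => ba (eq_of_sq e (d2.sq hb)).symm) f.f2.z2 f.f2.z1) (inv_mem (A b (d1 hb) _ f.f2.zU (d2.sq hb) b1 f.f2.z2 f.f2.z1))
    rwa [show t * (a * b * z₂) * t⁻¹ * (t * (b * z₂) * t⁻¹)⁻¹ = t * a * t⁻¹ by group] at this
  have hz := f.f1.z_mem d1 d2
  have c2 : zpowers z₂ ≤ cen K₁ := zpowers_le.2 (cen_symm f.cm f.f2.zK)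
  have C : cj t (D ⊔ zpowers z₂) ≤ cen K₁ ⊓ cen K₂ := by
    rw [cj_sup, cj_zpowers]
    refine sup_le (map_le_iff_le_comap.2 B) (zpowers_le.2 ((mul_mem_cancel_left (B _ hz)).1 ?_))
    rw [← conj_dist, ez, f.tiz]; exact ⟨f.tr.iK, f.i2⟩
  have iA : i ∈ cj t (D ⊔ zpowers z₂) := by
    rw [← f.tiz, ← ez]; exact conj_mem_cj (mul_mem_sup hz (mem_zpowers _))
  have two := f.tr.two.to_le (f.lt (sup_le (d1.trans (inf_le_left.trans inf_le_left)) (zpowers_le.2 f.f2.zP.1.1)))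
  have ne : cj t (D ⊔ zpowers z₂) ≠ ⊥ := fun e => f.tr.i1 (e.le iA)
  have le : cen (cj t (D ⊔ zpowers z₂)) ≤ cen1 i := fun g hg => mem_cen1.2 (com hg iA).symm
  have xn : t * x * t⁻¹ ∈ nor (cj t (D ⊔ zpowers z₂)) := cj_nor t _ ▸ conj_mem_cj (le_normalizer_sup (zpowers_le.2 hx.2)
    (le_normalizer_of_le_centralizer ((zpowers_le.2 hx.1).trans (cen_symm c2))) (mem_zpowers x))
  have o3 : orderOf (t * x * t⁻¹) = 3 := (ord_conj t x).trans x3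
  have c1 := cen_symm (C.trans inf_le_left)
  have c2' := cen_symm (C.trans inf_le_right)
  have od : Odd (orderOf (t * x * t⁻¹)) := by rw [o3]; decide
  have n1 := k.odd_nor (core_nor_ne two ne) (IsComponentOf.nor_of_cen f.tr.cf.comp c1 le) xn od
  have n2 := k.odd_nor (core_nor_ne two ne) (IsComponentOf.nor_of_cen f.comp2 c2' le) xn od
  have fx : t * x * t⁻¹ * (z₁ * z₂) * (t * x * t⁻¹)⁻¹ = z₁ * z₂ := by
    rw [ez, ← f.ti]; exact conj_fix ((mem_cen1.1 (f.tr.cf.comp.1 hx.1)).map (MulAut.conj t))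
  generalize t * x * t⁻¹ = w at xn o3 od n1 n2 fx
  have e1 : z₁⁻¹ * (w * z₁ * w⁻¹) = 1 := f.kk (mul_mem (inv_mem f.f1.zK) (conj_mem_of_mem_normalizer n1 f.f1.zK)) (by
    rw [show z₁⁻¹ * (w * z₁ * w⁻¹) = z₁⁻¹ * (w * (z₁ * z₂) * w⁻¹) * (w * z₂ * w⁻¹)⁻¹ by group, fx, inv_mul_cancel_left]
    exact mul_mem f.f2.zK (inv_mem (conj_mem_of_mem_normalizer n2 f.f2.zK)))
  rw [inv_mul_eq_one] at e1
  rw [conj_dist, ← e1, mul_right_inj] at fx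
  obtain ⟨_, _, _, e⟩ := f.d1
  obtain ⟨_, _, _, e'⟩ := f.d2
  have w1 := f.f1.odd w ⟨n1, e.mem_nor n1 (comm_of_fix e1.symm)⟩ od
  have w2 := f.f2.odd w ⟨n2, e'.mem_nor n2 (comm_of_fix fx)⟩ od
  have cx : zpowers x ≤ cen (zpowers x') := (zpowers_le.2 hx.1).trans (f.cm.trans (centralizer_anti (zpowers_le.2 hx'.1)))
  have E : zpowers x ⊔ zpowers x' ≤ K₁ ⊔ K₂ := sup_le_sup (zpowers_le.2 hx.1) (zpowers_le.2 hx'.1)
  refine k.no_rank3 two ne (H12.ea_sup (H12.ea_zpowers (x3 ▸ pow_orderOf_eq_one x))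
    (H12.ea_zpowers (x3' ▸ pow_orderOf_eq_one x')) cx) ?_ o3 (centralizer_anti E ((centralizer_sup _ _).ge ⟨w1, w2⟩))
    (fun h => ?_) (E.trans (le_normalizer_of_le_centralizer (sup_le c1 c2'))) xn
  · rw [H12.card_sup_of_disjoint (le_normalizer_of_le_centralizer cx) (eq_bot_iff.2 fun g hg =>
      f.kk (zpowers_le.2 hx.1 hg.1) (zpowers_le.2 hx'.1 hg.2)), Nat.card_zpowers, Nat.card_zpowers, x3, x3']
  · rw [f.one (E h) w1 w2, orderOf_one] at o3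
    omega

end H97.QU
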