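import Cfsg.Agent.H97.QUN4a

/-! Job JN4b of `blueprints/QU.md`. -/

set_option autoImplicit false
set_option linter.unusedSectionVars false

namespace H97.QU

open Subgroup Cfsg H98 H96 H96.CG
open H52 (zc)
open scoped commutatorElement

universe u

variable {G : Type u} [Group G] [Finite G] {M T S P K U K₁ K₂ W D E Q : Subgroup G} {s n : ℕ}
  {i z t y z₀ z₁ z₂ g x a b c r d : G}

theorem cen_sup (A B : Subgroup G) : cen (A ⊔ B) = cen A ⊓ cen B := H98.centralizer_sup A B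

theorem two_mul_card_le (h : D < E) : 2 * Nat.card D ≤ Nat.card E := by
  obtain ⟨m, e⟩ := card_dvd_of_le h.le
  have := card_lt h
  have : 0 < Nat.card D := Nat.card_pos
  rcases m with _ | _ | m <;> nlinarith

theorem rel_sup_zp (hn : t ∈ nor S) (ht : t * t ∈ S) (h : t ∉ S) : S.relIndex (S ⊔ zpowers t) = 2 :=
  rel_two (mem_sup_right (mem_zpowers t)) h fun _ hb => (mem_sup_zp hn ht).1 hb

theorem card_le_rel {m : ℕ} (h : S.relIndex E ≤ m) : Nat.card E ≤ m * Nat.card ↥(S ⊓ E) := by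
  rw [← H12.card_inf_mul_relIndex S E, mul_comm]; exact Nat.mul_le_mul_right _ h

theorem card_le_two (h : S.relIndex P = 2) (hE : E ≤ P) : Nat.card E ≤ 2 * Nat.card ↥(S ⊓ E) :=
  card_le_rel (h ▸ relIndex_le_of_le_right hE (by omega))

theorem ea_of_sq (h : ∀ a ∈ E, a * a = 1) : IsElementaryAbelian 2 E :=
  H12.ea_of (fun a ha b hb => by
    rw [← inv_of_sq (h _ (mul_mem ha hb)), mul_inv_rev, inv_of_sq (h a ha), inv_of_sq (h b hb)])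
    fun a ha => (sq a).trans (h a ha)

theorem Dih.rr (h : Dih K U z₀ n r d) : r * r ≠ 1 := fun e =>
  absurd ((pow_dvd_pow 2 h.two).trans (h.ord ▸ orderOf_dvd_of_pow_eq_one ((sq r).trans e))) (by decide)

theorem Dih.ncomm (h : Dih K U z₀ n r d) : ¬ Commute d r := fun e => h.rr (by
  have := h.dr
  rw [conj_fix e] at this
  nth_rw 1 [this]; simp)

theorem Dih.comm (h : Dih K U z₀ n r d) : ⁅d, d * r ^ ((2 : ℤ) ^ (n - 2))⁆ = z₀ := by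
  rw [commutatorElement_def, inv_of_sq (h.refl_sq _), inv_of_sq h.dd, ← mul_assoc d d, h.dd, one_mul, mul_assoc,
    ← mul_assoc d d, h.dd, one_mul, ← zpow_add, h.ez', h.two_pow', two_mul]

/-- a non-trivial normal subgroup of `U` contains the central involution -/
theorem Dih.z_mem (h : Dih K U z₀ n r d) (h1 : U ≤ nor W) (h2 : W ⊓ U ≠ ⊥) : z₀ ∈ W := by
  obtain ⟨w, w1, w2, -, w4⟩ := exists_inv_zc h.isPGroup inf_le_right (le_normalizer_inf h1 le_normalizer) h2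
  exact (h.cent w2.1 (zcom w2 h.rU).symm (zcom w2 h.dU).symm).resolve_left w4 ▸ w1.1

theorem Dih.cen_U (h : Dih K U z₀ n r d) (hx : x ∈ K) (e : x ∈ cen U) : x = 1 ∨ x = z₀ :=
  h.cent (h.cz.le ⟨hx, mem_cen1.2 (CG.com e h.zU).symm⟩) (CG.com e h.rU).symm (CG.com e h.dU).symm

namespace F2
variable (f : F2 M T S K₁ K₂ s i z t y z₁ z₂)
include f

theorem nP : S ⊓ nor K₁ ≤ nor K₂ := f.f2.nK

theorem alt (hg : g ∈ S) : g ∈ S ⊓ nor K₁ ∨ g * y ∈ S ⊓ nor K₁ :=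
  (f.two g (f.syl.le hg)).imp (fun h => ⟨hg, h.1⟩) fun h => ⟨mul_mem hg f.yS, h.1⟩

theorem sw (h : g * y ∈ S ⊓ nor K₁) : cj g K₁ = K₂ := by rw [← f.k2, cj_cj, cj_eq_self (f.nP h)]

theorem swz (h : g * y ∈ S ⊓ nor K₁) : g * z₁ * g⁻¹ = z₂ := by rw [← f.y2, ← conj_conj, conj_fix (zcom f.f2.zP h)]

theorem nQ : S ≤ nor (S ⊓ cen K₁ ⊓ cen K₂) := by
  rw [inf_assoc, ← H98.centralizer_sup]
  exact le_normalizer_inf le_normalizer (le_normalizer_centralizer (f.syl.le.trans f.nC))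

theorem z12 : Commute z₂ z₁ := com (f.cm f.f1.zK) f.f2.zK

/-- an element centralizing `U₁ U₂` lies in `Q₀ ⟨z₁, z₂⟩` -/
theorem cW (hc : c ∈ S) (h : c ∈ cen (S ⊓ (K₁ ⊔ K₂))) : ∃ a ∈ closure {z₁, z₂}, c * a ∈ S ⊓ cen K₁ ⊓ cen K₂ := by
  have hP := f.memP hc (com h (f.U1 f.f1.zU)).symm
  have c1 := f.cm f.f1.zK
  have c2 := cen_symm f.cm f.f2.zK
  have s1 := f.f1.zP.1.1
  have s2 := f.f2.zP.1.1
  rcases f.n1.c1 c ⟨hP, centralizer_anti f.U1 h⟩ with e | e <;> rcases f.n2.c1 c ⟨hP, centralizer_anti f.U2 h⟩ with e' | e'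
  · exact ⟨1, one_mem _, by rw [mul_one]; exact ⟨⟨hc, e⟩, e'⟩⟩
  · exact ⟨z₂, mem_pair_right _ _, ⟨mul_mem hc s2, mul_mem e c2⟩, e'⟩
  · exact ⟨z₁, mem_pair_left _ _, ⟨mul_mem hc s1, e⟩, mul_mem e' c1⟩
  · refine ⟨z₁ * z₂, mul_mem (mem_pair_left _ _) (mem_pair_right _ _), ⟨mul_mem hc (mul_mem s1 s2), ?_⟩, ?_⟩
    · rw [← mul_assoc]; exact mul_mem e c2
    · rw [← f.z12.eq, ← mul_assoc]; exact mul_mem e' c1

theorem v4 : V4 (closure {z₁, z₂}) :=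
  v4_pair f.f1.z2 f.f2.z2 f.z12.symm f.f1.z1 f.f2.z1 fun e => f.f1.z1 (f.kk f.f1.zK (e ▸ f.f2.zK))

theorem zle : closure {z₁, z₂} ≤ zc (S ⊓ nor K₁) := pair_le.2 ⟨f.f1.zP, f.f2.zP⟩

theorem shift : F2 M T S K₁ K₂ s i z (y * t) y z₁ z₂ :=
  have yn : y ∈ nor S := le_normalizer f.yS
  have tt : y * t * (y * t) ∈ S := by
    rw [show y * t * (y * t) = y * (t * y * t⁻¹) * (t * t) by group]
    exact mul_mem (mul_mem f.yS (conj_mem_of_mem_normalizer f.tS f.yS)) f.tt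
  { f with
    tT := mul_mem (f.zt.ST f.yS) f.tT
    tS := mul_mem yn f.tS
    tn := fun h => f.tn ((mul_mem_cancel_left f.yS).1 h)
    tt := tt
    nT := f.nT.trans (sup_le le_sup_left (zpowers_le.2 ((mul_mem_cancel_left (mem_sup_left f.yS)).1
      (mem_sup_right (mem_zpowers _)))))
    ti := by rw [conj_conj, f.ti, conj_dist, conj_fix (zcom f.tr.iS f.yS), conj_fix (zcom f.zt.zT (f.zt.ST f.yS))]
    qq := by rw [← cj_cj, cj_eq_self (f.nt f.nQ f.yS), f.qq] }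

variable (ez : z₁ * z₂ = z)
include ez

theorem Qt : cj t (S ⊓ cen K₁ ⊓ cen K₂) ≤ cen (S ⊓ (K₁ ⊔ K₂)) :=
  have l := f.lt (inf_le_left.trans inf_le_left : S ⊓ cen K₁ ⊓ cen K₂ ≤ S)
  have zz : z ∈ K₁ ⊔ K₂ := ez ▸ mul_mem_sup f.f1.zK f.f2.zK
  cen_of_inf_bot (l.trans f.nW) (inf_le_left.trans (f.nt f.nQ)) (f.inf_bot l (f.nt f.nQ) f.nW (fun _ h => f.iK h.2)
    (fun h _ => f.zt.z1 (by rw [← f.tz, conj_mem_cj_iff] at h; exact f.one zz h.1.2 h.2))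
    fun _ h => f.iK ((mul_mem_cancel_right zz).1 h.2))

theorem sqQ (h : c ∈ S ⊓ cen K₁ ⊓ cen K₂) : c * c = 1 := by
  have h1 := conj_mem_cj (g := t) h
  have h2 := f.lt (inf_le_left.trans inf_le_left) h1
  obtain ⟨a, ha, e⟩ := f.cW h2 (f.Qt ez h1)
  have := mul_mem e e
  rw [(zcom (f.zle ha) (f.memP h2 (com (f.Qt ez h1) (f.U1 f.f1.zU)).symm)).symm.mul_mul_mul_comm, f.v4.sq ha,
    mul_one] at this
  simpa [conj_mul] using f.qq.le ⟨this, mul_mem h1 h1⟩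

theorem cardQ : Nat.card ↥(S ⊓ cen K₁ ⊓ cen K₂) ≤ 4 := by
  have n : closure {z₁, z₂} ≤ nor (S ⊓ cen K₁ ⊓ cen K₂) := (f.zle.trans (inf_le_left.trans inf_le_left)).trans f.nQ
  have h1 := H12.card_mul_card_le (S ⊓ cen K₁ ⊓ cen K₂) (cj t (S ⊓ cen K₁ ⊓ cen K₂))
  have h2 := H12.card_sup_mul_card_inf n
  have h3 := card_le_of_le (sup_le le_sup_right fun c hc => by
    obtain ⟨a, ha, e⟩ := f.cW (f.lt (inf_le_left.trans inf_le_left) hc) (f.Qt ez hc)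
    exact (mul_mem_cancel_right (mem_sup_left ha)).1 (mem_sup_right e) :
      S ⊓ cen K₁ ⊓ cen K₂ ⊔ cj t (S ⊓ cen K₁ ⊓ cen K₂) ≤ closure {z₁, z₂} ⊔ S ⊓ cen K₁ ⊓ cen K₂)
  rw [f.qq, card_bot, card_cj] at h1
  rw [f.v4.2] at h2
  have : 0 < Nat.card ↥(closure {z₁, z₂} ⊓ (S ⊓ cen K₁ ⊓ cen K₂)) := Nat.card_pos
  have : 0 < Nat.card ↥(S ⊓ cen K₁ ⊓ cen K₂) := Nat.card_pos
  nlinarith

theorem sqW (hc : c ∈ S) (h : c ∈ cen (S ⊓ (K₁ ⊔ K₂))) : c * c = 1 := by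
  obtain ⟨a, ha, e⟩ := f.cW hc h
  have := f.sqQ ez e
  rwa [(zcom (f.zle ha) (f.memP hc (com h (f.U1 f.f1.zU)).symm)).symm.mul_mul_mul_comm, f.v4.sq ha, mul_one] at this

theorem tz1 : t * z₁ * t⁻¹ = z₁ ∨ t * z₁ * t⁻¹ = z₂ := by
  obtain ⟨n, r, d, e⟩ := f.d1
  obtain ⟨n', r', d', e'⟩ := f.d2
  have nW := f.nt f.nW
  have lW := f.lt (inf_le_left : S ⊓ (K₁ ⊔ K₂) ≤ S)
  have US : S ⊓ nor K₁ ⊓ K₁ ≤ S := inf_le_left.trans inf_le_left
  have h1 : z₁ ∈ cj t (S ⊓ (K₁ ⊔ K₂)) := e.z_mem (US.trans nW) fun b => by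
    by_cases h : cj t (S ⊓ (K₁ ⊔ K₂)) ≤ S ⊓ nor K₁
    · have := cen_symm (cen_of_inf_bot (h.trans f.f1.nU) (US.trans nW) b) e.rU
      rw [← cj_cen, mem_cj] at this
      have := f.sqW ez (conj_mem_of_mem_normalizer' f.tS (US e.rU)) this
      exact e.rr (by simpa [mul_assoc] using congrArg (fun x => t * x * t⁻¹) this)
    obtain ⟨w, w1, w2⟩ := SetLike.not_le_iff_exists.1 h
    have c : w * d * w⁻¹ ∈ cen K₁ := cen_symm f.cm (f.sw ((f.alt (lW w1)).resolve_left w2) ▸ conj_mem_cj e.dU.2)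
    have a1 : w * d * w⁻¹ * d⁻¹ ∈ cj t (S ⊓ (K₁ ⊔ K₂)) := commutator_le_left' (US.trans nW) (commutator_mem_commutator w1 e.dU)
    have a2 := commutator_le_left' (US.trans nW) (commutator_mem_commutator a1 e.rU)
    rw [← (com c (inv_mem e.dU.2)).eq, comm_mul_left_of (com c e.rU.2).symm, inv_of_sq e.dd] at a2
    exact e.ncomm (commutatorElement_eq_one_iff_commute.1 (b.le ⟨a2, commutator_le_of_le le_rfl le_rfl
      (commutator_mem_commutator e.dU e.rU)⟩))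
  have h2 := conj_mem_cj (g := t) h1
  rw [cj_cj, cj_eq_self (f.nW f.tt)] at h2
  obtain ⟨a, ha, b, hb, h⟩ := (mem_sup_of_cen f.cm).1 h2.2
  have act : ∀ g ∈ S, g * (a * b) * g⁻¹ = a * b ∨ g * (a * b) * g⁻¹ = a * b * (z₁ * z₂) := fun g hg => by
    have e : g * (t * z₁ * t⁻¹) * g⁻¹ = t * (t⁻¹ * g * t * z₁ * (t⁻¹ * g * t)⁻¹) * t⁻¹ := by group
    rw [← h, e]
    refine (f.alt (conj_mem_of_mem_normalizer' f.tS hg)).imp (fun h => by rw [conj_fix (zcom f.f1.zP h)]) fun h => ?_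
    rw [f.swz h, ez, ← f.tz, ← conj_dist, ← ez, ← mul_assoc z₁, f.f1.z2, one_mul]
  have ab : Commute b a := com (f.cm ha) hb
  have a1 := e.cen_U ha (mem_cen.2 fun g hg => comm_of_fix (by
    rcases act g (US hg) with h | h <;> rw [conj_dist, conj_fix (com (f.cm hg.2) hb).symm] at h
    · exact mul_right_cancel h
    · refine (conj_ne b f.f2.z1 (f.kk ?_ (mul_mem (mul_mem hb f.f2.zK) (inv_mem hb)))).elim
      rw [(com (f.cm f.f1.zK) hb).mul_mul_mul_comm] at h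
      rw [show b * z₂ * b⁻¹ = (a * z₁)⁻¹ * (a * z₁ * (b * z₂)) * b⁻¹ by group, ← h, mul_assoc, mul_inv_cancel_right]
      exact mul_mem (inv_mem (mul_mem ha f.f1.zK)) (mul_mem (mul_mem hg.2 ha) (inv_mem hg.2))))
  have b1 := e'.cen_U hb (mem_cen.2 fun g hg => comm_of_fix (by
    rcases act g hg.1.1 with h | h <;> rw [conj_dist, conj_fix (com (f.cm ha) hg.2)] at h
    · exact mul_left_cancel h
    · refine (f.f1.z1 (f.kk f.f1.zK ?_)).elim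
      rw [(com (f.cm f.f1.zK) hb).mul_mul_mul_comm, mul_assoc a z₁, mul_right_inj] at h
      rw [← mul_inv_cancel_right z₁ (b * z₂), ← h]
      exact mul_mem (mul_mem (mul_mem hg.2 hb) (inv_mem hg.2)) (inv_mem (mul_mem hb f.f2.zK))))
  rcases a1 with rfl | rfl <;> rcases b1 with rfl | rfl
  · exact (conj_ne t f.f1.z1 (by rw [h, mul_one])).elim
  · exact .inr (by rw [h, one_mul])
  · exact .inl (by rw [h, mul_one])
  · rw [ez, ← f.tz, mul_left_inj, mul_right_inj] at h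
    exact (f.f2.z1 (by rwa [← h, mul_eq_left] at ez)).elim

theorem maxE (h : t * z₁ * t⁻¹ = z₁) (h1 : E ≤ S ⊓ nor K₁ ⊔ zpowers t) (h2 : IsElementaryAbelian 2 E) :
    Nat.card E ≤ 16 * Nat.card ↥(S ⊓ cen K₁ ⊓ cen K₂) := by
  have eP : S ⊓ nor K₁ = S ⊓ cen1 z₁ := le_antisymm (fun g hg => ⟨hg.1, mem_cen1.2 (zcom f.f1.zP hg)⟩)
    fun g hg => f.memP hg.1 (mem_cen1.1 hg.2)
  have tP : t ∈ nor (S ⊓ nor K₁) := cj_eq_self_iff.1 (by rw [eP, cj_inf, cj_eq_self f.tS, cj_cen1, h])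
  have tt : t * t ∈ S ⊓ nor K₁ := f.memP f.tt ((comm_of_fix h).mul_left (comm_of_fix h))
  have A : ∀ E ≤ S ⊓ nor K₁, IsElementaryAbelian 2 E → Nat.card E ≤ 16 * Nat.card ↥(S ⊓ cen K₁ ⊓ cen K₂ ⊓ E) :=
    fun E h1 h2 => by
      have a := card_le_rel (f.n1.rk2 E h1 h2)
      have b := card_le_rel (f.n2.rk2 (cen K₁ ⊓ E) (inf_le_right.trans h1) (H12.ea_mono h2 inf_le_right))
      have c := card_le_of_le (show cen K₂ ⊓ (cen K₁ ⊓ E) ≤ S ⊓ cen K₁ ⊓ cen K₂ ⊓ E from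
        fun g hg => ⟨⟨⟨(h1 hg.2.2).1, hg.2.1⟩, hg.1⟩, hg.2.2⟩)
      omega
  by_cases hE : E ≤ S ⊓ nor K₁
  · exact (A E hE h2).trans (Nat.mul_le_mul_left _ (card_le_of_le inf_le_left))
  obtain ⟨e, e1, e2⟩ := SetLike.not_le_iff_exists.1 hE
  have a := card_le_two (rel_sup_zp tP tt fun h => f.tn h.1) h1
  have b := A _ (inf_le_left : S ⊓ nor K₁ ⊓ E ≤ _) (H12.ea_mono h2 inf_le_right)
  have c := two_mul_card_le ((inf_le_left : S ⊓ cen K₁ ⊓ cen K₂ ⊓ (S ⊓ nor K₁ ⊓ E) ≤ _).lt_of_ne fun h' => by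
    have i1 := conj_fix (ea_com h2 e1 (h'.ge ⟨⟨f.tr.iS.1, f.tr.iK⟩, f.i2⟩).2.2)
    have i2 := conj_fix (zcom f.tr.iS (((mem_sup_zp tP tt).1 (h1 e1)).resolve_left e2).1)
    rw [conj_conj, f.ti, conj_dist, i1, mul_eq_left] at i2
    exact conj_ne e f.zt.z1 i2)
  omega

theorem fin (J : JEmb.{u}) (k : Kt M s) (H : ∀ S' K' i', Tr M s S' K' i' → ¬ S' ≤ nor K') (h : t * z₁ * t⁻¹ = z₁) :
    False := by
  have eP : S ⊓ nor K₁ = S ⊓ cen1 z₁ := le_antisymm (fun g hg => ⟨hg.1, mem_cen1.2 (zcom f.f1.zP hg)⟩)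
    fun g hg => f.memP hg.1 (mem_cen1.1 hg.2)
  have tP : t ∈ nor (S ⊓ nor K₁) := cj_eq_self_iff.1 (by rw [eP, cj_inf, cj_eq_self f.tS, cj_cen1, h])
  have tt : t * t ∈ S ⊓ nor K₁ := f.memP f.tt ((comm_of_fix h).mul_left (comm_of_fix h))
  have tn : t ∉ S ⊓ nor K₁ := fun h => f.tn h.1
  have e2 : z₂ = z₁ * z := by rw [← ez, ← mul_assoc, f.f1.z2, one_mul]
  have h' : t * z₂ * t⁻¹ = z₂ := by rw [e2, conj_dist, h, f.tz]
  have PT : S ⊓ nor K₁ ⊔ zpowers t ≤ T := sup_le (inf_le_left.trans f.zt.ST) (zpowers_le.2 f.tT)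
  have cd : Nat.card ↥(S ⊓ nor K₁ ⊔ zpowers t) = s := by
    rw [card_sup_zp tP tt tn, ← card_two inf_le_left f.yS (fun h => f.yn h.2) fun _ => f.alt, f.tr.cf.beta.card]
  have Z1 : z₁ ∈ zc (S ⊓ nor K₁ ⊔ zpowers t) := ⟨mem_sup_left f.f1.zP.1,
    cen_symm (sup_le (cen_symm (zpowers_le.2 f.f1.zP.2)) (zpowers_le.2 ((cen1_eq _).le (mem_cen1.2 (comm_of_fix h)))))
      (mem_zpowers _)⟩
  have Z2 : z₂ ∈ zc (S ⊓ nor K₁ ⊔ zpowers t) := ⟨mem_sup_left f.f2.zP.1,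
    cen_symm (sup_le (cen_symm (zpowers_le.2 f.f2.zP.2)) (zpowers_le.2 ((cen1_eq _).le (mem_cen1.2 (comm_of_fix h')))))
      (mem_zpowers _)⟩
  have PH : S ⊓ nor K₁ ⊔ zpowers t ≤ cen1 z₁ := fun g hg => mem_cen1.2 (zcom Z1 hg)
  have KH : K₂ ≤ cen1 z₁ := fun g hg => mem_cen1.2 (com (f.cm f.f1.zK) hg)
  obtain ⟨D, d1, d2, d3⟩ := f.f2.exists_out
  have gD : Good M (S ⊓ nor K₁ ⊓ cen D) := by
    have := k.gam_good _ S (D ⊔ zpowers z₁) f.tr.cf.gam f.tr.cf.beta.good f.tr.cf.beta.card.ge f.tr.cf.le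
      (sup_le (d1.trans (inf_le_left.trans inf_le_left)) (zpowers_le.2 f.f1.zP.1.1))
      (H12.ea_le_centralizer (H12.ea_sup d2.1 (H12.ea_zpowers ((sq _).trans f.f1.z2))
        ((d1.trans inf_le_right).trans (KH.trans (cen1_eq _).le))))
      ((le_inf (IsComponentOf.core_le_cen f.comp2) (IsComponentOf.core_le_cen f.tr.cf.comp)).trans
        ((inf_le_inf (centralizer_anti (d1.trans inf_le_right)) (centralizer_anti (zpowers_le.2 f.f1.zK))).trans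
          (H98.centralizer_sup _ _).ge))
    rwa [cen_sup, ← cen1_eq, inf_comm (cen D), ← inf_assoc, ← eP] at this
  have gP := k.good_up _ _ gD (f.zt.syl.isPGroup.to_le PT) (inf_le_left.trans le_sup_left) (PT.trans f.zt.TM)
  have wit : ∀ H, S ⊓ nor K₁ ⊔ zpowers t ≤ H → K₂ ≤ H → ∃ U X, Wit M U X ∧ X ≤ H := fun H h1 h2 =>
    k.wit_in _ _ H gP cd.ge h1 gD ((inf_le_left.trans le_sup_left).trans h1) fun e =>
      d3 ((le_inf (inf_le_left.trans h2) (f.f2.lw D d1 d2)).trans e)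
  have gH : Gam M (cen1 z₁) := ⟨core_cen1_ne f.f1.z2 f.f1.z1, wit _ PH KH⟩
  by_cases hb : ∀ Y, S ⊓ nor K₁ ⊔ zpowers t ≤ Y → CharP 2 Y → Y ≤ M
  · have OP := (k.gam_syl _ _ gH gP cd.ge PH).pCoreOf_le
    have nO := self_le_normalizer_pCoreOf (p := 2) (cen1 z₁)
    have O0 : pCoreOf 2 (cen1 z₁) ≤ S ⊓ nor K₁ := fun o ho => ((mem_sup_zp tP tt).1 (OP ho)).resolve_right fun e => by
      have i1 := conj_fix (zcom f.tr.iS e.1)
      have iH : i ∈ cen1 z₁ := mem_cen1.2 (com f.tr.iK f.f1.zK).symm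
      have zO : z₁ ∈ pCoreOf 2 (cen1 z₁) := le_pCoreOf (two_zpowers f.f1.z2) (zpowers_le.2 (mem_cen1.2 rfl))
        (le_normalizer_of_le_centralizer (cen1_eq _).le) (mem_zpowers _)
      have a := commutator_le_left' nO (commutator_mem_commutator (inv_mem ho) iH)
      rw [conj_conj, f.ti] at i1
      rw [commutatorElement_def, inv_inv, show o⁻¹ * i * o = i * z by (nth_rw 1 [← i1]; group),
        conj_fix (zcom f.zt.zT (f.zt.ST f.tr.iS.1))] at a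
      exact f.f2.z1 (f.f2.eq_one f.f2.zK (quasi_two_le_cen f.f2.quasi (isPGroup_pCoreOf _) (KH.trans nO)
        ⟨e2 ▸ mul_mem zO a, f.f2.zK⟩))
    have zt : Zt M (S ⊓ nor K₁ ⊔ zpowers t) T z := { f.zt with ST := PT }
    obtain ⟨K', c1, c2, c3⟩ := J G M _ (S ⊓ nor K₁) T _ K₂ s z k.toKit ⟨gP, cd, hb⟩ PH gH zt KH f.f2.quasi
      (f.nP (ez ▸ mul_mem f.f1.zP.1 f.f2.zP.1))
      (fun e => f.f2.z1 (f.f2.eq_one f.f2.zK (e2 ▸ mul_mem (f.cm f.f1.zK) (mem_cen.2 fun g hg => mem_cen1.1 (e hg)))))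
      (cen_symm (quasi_cen_of_nor f.f2.quasi (isPGroup_pCoreOf _) (KH.trans nO) (O0.trans f.nP))) le_sup_left
      (rel_sup_zp tP tt tn).le f.nP
    exact H _ K' z₁ ⟨⟨⟨gP, cd, hb⟩, PH, gH, c1, fun e => f.f2.nti (c3 e)⟩, f.f1.z1, f.f1.z2, Z1,
      wit _ le_sup_right (c2.trans ((le_ncl _ _).trans le_sup_left))⟩ fun g hg => IsComponentOf.mem_nor c1 (PH hg)
        (fun e => f.f2.z1 (f.f2.eq_one f.f2.zK (centralizer_anti c2 e))) ((conj_fix (zcom Z2 hg)).symm ▸ c2 f.f2.zK)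
  push Not at hb
  obtain ⟨Y, y1, y2, y3⟩ := hb
  have cQ := f.cardQ ez
  rcases (k.big _ Y (k.wit_of _ Y gP cd.ge y1 y2 y3).1 cd).2 with ⟨E, e1, e3, e4⟩ | ⟨-, e1, -⟩
  · have := f.maxE ez h e1 e3
    omega
  have A : ∀ D₁ ≤ S ⊓ nor K₁ ⊓ K₁, ∀ D₂ ≤ S ⊓ nor K₁ ⊓ K₂, V4 D₁ → V4 D₂ → D₁ ⊔ D₂ ≤ jt 2 (S ⊓ nor K₁ ⊔ zpowers t) :=
    fun D₁ a D₂ b a' b' => by
      have c : D₁ ≤ cen D₂ := (a.trans inf_le_right).trans (f.cm.trans (centralizer_anti (b.trans inf_le_right)))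
      have l : D₁ ⊔ D₂ ≤ K₁ ⊔ K₂ := sup_le_sup (a.trans inf_le_right) (b.trans inf_le_right)
      have c' : D₁ ⊔ D₂ ≤ cen (S ⊓ cen K₁ ⊓ cen K₂) := l.trans (sup_le (cen_symm (inf_le_left.trans inf_le_right))
        (cen_symm inf_le_right))
      refine le_sup_left.trans (H12.le_thompsonSubgroupOf ⟨le_sup_of_le_left (sup_le (sup_le (a.trans inf_le_left)
        (b.trans inf_le_left)) (inf_le_left.trans (inf_le_inf_left _ (centralizer_le_normalizer _)))),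
        H12.ea_sup (H12.ea_sup a'.1 b'.1 c) (ea_of_sq fun _ => f.sqQ ez) c', fun B b1 b2 => ?_⟩)
      rw [H12.card_sup_of_disjoint (le_normalizer_of_le_centralizer c') (eq_bot_iff.2 fun g hg =>
        f.one (l hg.1) hg.2.1.2 hg.2.2), H12.card_sup_of_disjoint (le_normalizer_of_le_centralizer c)
          (eq_bot_iff.2 fun g hg => f.kk (a hg.1).2 (b hg.2).2), a'.2, b'.2]
      exact f.maxE ez h b1 b2
  obtain ⟨n, r, d, e⟩ := f.d1
  obtain ⟨n', r', d', e'⟩ := f.d2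
  have B := fun k l => A _ (e.v4_le k) _ (e'.v4_le l) (e.v4 k) (e'.v4 l)
  have := (card_le_of_le (pair_le.2 ⟨mem_inf.2 ⟨e.comm ▸ commutator_mem_commutator
    (by simpa using B 0 0 (mem_sup_left (mem_pair_right _ _))) (B _ 0 (mem_sup_left (mem_pair_right _ _))), Z1⟩,
    mem_inf.2 ⟨e'.comm ▸ commutator_mem_commutator (by simpa using B 0 0 (mem_sup_right (mem_pair_right _ _)))
      (B 0 _ (mem_sup_right (mem_pair_right _ _))), Z2⟩⟩)).trans e1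
  rw [f.v4.2] at this
  omega

end F2

theorem jobN4b : JN4b.{u} := fun J _ _ _ _ _ _ _ _ _ _ _ _ _ _ _ k H f ez =>
  (f.tz1 ez).elim (f.fin ez J k H) fun h => f.shift.fin ez J k H (by rw [conj_conj, h, f.y2])

end H97.QU
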