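import Cfsg.Agent.H97.QULib3
import Cfsg.Agent.S2901

/-! Job JO1a of `blueprints/QU.md`. -/

set_option autoImplicit false
set_option linter.unusedSectionVars false

namespace H97.QU

open Subgroup Cfsg H98 H96.CG H96.H97.QU
open H52 (zc)
open scoped commutatorElement

universe u

variable {G : Type u} [Group G] [Finite G] {M T S K₁ K₂ W P : Subgroup G} {s : ℕ} {z₁ z₂ z t g j w : G}

theorem O0.one (o : O0 M T S K₁ K₂ s z₁ z₂ z t) (h : g ∈ S) (h1 : g ∈ cen K₁) (h2 : g ∈ cen K₂) : g = 1 :=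
  mem_bot.1 (o.qq.le ⟨⟨h, h1⟩, h2⟩)

theorem O0.z12 (o : O0 M T S K₁ K₂ s z₁ z₂ z t) : z₁ * z = z₂ := by rw [← o.ez, ← mul_assoc, o.f1.z2, one_mul]

theorem O0.swap (o : O0 M T S K₁ K₂ s z₁ z₂ z t) (h : j * t ∈ S) : cj j K₁ = K₂ := by
  rw [← o.k2, cj_cj, cj_eq_self (o.f2.nK h)]

theorem O0.swapz (o : O0 M T S K₁ K₂ s z₁ z₂ z t) (h : j * t ∈ S) : j * z₁ * j⁻¹ = z₂ := by
  rw [← o.t2, ← conj_conj, conj_fix (zcom o.f2.zP h)]

theorem O0.act (o : O0 M T S K₁ K₂ s z₁ z₂ z t) (h : g ∈ S ⊔ zpowers t) :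
    g * z₁ * g⁻¹ = z₁ ∨ g * z₁ * g⁻¹ = z₁ * z :=
  ((mem_sup_zp o.fc1.tS o.fc1.tt).1 h).imp (fun e => conj_fix (zcom o.f1.zP e)) fun e => (o.swapz e).trans o.z12.symm

theorem OC.mem_of (o : OC M T S K₁ K₂ s z₁ z₂ z t) (h : Commute g z)
    (e : g * z₁ * g⁻¹ = 1 ∨ g * z₁ * g⁻¹ = z₁ ∨ g * z₁ * g⁻¹ = z₂ ∨ g * z₁ * g⁻¹ = z) : g ∈ S ⊔ zpowers t := by
  have e2 : g * z₂ * g⁻¹ = g * z₁ * g⁻¹ * z := by rw [← o.z12, ← conj_mul, conj_fix h]
  rcases e with e | e | e | e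
  · exact (conj_ne g o.f1.z1 e).elim
  · exact mem_sup_left (o.co.le ⟨mem_cen1.2 (comm_of_fix e), mem_cen1.2 (comm_of_fix (by rw [e2, e, o.z12]))⟩)
  · exact o.fx g e (by rw [e2, e, o.symm.z12])
  · exact (o.fc2.nc (e ▸ isConj_conj g z₁)).elim

section
variable (o : OC M T S K₁ K₂ s z₁ z₂ z t) (c : K₁ ≤ cen K₂)
include o c

theorem OC.om (a : N4 S K₁ z₁) (b : N4 S K₂ z₂) (h1 : W ≤ S) (h2 : IsElementaryAbelian 2 W) (h3 : S ≤ nor W)
    (hw : w ∈ W) : w = 1 ∨ w = z₁ ∨ w = z₂ ∨ w = z := by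
  have c1 := c o.f1.zK
  have c2 := cen_symm c o.f2.zK
  have s1 := o.f1.zP.1
  have s2 := o.f2.zP.1
  rcases a.nea W h1 h2 h3 w hw with e | e <;> rcases b.nea W h1 h2 h3 w hw with e' | e'
  · exact .inl (o.one (h1 hw) e e')
  · exact .inr (.inr (.inl (eq_of_sq (o.one (mul_mem (h1 hw) s2) (mul_mem e c2) e') o.f2.z2)))
  · exact .inr (.inl (eq_of_sq (o.one (mul_mem (h1 hw) s1) e (mul_mem e' c1)) o.f1.z2))
  · refine .inr (.inr (.inr (eq_of_sq (o.one (mul_mem (h1 hw) (o.ez ▸ mul_mem s1 s2)) ?_ ?_) o.fc1.zt.z2)))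
    · rw [← o.ez, ← mul_assoc]; exact mul_mem e c2
    · rw [← o.ez', ← mul_assoc]; exact mul_mem e' c1

theorem OC.diag (h : j * t ∈ S) (jj : j * j = 1) : z ∈ res 2 (cen1 j) := by
  have := diag_res o.f1.res ((o.swap h).symm ▸ c) jj o.f1.zK
  rwa [o.swapz h, o.ez] at this

theorem OC.eqT (a : N4 S K₁ z₁) (b : N4 S K₂ z₂) : T = S ⊔ zpowers t := by
  have zt := o.fc1.zt
  have le : S ⊔ zpowers t ≤ T := sup_le zt.ST (zpowers_le.2 o.fc1.tT)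
  by_contra e
  obtain ⟨y, hy, yn⟩ := SetLike.exists_of_lt (lt_inf_normalizer zt.syl.isPGroup (le.lt_of_ne (Ne.symm e)))
  have yz := zcom zt.zT hy.1
  have f2 := conj_sq y o.f1.z2
  have hf := conj_mem_of_mem_normalizer hy.2 (mem_sup_left o.f1.zP.1)
  have act : ∀ g ∈ S, g * (y * z₁ * y⁻¹) * g⁻¹ = y * z₁ * y⁻¹ ∨ g * (y * z₁ * y⁻¹) * g⁻¹ = y * z₁ * y⁻¹ * z :=
    fun g hg => by
      have e : g * (y * z₁ * y⁻¹) * g⁻¹ = y * (y⁻¹ * g * y * z₁ * (y⁻¹ * g * y)⁻¹) * y⁻¹ := by group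
      refine (o.act (conj_mem_of_mem_normalizer' hy.2 (mem_sup_left hg))).imp (fun h => ?_) fun h => ?_
      · rw [e, h]
      · rw [e, h, ← conj_mul, conj_fix yz]
  have zS : z ∈ S := o.ez ▸ mul_mem o.f1.zP.1 o.f2.zP.1
  rcases (mem_sup_zp o.fc1.tS o.fc1.tt).1 hf with h | h
  · refine yn (o.mem_of yz (o.om c a b (pair_le.2 ⟨h, zS⟩) (ea_pair f2 zt.z2 (zcom zt.zT (zt.ST h)))
      (fun g hg => nor_pair ?_ ?_) (mem_pair_left _ _)))
    · rcases act g hg with e | e <;> rw [e]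
      exacts [mem_pair_left _ _, mul_mem (mem_pair_left _ _) (mem_pair_right _ _)]
    · rw [conj_fix (zcom zt.zT (zt.ST hg))]; exact mem_pair_right _ _
  obtain ⟨D, d1, d2⟩ := o.f1.toL4.exists_v4
  obtain ⟨v, v1, v2, v3⟩ := d2.exists_ne z₁
  have hv := conj_mem_cj (g := y * z₁ * y⁻¹) (d1 v1).2
  rw [o.swap h] at hv
  generalize y * z₁ * y⁻¹ = f at *
  rcases act v (d1 v1).1 with e | e
  · rw [conj_fix (comm_of_fix e).symm] at hv
    exact v2 (o.f2.eq_one hv (c (d1 v1).2))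
  · have : f * v * f⁻¹ = z * v := by
      rw [inv_of_sq f2, mul_assoc, mul_inv_eq_iff_eq_mul.1 e, ← mul_assoc, ← mul_assoc, f2, one_mul]
    rw [this, ← o.ez', mul_assoc] at hv
    exact v3 (eq_of_sq (o.f2.eq_one ((K₂.mul_mem_cancel_left o.f2.zK).1 hv) (c (mul_mem o.f1.zK (d1 v1).2)))
      (d2.sq v1)).symm

theorem OC.mem_S (hj : g * z₁ * g⁻¹ ∈ S ⊔ zpowers t) : g * z₁ * g⁻¹ ∈ S := by
  refine ((mem_sup_zp o.fc1.tS o.fc1.tt).1 hj).resolve_right fun h => ?_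
  have := o.diag c h (conj_sq g o.f1.z2)
  rw [← cj_cen1, ← cj_res, mem_cj] at this
  have e := conj_sq g⁻¹ o.fc1.zt.z2
  have e1 := conj_ne g⁻¹ o.fc1.zt.z1
  rw [inv_inv] at e e1
  obtain ⟨k, -, e⟩ := o.f2.one _ (o.rs2 this) e e1
  exact o.fc1.nc (isConj_iff.2 ⟨g * k, by rw [conj_conj, e]; group⟩)

theorem OC.cz (k : Kit M s) (a : N4 S K₁ z₁) (b : N4 S K₂ z₂) : cen1 z ≤ T := by
  have zt := o.fc1.zt
  have e := o.eqT c a b
  have TC : T ≤ cen1 z := fun g hg => mem_cen1.2 (zcom zt.zT hg)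
  have QT := (zt.syl.of_le TC le_top).pCoreOf_le
  have nz : cen1 z ≤ nor (zpowers z) := le_normalizer_of_le_centralizer (cen1_eq z).le
  have z1 := TC (zt.ST o.f1.zP.1)
  have V1 : ncl (cen1 z) (zpowers z₁) ≤ cen1 z := ncl_le_of_le (zpowers_le.2 z1)
  have V2 : ncl (cen1 z) (zpowers z₁) ≤ stab (pCoreOf 2 (cen1 z)) (zpowers z) :=
    ncl_le (zpowers_le.2 ⟨nz z1, fun q hq => by
      rcases o.act (e.le (QT hq)) with h | h <;> rw [commutatorElement_def, h]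
      · simp
      · rw [conj_fix (mem_cen1.1 z1)]; exact mem_zpowers z⟩)
      (le_normalizer_stab (self_le_normalizer_pCoreOf _) nz)
  have V3 : ncl (cen1 z) (zpowers z₁) ≤ T := (le_pCoreOf ((k.tc1 z zt.tc).isPGroup_of_quadratic V1
    (commutator_eq_bot_iff_le_centralizer.2 ((le_stab_iff.1 V2).2.trans (cen_symm (V1.trans (cen1_eq z).le)))))
    V1 (le_normalizer_ncl _ _)).trans QT
  have mem : ∀ g ∈ cen1 z, g * z₁ * g⁻¹ ∈ ncl (cen1 z) (zpowers z₁) := fun g hg =>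
    cj_le_ncl hg (conj_mem_cj (mem_zpowers z₁))
  have V4 : ncl (cen1 z) (zpowers z₁) ≤ S := ncl_le_iff.2 fun g hg => by
    rw [cj_zpowers, zpowers_le]; exact o.mem_S c (e.le (V3 (mem g hg)))
  have V5 := le_centralizer_ncl (V4.trans (o.fc2.syl.le.trans (cen1_eq z₁).le)) (le_normalizer_ncl (cen1 z) _)
  exact fun g hg => e.ge (o.mem_of (mem_cen1.1 hg) (o.om c a b ((oz_le _).trans V4) (ea_oz _)
    (le_normalizer_oz ((zt.ST.trans TC).trans (le_normalizer_ncl _ _)))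
    (mem_oz.2 ⟨mem g hg, V5 (mem g hg), (sq _).trans (conj_sq g o.f1.z2)⟩)))

theorem OC.fus (a : N4 S K₁ z₁) (b : N4 S K₂ z₂) (hj : j ∈ S) (h : IsConj z j) :
    ∃ k ∈ K₁ ⊔ K₂, k * z * k⁻¹ = j := by
  have tc := o.fc1.zt.tc.of_isConj h
  obtain ⟨u₁, h1, c₁, h1', e1⟩ := o.f1.rn o.d1 a hj tc.1 (o.fc1.rule j tc (zcom o.f2.zP hj))
  obtain ⟨u₂, h2, c₂, h2', e2⟩ := o.f2.rn o.d2 b hj tc.1 (o.fc2.rule j tc (zcom o.f1.zP hj))
  have cm : Commute u₂ u₁ := com (c h1.2) h2.2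
  have e : j = u₁ * u₂ := by
    have := o.one (g := (u₁ * u₂)⁻¹ * j) (mul_mem (inv_mem (mul_mem h1.1 h2.1)) hj)
      (by rw [e1, mul_inv_rev, mul_assoc, inv_mul_cancel_left]; exact mul_mem (inv_mem (cen_symm c h2.2)) h1')
      (by rw [e2, ← cm.eq, mul_inv_rev, mul_assoc, inv_mul_cancel_left]; exact mul_mem (inv_mem (c h1.2)) h2')
    exact (inv_mul_eq_one.1 this).symm
  have sq : u₁ * u₁ * (u₂ * u₂) = 1 := by rw [← cm.mul_mul_mul_comm, ← e, tc.1]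
  have q1 : u₁ * u₁ = 1 := o.f2.eq_one (by
    rw [eq_inv_of_mul_eq_one_left sq]; exact inv_mem (mul_mem h2.2 h2.2)) (c (mul_mem h1.2 h1.2))
  rw [q1, one_mul] at sq
  have n1 : u₁ ≠ 1 := fun e' => by
    rw [e', one_mul] at e
    obtain ⟨k, -, e'⟩ := o.f2.one j (e ▸ h2.2) tc.1 tc.2.1
    exact o.fc1.nc ((e' ▸ isConj_conj k z₂).trans h.symm)
  have n2 : u₂ ≠ 1 := fun e' => by
    rw [e', mul_one] at e
    obtain ⟨k, -, e'⟩ := o.f1.one j (e ▸ h1.2) tc.1 tc.2.1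
    exact o.fc2.nc ((e' ▸ isConj_conj k z₁).trans h.symm)
  obtain ⟨k₁, k1, rfl⟩ := o.f1.one u₁ h1.2 q1 n1
  obtain ⟨k₂, k2, rfl⟩ := o.f2.one u₂ h2.2 sq n2
  refine ⟨k₁ * k₂, mul_mem_sup k1 k2, ?_⟩
  rw [e, ← o.ez, conj_conj, conj_dist k₂, conj_fix (com (c o.f1.zK) k2), conj_dist k₁,
    conj_fix (com (c k1) h2.2).symm]

theorem OC.not_simple (h : P = nor (K₁ ⊔ K₂)) : ¬ IsSimpleGroup P := fun _ => by
  have le : K₁ ⊔ K₂ ≤ P := h ▸ le_normalizer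
  have e := (simple_or h.le).resolve_left fun e => o.f1.z1 (mem_bot.1 (e.le
    ⟨mem_sup_left o.f1.zK, le (mem_sup_left o.f1.zK)⟩))
  rcases simple_or (e.trans (sup_le le_normalizer (le_normalizer_of_le_centralizer (cen_symm c)))) with e' | e'
  · exact o.f1.z1 (mem_bot.1 (e'.le ⟨o.f1.zK, le (mem_sup_left o.f1.zK)⟩))
  · exact o.f2.z1 (o.f2.eq_one o.f2.zK (c (e' (le (mem_sup_right o.f2.zK)))))

end

theorem jobO1a : JO1a.{u} := by
  intro G _ _ M T S K₁ K₂ s z₁ z₂ z t k o c a b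
  have := k.simple
  have zt := o.fc1.zt
  have e := o.eqT c a b
  have cz := o.cz c k a b
  have TP : T ≤ nor (K₁ ⊔ K₂) := e.le.trans (sup_le (le_normalizer_sup o.f1.nK o.f2.nK)
    (zpowers_le.2 (cj_eq_self_iff.1 (by rw [cj_sup, o.k1, o.k2, sup_comm]))))
  have KP : K₁ ≤ nor (K₁ ⊔ K₂) := le_normalizer_of_le le_sup_left
  have fus : ∀ g, g * z * g⁻¹ ∈ nor (K₁ ⊔ K₂) → ∃ h ∈ nor (K₁ ⊔ K₂), h * z * h⁻¹ = g * z * g⁻¹ := fun g hg => by
    obtain ⟨p, hp, h⟩ := (zt.syl.of_le TP le_top).exists_cj_le (two_zpowers (conj_sq g zt.z2)) (zpowers_le.2 hg)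
    rw [cj_zpowers, zpowers_le, ← conj_conj, e] at h
    obtain ⟨q, hq, h⟩ := o.fus c a b (((mem_sup_zp o.fc1.tS o.fc1.tt).1 h).resolve_right fun h => by
      have := o.diag c h (conj_sq _ zt.z2)
      rw [← cj_cen1, res_eq_bot_of_isPGroup (isPGroup_cj _ (zt.syl.isPGroup.to_le cz))] at this
      exact zt.z1 this) (isConj_conj _ z)
    exact ⟨p⁻¹ * q, mul_mem (inv_mem hp) (le_normalizer hq), by rw [conj_conj, h]; group⟩
  rcases Cfsg.Agent.S2901.result k.nab (nor (K₁ ⊔ K₂))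
    (fun h => o.not_simple c h.symm topEquiv.isSimpleGroup) z (TP zt.zT.1)
    ⟨orderOf_eq_prime ((sq z).trans zt.z2) zt.z1, zt.syl.toSylowTop, zt.zT.1, fun x hx => (zcom zt.zT hx).eq⟩
    (cz.trans TP) fus with ⟨-, Q, h⟩ | ⟨n, hn, -, ⟨h⟩⟩
  · have := (isSyl_sylow Q).le_of_le_normalizer' zt.syl.isPGroup le_top (TP.trans h.le)
    exact o.f1.z1 (o.f1.eq_one o.f1.zK (quasi_two_le_cen o.f1.quasi Q.isPGroup' (KP.trans h.le)
      ⟨this (zt.ST o.f1.zP.1), o.f1.zK⟩))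
  · rcases hn.eq_or_lt with rfl | hn
    · obtain ⟨m, r, d, d1⟩ := o.d1
      have h1 := card_dvd_of_le (d1.le.trans KP)
      have h2 := two_mul_nat_card_alternatingGroup (α := Fin (5 - 1))
      rw [d1.card, Nat.card_congr h.toEquiv] at h1
      rw [Nat.card_perm, Nat.card_fin] at h2
      have h3 := (pow_dvd_pow 2 (Nat.succ_le_succ d1.two)).trans h1
      norm_num [Nat.factorial] at h2 h3
      omega
    · have := alternatingGroup.isSimpleGroup (α := Fin (n - 1)) (by rw [Nat.card_fin]; omega)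
      exact o.not_simple c rfl h.isSimpleGroup

end H97.QU
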