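import Cfsg.Agent.H97.QUFr

/-! Jobs JO1c and JO1n of `blueprints/QU.md`. -/

set_option autoImplicit false
set_option linter.unusedSectionVars false

namespace H97.QU

open Subgroup Cfsg H98 H96.CG
open H52 (zc)
open scoped commutatorElement

universe u

variable {G : Type u} [Group G] [Finite G] {M T S P K K₁ K₂ C D H Y : Subgroup G} {s : ℕ} {z₀ z₁ z₂ z t x : G}

theorem odd_of_coprime (h : (orderOf x).Coprime 2) : Odd (orderOf x) := Nat.coprime_two_right.1 h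

/-- a group of characteristic two with a normal subgroup of odd order containing the residual -/
theorem two_of_res_le (h : CharP 2 C) (hS : IsSyl 2 ⊥ D) (h1 : res 2 C ≤ D) : IsPGroup 2 C := by
  have h2 : CharP 2 (res 2 C) := h.subN (SubN.refl C).res
  refine res_eq_bot_iff.1 (by_contra fun e => h2.pCoreOf_ne_bot e ?_)
  exact hS.eq_of_le (isPGroup_pCoreOf _) bot_le ((pCoreOf_le _).trans h1)

/-- the Frattini argument for a group whose elements of odd order centralizing `K` are trivial -/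
theorem F4.frattini (f : F4 M S K z₀) (hS : IsSyl 2 S H) (h1 : K ≤ H) (h2 : H ≤ nor K)
    (h : IsPGroup 2 ↥(H ⊓ cen K)) : H = K ⊔ S := by
  have e : H ⊓ nor (S ⊓ K) = S := hS.eq_of_le (isPGroup_of_res_le h (res_le_of_forall fun x hx e =>
    ⟨hx.1, f.odd x ⟨h2 hx.1, hx.2⟩ (odd_of_coprime e)⟩)) (le_inf hS.le f.nU) inf_le_left
  rw [← f.syl.frattini h1 h2, e, sup_comm]

theorem O0.ci (o : O0 M T S K₁ K₂ s z₁ z₂ z t) (d2 : IsDih K₂ (S ⊓ K₂) z₂) : cen1 z₂ = K₁ ⊔ S := by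
  obtain ⟨n, r, d, d2⟩ := d2
  refine o.f1.frattini o.fc1.syl o.fc1.tr.cf.comp.1 o.n1 (two_of_res_le (D := cen1 z₂ ⊓ (cen K₁ ⊓ cen K₂)) o.ch1 ?_
    (res_le_of_forall fun x hx e => ⟨hx.1, hx.2, o.f2.odd x ⟨?_, ?_⟩ (odd_of_coprime e)⟩))
  · have := o.fc1.syl.inf_of_le_normalizer (N := cen1 z₂ ⊓ (cen K₁ ⊓ cen K₂)) inf_le_left
      (le_normalizer_inf (le_normalizer_of_le o.fc1.syl.le) (le_normalizer_inf
        (le_normalizer_centralizer o.f1.nK) (le_normalizer_centralizer o.f2.nK)))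
    rwa [← inf_assoc, inf_of_le_left o.fc1.syl.le, ← inf_assoc, o.qq] at this
  · exact o.n2 (mem_cen1.2 (com hx.2 o.f1.zK).symm)
  · rw [← d2.cz]
    exact le_normalizer_inf (zpowers_le.2 (o.n2 (mem_cen1.2 (com hx.2 o.f1.zK).symm)))
      (le_normalizer_of_le (zpowers_le.2 hx.1)) (mem_zpowers x)

theorem jobO1c : JO1c.{u} := by
  intro G _ _ M T S K₁ K₂ s z₁ z₂ z t _ o d1 d2
  have co : cen1 z₁ ⊓ cen1 z₂ = S := by
    obtain ⟨n, r, d, e⟩ := d1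
    rw [o.ci d2, inf_comm, sup_comm, sup_inf_of_le_left o.f1.nK o.fc2.syl.le, e.cz, sup_of_le_left inf_le_left]
  refine ⟨o, d1, d2, o.ci d2, o.symm.ci d1, ?_, ?_, co, fun g h1 h2 => (mem_sup_zp o.fc1.tS o.fc1.tt).2 (.inr (co.le
    ⟨mem_cen1.2 (mul_inv_eq_iff_eq_mul.1 ?_), mem_cen1.2 (mul_inv_eq_iff_eq_mul.1 ?_)⟩))⟩
  · rw [o.ci d2, sup_comm]; exact res_sup_le_right o.f1.two o.f1.nK
  · rw [o.symm.ci d1, sup_comm]; exact res_sup_le_right o.f2.two o.f2.nK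
  · rw [show g * t * z₁ * (g * t)⁻¹ = g * (t * z₁ * t⁻¹) * g⁻¹ by group, o.t1, h2]
  · rw [show g * t * z₂ * (g * t)⁻¹ = g * (t * z₂ * t⁻¹) * g⁻¹ by group, o.t2, h1]

/-- an element of `U` normalizing but not centralizing the four-group `D` -/
theorem F4.exists_tau (f : F4 M P K z₀) (h1 : D ≤ P ⊓ K) (h2 : V4 D) : ∃ τ ∈ P ⊓ K, τ ∈ nor D ∧ τ ∉ D := by
  have : D < P ⊓ K := h1.lt_of_ne fun e => f.nnD D h1 h2 (e ▸ f.nU)
  obtain ⟨τ, h, h'⟩ := SetLike.exists_of_lt (lt_inf_normalizer f.syl.isPGroup this)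
  exact ⟨τ, h.1, h.2, h'⟩

/-- an element fixing `a` and normalizing the four-group acts like `1` or like `τ` -/
theorem V4.fix_or (h : V4 D) {a g τ : G} (ha : a ∈ D) (a1 : a ≠ 1) (hg : g ∈ nor D) (hτ : τ ∈ nor D)
    (e1 : g * a * g⁻¹ = a) (e2 : τ * a * τ⁻¹ = a) (hc : τ ∉ cen D) : g ∈ cen D ∨ g * τ ∈ cen D := by
  obtain ⟨b, hb, b1, ba⟩ := h.exists_ne a
  have key : ∀ g ∈ nor D, g * a * g⁻¹ = a → g * b * g⁻¹ = b ∨ g * b * g⁻¹ = a * b := fun g hg e => by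
    rcases h.cases ha hb a1 b1 ba.symm (conj_mem_of_mem_normalizer hg hb) with e' | e' | e' | e'
    exacts [(b1 (by simpa using e')).elim, (ba (by simpa using e'.trans e.symm)).elim, .inl e', .inr e']
  have cent : ∀ g, g * a * g⁻¹ = a → g * b * g⁻¹ = b → g ∈ cen D := fun g e e' => mem_cen.2 fun y hy => by
    have ca : Commute a g := (mul_inv_eq_iff_eq_mul.1 e).symm
    have cb : Commute b g := (mul_inv_eq_iff_eq_mul.1 e').symm
    rcases h.cases ha hb a1 b1 ba.symm hy with rfl | rfl | rfl | rfl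
    exacts [Commute.one_left _, ca, cb, ca.mul_left cb]
  have e3 := (key τ hτ e2).resolve_left fun e => hc (cent τ e2 e)
  refine (key g hg e1).imp (cent g e1) fun e => cent _ ?_ ?_
  · rw [show g * τ * a * (g * τ)⁻¹ = g * (τ * a * τ⁻¹) * g⁻¹ by group, e2, e1]
  · rw [show g * τ * b * (g * τ)⁻¹ = g * (τ * b * τ⁻¹) * g⁻¹ by group, e3, ← conj_mul, e1, e, ← mul_assoc,
      h.sq ha, one_mul]

/-- a power of the element of order three moves `b` back to `a` -/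
theorem V4.exists_back (h : V4 D) (hx : x ∈ nor D) (h3 : orderOf x = 3) (hc : x ∉ cen D) {a b : G} (ha : a ∈ D)
    (a1 : a ≠ 1) (hb : b ∈ D) (b1 : b ≠ 1) : ∃ y ∈ zpowers x, y * a * y⁻¹ = b := by
  obtain ⟨h1, h2⟩ := h.rot hx h3 hc ha a1
  rcases h.cases (conj_mem_of_mem_normalizer hx ha) ha (by simpa using a1) a1 h1 hb with e | e | e | e
  · exact (b1 e).elim
  · exact ⟨x, mem_zpowers x, e.symm⟩
  · exact ⟨1, one_mem _, by simp [e]⟩
  · exact ⟨x * x, mul_mem (mem_zpowers x) (mem_zpowers x), by rw [e, ← h2]; group⟩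

theorem F4.not_cen (f : F4 M P K z₀) (h1 : D ≤ K) (h2 : V4 D) (hx : x ∈ K) (h3 : orderOf x = 3) : x ∉ cen D :=
  fun e => by
    have := orderOf_dvd_of_pow_eq_one ((sq x).trans (h2.sq (f.cD D h1 h2 ⟨hx, e⟩)))
    rw [h3] at this
    omega

/-- `N_K(D)` is generated by `N_U(D)` and an element of order three -/
theorem F4.nor_le (f : F4 M P K z₀) (h1 : D ≤ P ⊓ K) (h2 : V4 D) (hx : x ∈ K ⊓ nor D) (h3 : orderOf x = 3)
    (hY : P ⊓ K ⊓ nor D ≤ Y) (hxY : x ∈ Y) : K ⊓ nor D ≤ Y := by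
  intro g hg
  have hz := f.z_mem h1 h2
  have DK := h1.trans inf_le_right
  obtain ⟨τ, t1, t2, t3⟩ := f.exists_tau h1 h2
  obtain ⟨y, hy, e⟩ := h2.exists_back hx.2 h3 (f.not_cen DK h2 hx.1 h3) (conj_mem_of_mem_normalizer hg.2 hz)
    (by simpa using f.z1) hz f.z1
  have y1 : y ∈ K ⊓ nor D := zpowers_le.2 hx hy
  have DY : D ≤ Y := (le_inf h1 le_normalizer).trans hY
  refine (Y.mul_mem_cancel_left (zpowers_le.2 hxY hy)).1 ?_
  rcases h2.fix_or hz f.z1 (mul_mem y1.2 hg.2) t2 (by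
    rw [show y * g * z₀ * (y * g)⁻¹ = y * (g * z₀ * g⁻¹) * y⁻¹ by group, e]) (by
    rw [(zcom f.zP t1.1).eq, mul_inv_cancel_right]) (fun e => t3 (f.cD D DK h2 ⟨t1.2, e⟩)) with e' | e'
  · exact DY (f.cD D DK h2 ⟨mul_mem y1.1 hg.1, e'⟩)
  · exact (Y.mul_mem_cancel_right (hY ⟨t1, t2⟩)).1 (DY (f.cD D DK h2 ⟨mul_mem (mul_mem y1.1 hg.1) t1.2, e'⟩))

theorem O0.comp_nor (o : O0 M T S K₁ K₂ s z₁ z₂ z t) (h : ∀ d ∈ S ⊓ K₁, d * d = 1 → d ∈ cen K₂) (h1 : D ≤ S ⊓ K₁)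
    (h2 : V4 D) : K₂ ≤ cen D ∧ IsComponentOf K₂ (nor D) :=
  have e : K₂ ≤ cen D := cen_symm fun d hd => h d (h1 hd) (h2.sq hd)
  ⟨e, IsComponentOf.nor_of_cen o.fc2.tr.cf.comp e fun _ hx => mem_cen1.2 (com hx (o.f1.z_mem h1 h2)).symm⟩

theorem O0.le_nor (k : Kit M s) (o : O0 M T S K₁ K₂ s z₁ z₂ z t) (h : ∀ d ∈ S ⊓ K₁, d * d = 1 → d ∈ cen K₂) :
    K₁ ≤ nor K₂ := by
  refine o.f1.gen _ (inf_le_right.trans o.n2) fun D h1 h2 => ?_
  obtain ⟨x, hx, h3⟩ := o.f1.xD D (h1.trans inf_le_right) h2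
  exact o.f1.nor_le h1 h2 hx h3 ((inf_le_left.trans inf_le_left).trans o.f2.nK)
    (k.odd_nor (core_nor_ne h2.two h2.ne_bot) (o.comp_nor h h1 h2).2 hx.2 (by rw [h3]; decide))

theorem jobO1n : JO1n.{u} := by
  intro G _ _ M T S K₁ K₂ s z₁ z₂ z t k o h
  have h' : ∀ d ∈ S ⊓ K₂, d * d = 1 → d ∈ cen K₁ := fun d hd d2 => by
    rw [← conj_mem_cj_iff (g := t), cj_cen, o.k1]
    exact h _ ⟨conj_mem_of_mem_normalizer o.fc1.tS hd.1, o.k2 ▸ conj_mem_cj hd.2⟩ (by rw [conj_mul, d2]; simp)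
  have n1 := o.le_nor k h
  have n2 := o.symm.le_nor k h'
  have c : K₁ ≤ cen K₂ := commutator_eq_bot_iff_le_centralizer.1 (eq_bot_iff.2 ((le_inf (commutator_le_left' n2)
    (commutator_le_right' n1)).trans ((o.f1.eq_or inf_le_left (le_normalizer_inf le_normalizer n1)).resolve_right
      fun e => o.f1.z1 (mem_bot.1 (o.ui.le ⟨o.f1.zU, (e.ge o.f1.zK).2⟩))).le))
  have key : ∀ {K₁ K₂ z₁ z₂}, O0 M T S K₁ K₂ s z₁ z₂ z t → K₁ ≤ cen K₂ → ¬ E9 K₂ := by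
    rintro K₁ K₂ z₁ z₂ o c ⟨E, h1, h2, h3⟩
    obtain ⟨D, d1, d2⟩ := o.f1.toL4.exists_v4
    obtain ⟨x, hx, x3⟩ := o.f1.xD D (d1.trans inf_le_right) d2
    refine k.no_rank3 d2.two d2.ne_bot h2 h3 x3 (centralizer_anti h1 (c hx.1)) (fun e => ?_)
      (le_normalizer_of_le_centralizer (h1.trans (cen_symm ((d1.trans inf_le_right).trans c)))) hx.2
    rw [o.f2.eq_one (h1 e) (c hx.1), orderOf_one] at x3
    omega
  exact ⟨c, key o.symm (cen_symm c), key o c⟩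

end H97.QU
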