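import Cfsg.Agent.H97.QUO2n

/-! Job JO2m of `blueprints/QU.md`. -/

set_option autoImplicit false
set_option linter.unusedSectionVars false

namespace H97.QU

open Subgroup Cfsg H98 H96 H96.CG
open H52 (zc)
open scoped commutatorElement

universe u

variable {G : Type u} [Group G] [Finite G] {M T S P K U D D' E : Subgroup G} {s n : ℕ} {i z t z₀ g x a b c r d α β : G}

namespace M4
variable (m : M4 P K z₀ D D' α)
include m

theorem shift (h : β ∈ P) (e : β * α ∈ cen K) (n : P ≤ nor K) : M4 P K z₀ D D' β :=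
  have e1 : β = β * α * (α * α)⁻¹ * α := by group
  have e2 : β * α * (α * α)⁻¹ ∈ cen K := mul_mem e (inv_mem m.aa)
  have nα := le_normalizer_centralizer n m.aP
  { m with
    aP := h
    a1 := e1 ▸ mul_mem (centralizer_anti inf_le_left e2) m.a1
    a2 := by rw [e1, mul_assoc]; exact mul_mem (centralizer_anti inf_le_left e2) m.a2
    aa := by
      rw [show β * β = β * α * (α⁻¹ * (β * α * (α * α)⁻¹) * α) by group]
      exact mul_mem e (conj_mem_of_mem_normalizer' nα e2)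
    nD := fun y hy => (m.nD y hy).imp fun u hu => ⟨hu.1, hu.2.imp_right fun h => by
      rw [show y * u * β = y * u * α * (α⁻¹ * (β * α * (α * α)⁻¹) * α) by group]
      exact mul_mem h (conj_mem_of_mem_normalizer' nα e2)⟩ }

theorem U8 : D ⊔ D' ≤ P ⊓ K := sup_le m.le m.le'

theorem n8 : D ⊔ D' ≤ K ⊓ nor D := le_inf (m.U8.trans inf_le_right) (sup_le le_normalizer m.n1)

theorem n8' : D ⊔ D' ≤ K ⊓ nor D' := le_inf (m.U8.trans inf_le_right) (sup_le m.n2 le_normalizer)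

theorem a8 : α ∈ cen (D ⊔ D') := centralizer_anti m.n8 m.a1

theorem inter (z1 : z₀ ≠ 1) (h1 : a ∈ D) (h2 : a ∈ D') : a = 1 ∨ a = z₀ := by
  by_contra! h
  exact m.ne ((m.v.eq_pair m.zD h1 z1 h.1 h.2.symm).trans (m.v'.eq_pair m.zD' h2 z1 h.1 h.2.symm).symm)

variable (f : F4 M P K z₀)
include f

theorem nn (hg : g ∈ P) (h : g ∈ nor D) : g ∈ nor D' := cj_eq_self_iff.1 ((m.cj_or f.nK hg).elim (·.2) fun e =>
  (m.ne ((cj_eq_self h).symm.trans e.1)).elim)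

theorem swap (hg : g ∈ P) (h : g ∉ nor D) : cj g D = D' ∧ cj g D' = D :=
  (m.cj_or f.nK hg).resolve_left fun e => h (cj_eq_self_iff.1 e.1)

theorem cen8 (ha : a ∈ K) (h : a ∈ cen (D ⊔ D')) : a = 1 ∨ a = z₀ :=
  m.inter f.z1 (f.cD D (m.le.trans inf_le_right) m.v ⟨ha, centralizer_anti le_sup_left h⟩)
    (f.cD D' (m.le'.trans inf_le_right) m.v' ⟨ha, centralizer_anti le_sup_right h⟩)

theorem zN : z₀ ∉ cen (K ⊓ nor D) := fun h => by
  obtain ⟨x, hx, x3⟩ := f.xD D (m.le.trans inf_le_right) m.v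
  exact (m.v.rot hx.2 x3 (f.not_cen (m.le.trans inf_le_right) m.v hx.1 x3) m.zD f.z1).1 (conj_fix (CG.com h hx))

theorem aC : α ∉ cen K := fun h => (m.symm' f.toB4).zN f
  ((mul_mem_cancel_left (centralizer_anti inf_le_left h)).1 m.a2)

theorem exD : ∃ d ∈ D, d ∉ cen D' := by
  obtain ⟨d, h, d1, dz⟩ := m.v.exists_ne z₀
  exact ⟨d, h, fun e => (m.inter f.z1 h (f.cD D' (m.le'.trans inf_le_right) m.v' ⟨(m.le h).2, e⟩)).elim d1 dz⟩

/-- an element normalizing `D` is an element of `D D'` times an element centralizing `D D'` -/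
theorem dec (hg : g ∈ P ⊓ nor D) : ∃ u ∈ D ⊔ D', g * u ∈ P ⊓ cen (D ⊔ D') := by
  obtain ⟨u, hu, h⟩ := m.nD g hg
  have c : cen K ≤ cen (D ⊔ D') := centralizer_anti (m.U8.trans inf_le_right)
  exact ⟨u, hu, mul_mem hg.1 (m.U8 hu).1, h.elim (c ·) fun h => (mul_mem_cancel_right m.a8).1 (c h)⟩

theorem memY (hg : g ∈ P ⊓ cen (D ⊔ D')) : g ∈ cen K ∨ g * z₀ ∈ cen K ∨ g * α ∈ cen K ∨ g * z₀ * α ∈ cen K := by
  obtain ⟨u, hu, h⟩ := m.nD g ⟨hg.1, centralizer_le_normalizer _ (centralizer_anti le_sup_left hg.2)⟩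
  have c : cen K ≤ cen (D ⊔ D') := centralizer_anti (m.U8.trans inf_le_right)
  rcases m.cen8 f (m.U8 hu).2 (((cen _).mul_mem_cancel_left hg.2).1 (h.elim (c ·) fun h =>
    (mul_mem_cancel_right m.a8).1 (c h))) with rfl | rfl
  · rw [mul_one] at h; tauto
  · tauto

/-- an element interchanging `D` and `D'` does not commute with an element acting like `α` or `α z₀` -/
theorem fixY (hg : g ∈ P) (h : g ∉ nor D) (hc : c ∈ P ⊓ cen (D ⊔ D')) (e : Commute g c) : c ∈ cen K ∨ c * z₀ ∈ cen K := by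
  obtain ⟨s1, s2⟩ := m.swap f hg h
  have tr : ∀ {F F'}, cj g F = F' → c ∈ cen (K ⊓ nor F) → c ∈ cen (K ⊓ nor F') := fun e' h => by
    have := conj_mem_cj (g := g) h
    rwa [conj_fix e, cj_cen, cj_inf, cj_nor, e', cj_eq_self (f.nK hg)] at this
  rcases m.memY f hc with h | h | h | h
  · exact .inl h
  · exact .inr h
  · have := (mul_mem_cancel_right m.a1).1 (centralizer_anti inf_le_left h)
    exact .inl (m.cc c hc.1 this (tr s1 this))
  · rw [mul_assoc, ← (zcom f.zP m.aP).eq] at h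
    have := (mul_mem_cancel_right m.a2).1 (centralizer_anti inf_le_left h)
    exact .inl (m.cc c hc.1 (tr s2 this) this)

theorem rel1 : (P ⊓ cen (D ⊔ D')).relIndex (P ⊓ cen D) = 2 := by
  obtain ⟨d, h1, h2⟩ := m.exD f
  refine rel_two ⟨(m.le h1).1, m.v.le_cen h1⟩ (fun e => h2 (centralizer_anti le_sup_right e.2)) fun b hb => ?_
  refine (m.v'.fix_or m.zD' f.z1 (m.nn f hb.1 (centralizer_le_normalizer _ hb.2)) (m.n2 h1) (conj_fix (zcom f.zP hb.1))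
    (conj_fix (zcom f.zP (m.le h1).1)) h2).imp (fun e => ⟨hb.1, (cen_sup _ _).ge ⟨hb.2, e⟩⟩) fun e =>
      ⟨mul_mem hb.1 (m.le h1).1, (cen_sup _ _).ge ⟨mul_mem hb.2 (m.v.le_cen h1), e⟩⟩

theorem rel2 : (P ⊓ cen D).relIndex (P ⊓ nor D) = 2 := by
  obtain ⟨d, h1, h2⟩ := (m.symm' f.toB4).exD f
  exact rel_two ⟨(m.le' h1).1, m.n1 h1⟩ (fun e => h2 e.2) fun b hb => (m.v.fix_or m.zD f.z1 hb.2 (m.n1 h1)
    (conj_fix (zcom f.zP hb.1)) (conj_fix (zcom f.zP (m.le' h1).1)) h2).imp (fun e => ⟨hb.1, e⟩) fun e =>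
      ⟨mul_mem hb.1 (m.le' h1).1, e⟩

theorem two (hg : g ∈ P) (ha : a ∈ P) (h1 : g ∉ nor D) (h2 : a ∉ nor D) : g * a ∈ nor D :=
  cj_eq_self_iff.1 (by rw [← cj_cj, (m.swap f ha h2).1, (m.swap f hg h1).2])

theorem rel3 : (P ⊓ nor D).relIndex P = 2 := by
  obtain ⟨y, h1, h2, -⟩ := m.sw
  have yn : y ∉ nor D := fun e => m.ne ((cj_eq_self e).symm.trans h2)
  exact rel_two h1 (fun e => yn e.2) fun b hb => or_iff_not_imp_left.2 fun e =>
    ⟨mul_mem hb h1, m.two f hb h1 (fun e' => e ⟨hb, e'⟩) yn⟩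

theorem out : ¬ K ⊓ nor D ≤ M := fun h => by
  obtain ⟨F, h1, h2, h3⟩ := f.exists_out
  rcases m.v4 F h1 h2 with rfl | rfl
  · exact h3 h
  obtain ⟨y, y1, y2, -⟩ := m.sw
  exact h3 (by rw [← y2, ← cj_nor, ← cj_eq_self (f.nK y1), ← cj_inf]; exact cj_le_of_le_of_mem h (f.PM y1))

variable (hY : ∀ y ∈ P ⊓ cen (D ⊔ D'), y * y = 1)
include hY

theorem invol (hg : g ∈ P ⊓ nor D) (gg : g * g = 1) : g ∈ P ⊓ cen D ∨ g ∈ P ⊓ cen D' := by
  obtain ⟨u, hu, h⟩ := m.dec f hg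
  have c := CG.com h.2 hu
  have uu : u * u = 1 := by
    have := hY _ h
    rwa [mul_assoc g u, c.eq, ← mul_assoc, ← mul_assoc, gg, one_mul] at this
  exact (m.inv u (m.U8 hu) uu).imp
    (fun e => ⟨hg.1, (mul_mem_cancel_right (m.v.le_cen e)).1 (centralizer_anti le_sup_left h.2)⟩)
    fun e => ⟨hg.1, (mul_mem_cancel_right (m.v'.le_cen e)).1 (centralizer_anti le_sup_right h.2)⟩

theorem eaA : IsElementaryAbelian 2 (P ⊓ cen D) := ea_of_sq fun g hg => by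
  obtain ⟨u, hu, h⟩ := m.dec f ⟨hg.1, centralizer_le_normalizer _ hg.2⟩
  have uD := f.cD D (m.le.trans inf_le_right) m.v ⟨(m.U8 hu).2,
    ((cen _).mul_mem_cancel_left hg.2).1 (centralizer_anti le_sup_left h.2)⟩
  have := hY _ h
  rwa [(CG.com hg.2 uD).mul_mul_mul_comm, m.v.sq uD, mul_one] at this

theorem cardA : Nat.card ↥(P ⊓ cen D) = 2 * Nat.card ↥(P ⊓ cen (D ⊔ D')) := by
  rw [← rel_mul_card (inf_le_inf_left _ (centralizer_anti le_sup_left)), m.rel1 f]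

theorem ea_or (h1 : E ≤ P ⊓ nor D) (h2 : IsElementaryAbelian 2 E) : E ≤ P ⊓ cen D ∨ E ≤ P ⊓ cen D' :=
  le_or_le fun _ hg => m.invol f hY (h1 hg) (ea_sq h2 hg)

theorem cardA' : Nat.card ↥(P ⊓ cen D') = Nat.card ↥(P ⊓ cen D) := by
  rw [m.cardA f hY, (m.symm' f.toB4).cardA f (sup_comm D D' ▸ hY), sup_comm]

theorem ea_eq (h1 : E ≤ P ⊓ nor D) (h2 : IsElementaryAbelian 2 E) (h3 : Nat.card ↥(P ⊓ cen D) ≤ Nat.card E) :
    E = P ⊓ cen D ∨ E = P ⊓ cen D' :=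
  (m.ea_or f hY h1 h2).imp (eq_of_le_of_card_ge · h3) (eq_of_le_of_card_ge · (m.cardA' f hY ▸ h3))

theorem ea_le (h1 : E ≤ P) (h2 : IsElementaryAbelian 2 E) (h3 : Nat.card ↥(P ⊓ cen D) ≤ Nat.card E) :
    E ≤ P ⊓ nor D := by
  by_contra h
  obtain ⟨e, e1, e2⟩ := SetLike.not_le_iff_exists.1 h
  have en : e ∉ nor D := fun h => e2 ⟨h1 e1, h⟩
  obtain ⟨s1, s2⟩ := m.swap f (h1 e1) en
  have a := card_le_two (m.rel3 f) h1
  have l : P ⊓ nor D ⊓ E ≤ P ⊓ cen (D ⊔ D') := fun g hg => by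
    have tr : ∀ {F F'}, cj e F = F' → g ∈ cen F → g ∈ cen F' := fun e' h => by
      have := conj_mem_cj (g := e) h
      rwa [conj_fix (ea_com h2 e1 hg.2), cj_cen, e'] at this
    exact ⟨hg.1.1, (cen_sup _ _).ge ((m.invol f hY hg.1 (ea_sq h2 hg.2)).elim (fun h => ⟨h.2, tr s1 h.2⟩)
      fun h => ⟨tr s2 h.2, h.2⟩)⟩
  have b := two_mul_card_le (l.lt_of_ne fun h => by
    have hα : α ∈ P ⊓ cen (D ⊔ D') := ⟨m.aP, m.a8⟩
    exact (m.fixY f (h1 e1) en hα (ea_com h2 e1 (h.ge hα).2)).elim (m.aC f) ((m.symm' f.toB4).aC f))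
  have := m.cardA f hY
  have : 0 < Nat.card ↥(P ⊓ cen (D ⊔ D')) := Nat.card_pos
  omega

end M4

namespace F1
variable (f : F1 M T S K s i z t z)
include f

theorem shift (hg : g ∈ S) : F1 M T S K s i z (g * t) z :=
  { f with
    tT := mul_mem (f.zt.ST hg) f.tT
    tS := mul_mem (le_normalizer hg) f.tS
    tn := fun h => f.tn ((mul_mem_cancel_left hg).1 h)
    tt := by
      rw [show g * t * (g * t) = g * (t * g * t⁻¹) * (t * t) by group]
      exact mul_mem (mul_mem hg (conj_mem_of_mem_normalizer f.tS hg)) f.tt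
    nT := f.nT.trans (sup_le le_sup_left (zpowers_le.2 ((mul_mem_cancel_left (mem_sup_left hg)).1
      (mem_sup_right (mem_zpowers _)))))
    ti := by rw [conj_conj, f.ti, conj_dist, conj_fix (zcom f.tr.iS hg), conj_fix (zcom f.f4.zP hg)]
    qq := by rw [← cj_cj, cj_eq_self (f.nt f.nQ hg), f.qq] }

variable (m : M4 S K z D D' α)
include m

theorem caseA (k : Kt M s) (hY : ∀ y ∈ S ⊓ cen (D ⊔ D'), y * y = 1) (tA : t ∈ nor (S ⊓ cen D)) : False := by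
  have m' := m.symm' f.f4.toB4
  have eP : S ⊓ nor D = S ⊓ nor (S ⊓ cen D) := le_antisymm (le_inf inf_le_left (le_normalizer_inf
    (le_normalizer_of_le inf_le_left) (le_normalizer_centralizer inf_le_right))) fun g hg => ⟨hg.1, by_contra fun h => by
      obtain ⟨d, d1, d2⟩ := m.exD f.f4
      have := conj_mem_cj (g := g) (show d ∈ S ⊓ cen D from ⟨(m.le d1).1, m.v.le_cen d1⟩)
      rw [cj_eq_self hg.2, ← (m.swap f.f4 hg.1 h).2, ← cj_cen] at this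
      exact d2 (conj_mem_cj_iff.1 this.2)⟩
  have tP : t ∈ nor (S ⊓ nor D) := by
    rw [eP]; exact le_normalizer_inf (zpowers_le.2 f.tS) (le_normalizer_normalizer (zpowers_le.2 tA)) (mem_zpowers t)
  have tt : t * t ∈ S ⊓ nor D := eP.ge ⟨f.tt, mul_mem tA tA⟩
  have tn : t ∉ S ⊓ nor D := fun h => f.tn h.1
  have PT : S ⊓ nor D ⊔ zpowers t ≤ T := sup_le (inf_le_left.trans f.zt.ST) (zpowers_le.2 f.tT)
  have c3 := rel_mul_card (inf_le_left : S ⊓ nor D ≤ S)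
  have AP : S ⊓ cen D ≤ S ⊓ nor D := inf_le_inf_left _ (centralizer_le_normalizer _)
  have c2 := rel_mul_card AP
  have c1 := m.cardA f.f4 hY
  rw [m.rel3 f.f4, f.tr.cf.beta.card] at c3
  rw [m.rel2 f.f4] at c2
  have cd : Nat.card ↥(S ⊓ nor D ⊔ zpowers t) = s := by rw [card_sup_zp tP tt tn, c3]
  have gA := k.gam_good _ S D f.tr.cf.gam f.tr.cf.beta.good f.tr.cf.beta.card.ge f.tr.cf.le (m.le.trans inf_le_left)
    m.v.le_cen ((IsComponentOf.core_le_cen f.tr.cf.comp).trans (centralizer_anti (m.le.trans inf_le_right)))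
  have gP := k.good_up _ _ gA (f.zt.syl.isPGroup.to_le PT) (AP.trans le_sup_left) (PT.trans f.zt.TM)
  obtain ⟨⟨E₁, h1, E₂, h2, E₃, h3, n12, n13, n23⟩, big⟩ := k.big _ _ (k.wit_of _ _ gP cd.ge
    (sup_le (eP.le.trans inf_le_right) (zpowers_le.2 tA)) (k.tcD z _ f.zt.tc gA.two ⟨f.f4.zP.1, m.v.le_cen m.zD⟩)
      fun e => m.out f.f4 ((f.f4.lw D m.le m.v).trans e)).1 cd
  have s1 : 128 ≤ s := big.elim (fun ⟨E, e1, _, e3⟩ => by have := card_le_of_le e1; omega) fun h => cd ▸ h.2.2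
  have cQ : Nat.card ↥(S ⊓ cen (D ⊔ D')) ≤ 4 * Nat.card ↥(S ⊓ cen K) := by
    have aa := hY α ⟨m.aP, m.a8⟩
    have v := v4_pair f.zt.z2 aa (zcom f.f4.zP m.aP).symm f.zt.z1 (fun e => m.aC f.f4 (e ▸ one_mem _)) fun e =>
      m'.aC f.f4 (by rw [← e, f.zt.z2]; exact one_mem _)
    have l : closure {z, α} ≤ S := pair_le.2 ⟨f.f4.zP.1, m.aP⟩
    have h2 := H12.card_sup_mul_card_inf (l.trans f.nQ)
    have A : ∀ g ∈ S, ∀ a ∈ closure {z, α}, g * a ∈ cen K → g ∈ closure {z, α} ⊔ S ⊓ cen K := fun g hg a ha e =>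
      (mul_mem_cancel_right (mem_sup_left ha)).1 (mem_sup_right ⟨mul_mem hg (l ha), e⟩)
    have h3 := card_le_of_le (show S ⊓ cen (D ⊔ D') ≤ closure {z, α} ⊔ S ⊓ cen K from fun g hg => by
      rcases m.memY f.f4 hg with h | h | h | h
      exacts [mem_sup_right ⟨hg.1, h⟩, A g hg.1 _ (mem_pair_left _ _) h, A g hg.1 _ (mem_pair_right _ _) h,
        A g hg.1 _ (mul_mem (mem_pair_left _ _) (mem_pair_right _ _)) (mul_assoc g z α ▸ h)])
    rw [v.2] at h2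
    have : 0 < Nat.card ↥(closure {z, α} ⊓ (S ⊓ cen K)) := Nat.card_pos
    nlinarith
  have key : ∀ E ∈ H12.maxEA 2 (S ⊓ nor D ⊔ zpowers t), E = S ⊓ cen D ∨ E = S ⊓ cen D' := fun E hE => by
    have a := hE.2.2 _ (AP.trans le_sup_left) (m.eaA f.f4 hY)
    refine m.ea_eq f.f4 hY (by_contra fun h => ?_) hE.2.1 a
    obtain ⟨e, e1, e2⟩ := SetLike.not_le_iff_exists.1 h
    have et := ((mem_sup_zp tP tt).1 (hE.1 e1)).resolve_left e2
    have b := card_le_two (rel_sup_zp tP tt tn) hE.1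
    have c : Nat.card ↥(S ⊓ nor D ⊓ E) ≤ 2 * Nat.card ↥(S ⊓ cen (D ⊔ D') ⊓ (S ⊓ nor D ⊓ E)) :=
      (m.ea_or f.f4 hY inf_le_left (H12.ea_mono hE.2.1 inf_le_right)).elim (card_le_two (m.rel1 f.f4))
        (card_le_two (sup_comm D D' ▸ m'.rel1 f.f4))
    have d := H12.card_mul_card_le (S ⊓ cen (D ⊔ D') ⊓ (S ⊓ nor D ⊓ E)) (S ⊓ cen K)
    rw [show S ⊓ cen (D ⊔ D') ⊓ (S ⊓ nor D ⊓ E) ⊓ (S ⊓ cen K) = ⊥ from eq_bot_iff.2 fun q hq => by
      have := conj_mem_of_mem_normalizer (f.nt f.nQ et.1) (conj_mem_cj (g := t) (conj_mem_of_mem_normalizer'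
        (f.nQ f.tt) hq.2))
      rw [show e * t * (t * ((t * t)⁻¹ * q * (t * t)) * t⁻¹) * (e * t)⁻¹ = e * q * e⁻¹ by group,
        conj_fix (ea_com hE.2.1 e1 hq.1.2.2)] at this
      exact f.qq.le ⟨hq.2, this⟩, card_bot, mul_one] at d
    have d' := card_le_of_le (sup_le inf_le_left (inf_le_inf_left _ (centralizer_anti (m.U8.trans inf_le_right))) :
      S ⊓ cen (D ⊔ D') ⊓ (S ⊓ nor D ⊓ E) ⊔ S ⊓ cen K ≤ _)
    nlinarith
  rcases key E₁ h1 with e1 | e1 <;> rcases key E₂ h2 with e2 | e2 <;> rcases key E₃ h3 with e3 | e3 <;> simp_all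

theorem caseA' (k : Kt M s) (hY : ∀ y ∈ S ⊓ cen (D ⊔ D'), y * y = 1) : False := by
  have l := f.lt (inf_le_left : S ⊓ cen D ≤ S)
  have e := H12.ea_map (m.eaA f.f4 hY) (MulAut.conj t).toMonoidHom
  rcases m.ea_eq f.f4 hY (m.ea_le f.f4 hY l e (card_cj _ _).ge) e (card_cj _ _).ge with h | h
  · exact f.caseA m k hY (cj_eq_self_iff.1 h)
  obtain ⟨y, y1, -, y2⟩ := m.sw
  exact (f.shift y1).caseA m k hY (cj_eq_self_iff.1 (by rw [← cj_cj, h, cj_inf, cj_cen, y2, cj_eq_self_of_mem y1]))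

theorem sqQ (h : c ∈ S ⊓ cen K) : c * c = 1 := by
  have h1 := conj_mem_cj (g := t) h
  have hc : t * c * t⁻¹ ∈ S ⊓ cen (D ⊔ D') := ⟨f.lt inf_le_left h1, centralizer_anti m.U8 (f.Qt h1)⟩
  refine f.qone (mul_mem h h) ?_
  rw [conj_dist]
  generalize t * c * t⁻¹ = w at hc
  have A : ∀ a ∈ S, a * a ∈ cen K → w * a ∈ cen K → w * w ∈ cen K := fun a ha e e' => by
    rw [show w * w = w * a * (a⁻¹ * (w * a * (a * a)⁻¹) * a) by group]
    exact mul_mem e' (conj_mem_of_mem_normalizer' (le_normalizer_centralizer f.f4.nK ha) (mul_mem e' (inv_mem e)))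
  rcases m.memY f.f4 hc with e | e | e | e
  · exact mul_mem e e
  · exact A z f.f4.zP.1 (f.zt.z2 ▸ one_mem _) e
  · exact A α m.aP m.aa e
  · exact A (z * α) (mul_mem f.f4.zP.1 m.aP) (by
      rw [(zcom f.f4.zP m.aP).mul_mul_mul_comm, f.zt.z2, one_mul]; exact m.aa) (mul_assoc w z α ▸ e)

theorem caseA'' (k : Kt M s) (aa : α * α = 1) (h : α ∈ cen (S ⊓ cen K)) : False := f.caseA' m k fun y hy => by
  have A : ∀ a ∈ S, a * a = 1 → a ∈ cen (S ⊓ cen K) → y * a ∈ cen K → y * y = 1 := fun a ha e1 e2 e => by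
    have h1 : y * a ∈ S ⊓ cen K := ⟨mul_mem hy.1 ha, e⟩
    have := f.sqQ m h1
    rwa [mul_assoc y a, (com e2 h1).symm.eq, mul_assoc y a a, e1, mul_one] at this
  have zc : z ∈ cen (S ⊓ cen K) := centralizer_anti inf_le_left f.f4.zP.2
  rcases m.memY f.f4 hy with e | e | e | e
  · exact f.sqQ m ⟨hy.1, e⟩
  · exact A z f.f4.zP.1 f.zt.z2 zc e
  · exact A α m.aP aa h e
  · exact A (z * α) (mul_mem f.f4.zP.1 m.aP) (by rw [(zcom f.f4.zP m.aP).mul_mul_mul_comm, f.zt.z2, aa, one_mul])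
      (mul_mem zc h) (mul_assoc y z α ▸ e)

theorem caseB (q0 : S ⊓ cen K = zpowers i) (aa : α * α = i) : False := by
  have Q : ∀ g ∈ S, g ∈ cen K → g = 1 ∨ g = i := fun g hg e => (mem_zpowers_inv f.tr.i2).1 (q0.le ⟨hg, e⟩)
  have ia := zcom f.tr.iS m.aP
  have A : ∀ j ∈ S, j * j = 1 → ∀ u ∈ S ⊓ K, j * u * α ∉ cen K := fun j hj jj u hu e => by
    have h1 : j * u * α * (j * u * α) = 1 := f.sqQ m ⟨mul_mem (mul_mem hj hu.1) m.aP, e⟩
    have h2 : Commute (j * u * α) (u * α) := by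
      rcases Q _ (mul_mem (mul_mem hj hu.1) m.aP) e with h | h <;> rw [h]
      exacts [Commute.one_left _, (zcom f.tr.iS (mul_mem hu.1 m.aP)).symm]
    rw [mul_assoc j u, mul_assoc j, ← mul_assoc j u, ← h2.eq, ← mul_assoc, ← mul_assoc j, ← mul_assoc j j, jj, one_mul,
      show u * α * (u * α) = u * (α * u * α⁻¹) * (α * α) by group, aa] at h1
    exact f.iK (eq_inv_of_mul_eq_one_right h1 ▸ inv_mem (mul_mem hu.2 (conj_mem_of_mem_normalizer (f.f4.nK m.aP) hu.2)))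
  have B : ∀ d ∈ S ⊓ K, d * d = 1 → t * d * t⁻¹ ∈ nor D := fun d hd dd => by
    rcases eq_or_ne d 1 with rfl | d1
    · simp
    have hj := conj_mem_of_mem_normalizer f.tS hd.1
    have tc := f.zt.tc.of_isConj ((f.zconj hd.2 dd d1).trans (isConj_conj t d))
    generalize t * d * t⁻¹ = j at hj tc
    rcases f.f4.typ with e | e
    · obtain ⟨F, h1, h2, h3⟩ := f.f4.rr e j hj tc.1 (f.rule _ tc (zcom f.tr.iS hj))
      rcases m.v4 F h1 h2 with rfl | rfl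
      exacts [h3, (m.symm' f.f4.toB4).nn f.f4 hj h3]
    obtain ⟨u₀, u1, u2⟩ := m.sd e
    by_contra h
    obtain ⟨u, hu, e⟩ := m.nD _ ⟨mul_mem hj u1.1, m.two f.f4 hj u1.1 h u2⟩
    have hu' := mul_mem u1 (m.U8 hu)
    rw [mul_assoc j] at e
    replace e := e.resolve_right (A j hj tc.1 _ hu')
    have h1 := f.sqQ m ⟨mul_mem hj hu'.1, e⟩
    rw [mul_assoc j, (com e hu'.2).eq, ← mul_assoc, ← mul_assoc, ← mul_assoc j j, tc.1, one_mul, mul_assoc] at h1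
    exact h ((mul_mem_cancel_right ((m.inv _ hu' h1).elim (le_normalizer ·) (m.n1 ·))).1
      (centralizer_le_normalizer _ (centralizer_anti (m.le.trans inf_le_right) e)))
  have C : ∀ d ∈ S ⊓ K, d * d = 1 → Commute d (t⁻¹ * α * t) := fun d hd dd => by
    have hj := conj_mem_of_mem_normalizer f.tS hd.1
    obtain ⟨u, hu, e⟩ := m.nD _ ⟨hj, B d hd dd⟩
    replace e := e.resolve_right (A _ hj (conj_sq t dd) u (m.U8 hu))
    have : Commute (t * d * t⁻¹ * u) α := by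
      rcases Q _ (mul_mem hj (m.U8 hu).1) e with h | h <;> rw [h]
      exacts [Commute.one_left _, ia.symm]
    simpa [mul_assoc] using (this.mul_left (com m.a8 hu).inv_left).map (MulAut.conj t⁻¹)
  have hβ : t⁻¹ * α * t ∈ S ⊓ cen (D ⊔ D') := ⟨conj_mem_of_mem_normalizer' f.tS m.aP, (cen_sup _ _).ge
    ⟨mem_cen.2 fun d hd => C d (m.le hd) (m.v.sq hd), mem_cen.2 fun d hd => C d (m.le' hd) (m.v'.sq hd)⟩⟩
  have bb : t⁻¹ * α * t * (t⁻¹ * α * t) = i * z := by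
    rw [show t⁻¹ * α * t * (t⁻¹ * α * t) = t⁻¹ * (α * α) * t by group, aa]
    nth_rw 1 [← f.tiz]; group
  generalize t⁻¹ * α * t = β at hβ bb
  have E : ∀ a ∈ S, a * a ∈ cen K → β * a ∈ cen K → False := fun a ha e e' => f.zQ ((mul_mem_cancel_left f.tr.iK).1 (by
    rw [← bb, show β * β = β * a * (a⁻¹ * (β * a * (a * a)⁻¹) * a) by group]
    exact mul_mem e' (conj_mem_of_mem_normalizer' (le_normalizer_centralizer f.f4.nK ha) (mul_mem e' (inv_mem e)))))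
  rcases m.memY f.f4 hβ with e | e | e | e
  · exact E 1 (one_mem _) (by simp) (by rwa [mul_one])
  · exact E z f.f4.zP.1 (f.zt.z2 ▸ one_mem _) e
  · exact E α m.aP m.aa e
  · exact E (z * α) (mul_mem f.f4.zP.1 m.aP) (by
      rw [(zcom f.f4.zP m.aP).mul_mul_mul_comm, f.zt.z2, one_mul]; exact m.aa) (mul_assoc β z α ▸ e)

end F1

theorem jobO2m : JO2m.{u} := by
  intro G _ _ M T S K D D' s i z t α k f m
  by_cases h : S ⊓ cen K ≤ zpowers i
  · have q0 := le_antisymm h (zpowers_le.2 ⟨f.tr.iS.1, f.tr.iK⟩)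
    rcases (mem_zpowers_inv f.tr.i2).1 (h ⟨mul_mem m.aP m.aP, m.aa⟩) with e | e
    · exact f.caseA'' m k e (centralizer_anti h ((cen1_eq i).le (f.syl.le m.aP)))
    · exact f.caseB m q0 e
  obtain ⟨q, q1, q2⟩ := SetLike.not_le_iff_exists.1 h
  have h1 := conj_mem_cj (g := t) q1
  have hc : t * q * t⁻¹ ∈ S ⊓ cen (D ⊔ D') := ⟨f.lt inf_le_left h1, centralizer_anti m.U8 (f.Qt h1)⟩
  have cc := conj_sq t (f.sqQ m q1)
  have cQ := cen_of_inf_bot ((f.lt inf_le_left).trans f.nQ) (inf_le_left.trans (f.nt f.nQ)) ((inf_comm _ _).trans f.qq) h1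
  rcases m.memY f.f4 hc with e | e | e | e
  · exact q2 (f.qone q1 e ▸ one_mem _)
  · refine q2 (eq_of_sq (f.qone (mul_mem q1 ⟨f.tr.iS.1, f.tr.iK⟩) ?_) f.tr.i2 ▸ mem_zpowers _)
    rw [conj_dist, f.ti, f.iz.eq, ← mul_assoc]
    exact mul_mem e f.tr.iK
  · exact f.caseA'' (m.shift hc.1 e f.f4.nK) k cc cQ
  · exact f.caseA'' (m.shift (mul_mem hc.1 f.f4.zP.1) e f.f4.nK) k (by
      rw [(zcom f.f4.zP hc.1).symm.mul_mul_mul_comm, cc, f.zt.z2, mul_one])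
      (mul_mem cQ (centralizer_anti inf_le_left f.f4.zP.2))

end H97.QU
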