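import Cfsg.Agent.H97.QUN4b
import Cfsg.Agent.H20.TWB2
import Cfsg.Agent.H35.TW2

/-! Job JO2n of `blueprints/QU.md`. -/

set_option autoImplicit false
set_option linter.unusedSectionVars false

namespace H97.QU

open Subgroup Cfsg H98 H96 H96.CG
open H52 (zc)
open scoped commutatorElement

universe u

variable {G : Type u} [Group G] [Finite G] {M T S P K U D : Subgroup G} {s n : ℕ} {i z t z₀ g x a b c r d : G}

theorem no_idx2 (h : res 2 (⊤ : Subgroup G) = ⊤) (N : Subgroup G) : N.index ≠ 2 := fun e => by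
  have : N = ⊤ := top_le_iff.1 (h.ge.trans (res_le_of_forall_pow fun x _ => ⟨1, sq_mem_of_index_two e x⟩))
  simp [this] at e

theorem Dih.rho (h : Dih K U z₀ n r d) : r ^ ((2 : ℤ) ^ (n - 2)) * r ^ ((2 : ℤ) ^ (n - 2)) = z₀ := by
  rw [← zpow_add, h.ez', h.two_pow', two_mul]

theorem Dih.inv (h : Dih K U z₀ n r d) (k l : ℤ) : d * r ^ k * r ^ l * (d * r ^ k)⁻¹ = (r ^ l)⁻¹ := by
  rw [conj_conj, conj_fix ((Commute.refl r).zpow_zpow k l), ← conj_zpow, h.dr, inv_zpow]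

/-- a non-central involution of `U` lies in a dihedral group of order eight -/
theorem L4.d8 (h : L4 P K z₀) : ∃ ρ ∈ P ⊓ K, ρ * ρ = z₀ ∧ ∀ b ∈ P ⊓ K, b * b = 1 → b ≠ 1 → b ≠ z₀ → b * ρ * b⁻¹ = ρ⁻¹ := by
  rcases h.typ with ⟨n, r, d, e⟩ | ⟨r, d, e⟩
  · refine ⟨_, zpow_mem e.rU _, e.rho, fun b hb b2 b1 bz => ?_⟩
    obtain ⟨k, rfl⟩ := ((e.inv_cases hb b2).resolve_left b1).resolve_left bz
    exact e.inv _ _
  · refine ⟨r ^ (2 : ℤ), zpow_mem e.rU _, by rw [← zpow_add, e.ez']; rfl, fun b hb b2 b1 bz => ?_⟩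
    obtain ⟨k, -, rfl⟩ := ((e.inv_cases hb b2).resolve_left b1).resolve_left bz
    rw [conj_conj, conj_fix ((Commute.refl r).zpow_zpow k 2), ← conj_zpow, e.dr', ← zpow_mul, ← zpow_neg, e.pow_eq]
    decide

theorem d8_swap {ρ : G} (bb : b * b = 1) (h1 : ρ * ρ = z₀) (h2 : b * ρ * b⁻¹ = ρ⁻¹) :
    b * ρ * (b * ρ) = 1 ∧ b * ρ * b * (b * ρ)⁻¹ = b * z₀ := by
  have s : b * ρ * (b * ρ) = 1 := by rw [inv_of_sq bb] at h2; rw [← mul_assoc, h2, inv_mul_cancel]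
  exact ⟨s, by rw [inv_of_sq s, mul_assoc (b * ρ), ← mul_assoc b b, bb, one_mul, ← h1, mul_assoc]⟩

theorem F4.lb (f : F4 M P K z₀) : H85.TW.LB K := by
  obtain ⟨ρ, r1, r2, r3⟩ := f.toL4.d8
  have v : ∀ {a b : G}, H85.TW.Fg a b → V4 (closure {a, b}) := fun h => v4_pair h.aa h.bb h.ab h.a1 h.b1 h.ne
  refine ⟨?_, fun a ha a2 a1 => ?_, fun a ha b hb a2 a1 b2 b1 => ?_, fun a ha b hb h y hy _ e e' => ?_,
    fun a ha b hb h => ?_, fun a ha b hb h => ?_⟩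
  · obtain ⟨D, d1, d2⟩ := f.toL4.exists_v4
    obtain ⟨b, hb, b1, bz⟩ := d2.exists_ne z₀
    exact ⟨z₀, f.zK, b, (d1 hb).2, f.z2, d2.sq hb, (zcom f.zP (d1 hb).1).symm, f.z1, b1, bz.symm⟩
  · obtain ⟨k, hk, rfl⟩ := f.one a ha a2 a1
    exact ⟨k * ρ * k⁻¹, mul_mem (mul_mem hk r1.2) (inv_mem hk), by rw [conj_mul, r2]⟩
  · obtain ⟨k, hk, rfl⟩ := f.one a ha a2 a1
    obtain ⟨l, hl, rfl⟩ := f.one b hb b2 b1
    exact ⟨l * k⁻¹, mul_mem hl (inv_mem hk), by group⟩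
  · exact (mem_pair h.aa h.bb h.ab).1 (f.cD _ (pair_le.2 ⟨ha, hb⟩) (v h) ⟨hy, cen_symm (pair_le.2
      ⟨(cen1_eq y).le (mem_cen1.2 e.symm), (cen1_eq y).le (mem_cen1.2 e'.symm)⟩) (mem_zpowers y)⟩)
  · have l := pair_le.2 ⟨ha, hb⟩
    obtain ⟨x, hx, x3⟩ := f.xD _ l (v h)
    obtain ⟨h1, h2⟩ := (v h).rot hx.2 x3 (f.not_cen l (v h) hx.1 x3) (mem_pair_left a b) h.a1
    rcases (mem_pair h.aa h.bb h.ab).1 (conj_mem_of_mem_normalizer hx.2 (mem_pair_left a b)) with e | e | e | e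
    · exact (conj_ne x h.a1 e).elim
    · exact (h1 e).elim
    · exact ⟨x, hx.1, e, by rw [e] at h2; rw [h2, h.ab]⟩
    · rw [e, mul_assoc a b a, ← h.ab, ← mul_assoc a a, h.aa, one_mul] at h2
      refine ⟨x * x, mul_mem hx.1 hx.1, by rw [conj_conj, e, h2], ?_⟩
      rw [conj_dist, e] at h2
      rw [conj_conj, mul_left_cancel (h2.trans (show b = a * b * a by rw [mul_assoc, ← h.ab, ← mul_assoc, h.aa, one_mul])), e]
  · obtain ⟨k, hk, e⟩ := f.syl.exists_cj_le (v h).two (pair_le.2 ⟨ha, hb⟩)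
    have v' := (v h).cj k
    obtain ⟨x, hx, x3⟩ := f.xD _ (e.trans inf_le_right) v'
    obtain ⟨y, hy, e'⟩ := v'.exists_back hx.2 x3 (f.not_cen (e.trans inf_le_right) v' hx.1 x3)
      (conj_mem_cj (mem_pair_left a b)) (conj_ne k h.a1) (f.z_mem e v') f.z1
    have y1 := zpowers_le.2 hx hy
    have b1 := e (conj_mem_of_mem_normalizer y1.2 (conj_mem_cj (mem_pair_right a b)))
    rw [← conj_conj] at e' b1
    have g1 := mul_mem y1.1 hk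
    generalize y * k = g at e' b1 g1
    obtain ⟨s1, s2⟩ := d8_swap (conj_sq g h.bb) r2 (r3 _ b1 (conj_sq g h.bb) (conj_ne g h.b1) fun e =>
      h.ne (by simpa using e'.trans e.symm))
    have s3 := conj_fix (zcom f.zP (mul_mem b1.1 r1.1))
    have s4 := mul_mem b1.2 r1.2
    have s5 := (zcom f.zP b1.1).eq
    generalize g * b * g⁻¹ * ρ = w at s1 s2 s3 s4
    refine ⟨g⁻¹ * w * g⁻¹⁻¹, mul_mem (mul_mem (inv_mem g1) s4) (inv_mem (inv_mem g1)), conj_sq _ s1, ?_, ?_⟩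
    · rw [show g⁻¹ * w * g⁻¹⁻¹ * a * (g⁻¹ * w * g⁻¹⁻¹)⁻¹ = g⁻¹ * (w * (g * a * g⁻¹) * w⁻¹) * g by group, e', s3, ← e']
      group
    · rw [show g⁻¹ * w * g⁻¹⁻¹ * b * (g⁻¹ * w * g⁻¹⁻¹)⁻¹ = g⁻¹ * (w * (g * b * g⁻¹) * w⁻¹) * g by group, s2, s5, ← e']
      group

theorem F4.no_prod (f : F4 M P K z₀) (h : res 2 (⊤ : Subgroup G) = ⊤) (ii : i * i = 1) (i1 : i ≠ 1) (c : i ∈ cen K)
    (e : cen1 i ≤ K ⊔ zpowers i) : False := by
  have n : i ∈ nor K := centralizer_le_normalizer _ c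
  obtain ⟨N, hN⟩ := H20.TWB.jobB H35.TW.jobTop G i K ⟨ii, fun g hg => mem_cen1.2 (com c hg),
    e.trans (sup_le le_normalizer (zpowers_le.2 n)), fun e => i1 (f.eq_one e c), fun y hy _ =>
      ((mem_sup_zp n (ii ▸ one_mem K)).1 (e hy)).imp_right fun h => (mem_cen1.1 hy).eq ▸ h⟩ f.lb
  exact no_idx2 h N hN

namespace F1
variable (f : F1 M T S K s i z t z)
include f

theorem zQ : z ∉ cen K := fun h => f.zt.z1 (f.f4.eq_one f.f4.zK h)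

theorem iK : i ∉ K := fun h => f.tr.i1 (f.f4.eq_one h f.tr.iK)

theorem nQ : S ≤ nor (S ⊓ cen K) := le_normalizer_inf le_normalizer (le_normalizer_centralizer f.f4.nK)

theorem iz : Commute i z := zcom f.f4.zP f.tr.iS.1

theorem Qt : cj t (S ⊓ cen K) ≤ cen (S ⊓ K) :=
  have l := f.lt (inf_le_left : S ⊓ cen K ≤ S)
  cen_of_inf_bot (l.trans f.f4.nU) (inf_le_left.trans (f.nt f.nQ)) (f.inf_bot l (f.nt f.nQ) f.f4.nU
    (fun _ h => f.iK h.2) (fun h _ => f.zQ (by rw [← f.tz, conj_mem_cj_iff] at h; exact h.2))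
    fun _ h => f.iK ((mul_mem_cancel_right f.f4.zK).1 h.2))

theorem qone (h : c ∈ S ⊓ cen K) (h' : t * c * t⁻¹ ∈ cen K) : c = 1 := by
  simpa using f.qq.le ⟨⟨conj_mem_of_mem_normalizer f.tS h.1, h'⟩, conj_mem_cj h⟩

theorem q0 (h : ∀ c ∈ S ⊓ cen (S ⊓ K), c ∈ cen K ∨ c * z ∈ cen K) : S ⊓ cen K = zpowers i := by
  refine le_antisymm (fun c hc => (mem_zpowers_inv f.tr.i2).2 ?_) (zpowers_le.2 ⟨f.tr.iS.1, f.tr.iK⟩)
  refine (h _ ⟨conj_mem_of_mem_normalizer f.tS hc.1, f.Qt (conj_mem_cj hc)⟩).imp (f.qone hc) fun e =>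
    eq_of_sq (f.qone (mul_mem hc ⟨f.tr.iS.1, f.tr.iK⟩) ?_) f.tr.i2
  rw [conj_dist, f.ti, f.iz.eq, ← mul_assoc]
  exact mul_mem e f.tr.iK

theorem ci (h : S ⊓ cen K = zpowers i) : cen1 i = K ⊔ S :=
  f.f4.frattini f.syl f.tr.cf.comp.1 f.nK ((isPGroup_pCoreOf _).to_le ((le_inf le_rfl (inf_le_left.trans
    (cen1_eq i).le)).trans (f.ch.inf_centralizer_le ((f.syl.inf_of_le_normalizer inf_le_left (le_normalizer_inf
      (le_normalizer_of_le f.syl.le) (le_normalizer_centralizer f.f4.nK))).pCoreOf_le.trans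
        ((inf_le_inf_left _ inf_le_right).trans h.le)))))

theorem out (k : Kit M s) (h : S ⊓ cen K = zpowers i) : ¬ S ≤ S ⊓ K ⊔ cen K := fun e =>
  f.f4.no_prod k.res f.tr.i2 f.tr.i1 f.tr.iK ((f.ci h).le.trans (sup_le le_sup_left fun g hg => by
    obtain ⟨u, hu, c, hc, rfl⟩ := f.f4.mem_sup.1 (e hg)
    exact mul_mem_sup hu.2 (h.le ⟨(S.mul_mem_cancel_left hu.1).1 hg, hc⟩)))

theorem dih (k : Kit M s) (h : S ⊓ cen K = zpowers i) (n : N4 S K z) : IsDih K (S ⊓ K) z :=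
  f.f4.typ.resolve_right fun ⟨r, d, e⟩ => f.out k h fun g hg => by
    obtain ⟨D, d1, d2⟩ := f.f4.toL4.exists_v4
    obtain ⟨m, h⟩ := e.v4_cj (cj_le_of_le d1 (f.f4.nU hg)) (d2.cj g) d1 d2
    have r1 := zpow_mem e.rU m
    exact (mul_mem_cancel_left (mem_sup_left r1)).1 (n.nn D d1 d2 ⟨mul_mem r1.1 hg, cj_eq_self_iff.1 (by rw [← cj_cj, h])⟩)

/-- an involution `u i`, `u ∈ K`, is conjugate to `i` -/
theorem ui (ha : a ∈ K) (h : a * a = 1) : IsConj i (a * i) := by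
  rcases eq_or_ne a 1 with rfl | a1
  · rw [one_mul]
  obtain ⟨k, hk, rfl⟩ := f.f4.one a ha h a1
  refine isConj_iff.2 ⟨k * t, ?_⟩
  rw [conj_conj, f.ti, f.iz.eq, conj_dist, conj_fix (com f.tr.iK hk)]

theorem zconj (ha : a ∈ K) (h : a * a = 1) (a1 : a ≠ 1) : IsConj z a :=
  let ⟨k, _, e⟩ := f.f4.one a ha h a1; isConj_iff.2 ⟨k, e⟩

end F1

theorem jobO2n : JO2n.{u} := by
  intro G _ _ M T S K s i z t k f n
  have q0 := f.q0 n.c1
  have dih := f.dih k q0 n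
  refine ⟨f, n, q0, f.ci q0, fun D d1 D' d1' d2 d2' => ?_, fun d hd dd => ?_⟩
  · obtain ⟨m, r, d, e⟩ := dih
    obtain ⟨y, y1, y2⟩ := SetLike.not_le_iff_exists.1 (f.out k q0)
    have v := e.v4 0
    have l := e.v4_le 0
    rw [zpow_zero, mul_one] at v l
    obtain ⟨a, h⟩ := e.v4_cj (cj_le_of_le l (f.f4.nU y1)) (v.cj y)
    have r1 := fun a : ℤ => zpow_mem e.rU a
    replace h := h.resolve_left fun h => y2 ((mul_mem_cancel_left (mem_sup_left (r1 a))).1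
      (n.nn _ l v ⟨mul_mem (r1 a).1 y1, cj_eq_self_iff.1 (by rw [← cj_cj, h])⟩))
    have A : ∀ D ≤ S ⊓ K, V4 D → ∃ g ∈ S, cj g D = closure {z, d * r} := fun D d1 d2 => by
      obtain ⟨b, h' | h'⟩ := e.v4_cj d1 d2
      exacts [⟨r ^ a * y * r ^ b, mul_mem (mul_mem (r1 a).1 y1) (r1 b).1, by rw [← cj_cj, h', ← cj_cj, h]⟩,
        ⟨_, (r1 b).1, h'⟩]
    obtain ⟨g, g1, g2⟩ := A D d1 d2
    obtain ⟨g', g1', g2'⟩ := A D' d1' d2'
    exact ⟨g'⁻¹ * g, mul_mem (inv_mem g1') g1, by rw [← cj_cj, g2, ← g2', cj_inv_cj]⟩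
  rcases eq_or_ne d 1 with rfl | d1
  · simp
  have hj := conj_mem_of_mem_normalizer f.tS hd.1
  have c := (f.zconj hd.2 dd d1).trans (isConj_conj t d)
  have tc := f.zt.tc.of_isConj c
  obtain ⟨u, hu, c', hc, e⟩ := f.f4.rn dih n hj tc.1 (f.rule _ tc (zcom f.tr.iS hj))
  rcases (mem_zpowers_inv f.tr.i2).1 (q0.le ⟨(S.mul_mem_cancel_left hu.1).1 (e ▸ hj), hc⟩) with rfl | rfl
  · rwa [e, mul_one]
  · refine (f.nc ((f.ui hu.2 ?_).trans (e ▸ c.symm))).elim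
    have := tc.1
    rwa [e, (com hc hu.2).symm.mul_mul_mul_comm, f.tr.i2, mul_one] at this

end H97.QU
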