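import Cfsg.Agent.H97.QUOb0a

/-! Job JOb0 of `blueprints/QU.md`. -/

set_option autoImplicit false
set_option linter.unusedSectionVars false
set_option linter.unusedSimpArgs false

namespace H97.QU

open Subgroup Cfsg H98 H96.CG
open H52 (zc)
open scoped commutatorElement

universe u

variable {G : Type u} [Group G] [Finite G] {M T S P K K₁ K₂ D D' D₁ D₁' D₂ D₂' : Subgroup G} {s : ℕ}
  {i z₀ z₁ z₂ z t α α₁ α₂ c d e d' e' g q q' x w : G}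

theorem Fc.shift (f : Fc M T S K s i z t) (hg : g ∈ S) : Fc M T S K s i z (g * t) :=
  { f with
    tT := mul_mem (f.zt.ST hg) f.tT
    tS := mul_mem (le_normalizer hg) f.tS
    tn := fun h => f.tn ((mul_mem_cancel_left hg).1 h)
    tt := by
      rw [show g * t * (g * t) = g * (t * g * t⁻¹) * (t * t) by group]
      exact mul_mem (mul_mem hg (conj_mem_of_mem_normalizer f.tS hg)) f.tt
    nT := f.nT.trans (sup_le le_sup_left (zpowers_le.2 ((mul_mem_cancel_left (mem_sup_left hg)).1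
      (mem_sup_right (mem_zpowers _)))))
    ti := by rw [conj_conj, f.ti, conj_dist, conj_fix (zcom f.tr.iS hg), conj_fix (zcom f.zt.zT (f.zt.ST hg))] }

theorem OC.shift (o : OC M T S K₁ K₂ s z₁ z₂ z t) (hg : g ∈ S) : OC M T S K₁ K₂ s z₁ z₂ z (g * t) :=
  { o with
    fc1 := o.fc1.shift hg, fc2 := o.fc2.shift hg
    k1 := by rw [← cj_cj, o.k1, cj_eq_self (o.f2.nK hg)]
    k2 := by rw [← cj_cj, o.k2, cj_eq_self (o.f1.nK hg)]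
    t1 := by rw [conj_conj, o.t1, conj_fix (zcom o.f2.zP hg)]
    t2 := by rw [conj_conj, o.t2, conj_fix (zcom o.f1.zP hg)]
    fx := fun a h h' => (sup_le le_sup_left (zpowers_le.2 ((mul_mem_cancel_left (mem_sup_left hg)).1
      (mem_sup_right (mem_zpowers _)))) : S ⊔ zpowers t ≤ S ⊔ zpowers (g * t)) (o.fx a h h') }

/-- `x` permutes the involutions `z₀`, `d`, `d z₀` of `D` -/
structure Xd (K D : Subgroup G) (z₀ d x : G) : Prop where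
  eD : D = closure {z₀, d}
  xN : x ∈ K ⊓ nor D
  x3 : orderOf x = 3
  xz : x * z₀ * x⁻¹ = d
  xd : x * d * x⁻¹ = d * z₀

theorem Xd.dD (h : Xd K D z₀ d x) : d ∈ D := h.eD ▸ mem_pair_right _ _

theorem F4.xd (f : F4 M P K z₀) (h1 : D ≤ P ⊓ K) (h2 : V4 D) : ∃ d x, Xd K D z₀ d x := by
  obtain ⟨x, hx, x3⟩ := f.xD D (h1.trans inf_le_right) h2
  have hz := f.z_mem h1 h2
  obtain ⟨r1, r2⟩ := h2.rot hx.2 x3 (f.not_cen (h1.trans inf_le_right) h2 hx.1 x3) hz f.z1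
  exact ⟨_, x, h2.eq_pair hz (conj_mem_of_mem_normalizer hx.2 hz) f.z1 (conj_ne x f.z1) r1.symm, hx, x3, rfl, r2⟩

namespace M4
variable (m : M4 P K z₀ D D' α) (f : F4 M P K z₀)
include m f

theorem flip (hc : c ∈ P ⊓ cen (D ⊔ D')) (h : c ∈ cen (K ⊓ nor D')) (n : c ∉ cen K) : c * z₀ ∈ cen (K ⊓ nor D) := by
  rcases m.memY f hc with e | e | e | e
  exacts [(n e).elim, centralizer_anti inf_le_left e,
    (n (m.cc c hc.1 ((mul_mem_cancel_right m.a1).1 (centralizer_anti inf_le_left e)) h)).elim,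
    (mul_mem_cancel_right m.a1).1 (centralizer_anti inf_le_left e)]

theorem cases (hc : c ∈ P ⊓ cen (D ⊔ D')) (h : c ∉ zpowers z₀ ⊔ cen K) :
    c ∈ cen (K ⊓ nor D) ∧ c * z₀ ∈ cen (K ⊓ nor D') ∨ c * z₀ ∈ cen (K ⊓ nor D) ∧ c ∈ cen (K ⊓ nor D') := by
  have az := zcom f.zP m.aP
  rcases m.memY f hc with e | e | e | e
  · exact (h (mem_sup_right e)).elim
  · exact (h ((mul_mem_cancel_right (mem_sup_left (mem_zpowers _))).1 (mem_sup_right e))).elim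
  · refine .inl ⟨(mul_mem_cancel_right m.a1).1 (centralizer_anti inf_le_left e), (mul_mem_cancel_right m.a2).1 ?_⟩
    rw [mul_assoc, az.eq, lc f.z2, one_mul]; exact centralizer_anti inf_le_left e
  · refine .inr ⟨(mul_mem_cancel_right m.a1).1 (centralizer_anti inf_le_left e), (mul_mem_cancel_right m.a2).1 ?_⟩
    rw [az.eq, ← mul_assoc]; exact centralizer_anti inf_le_left e

theorem idx (hq : q ∈ P ⊓ cen (D ⊔ D')) (hq' : q' ∈ P ⊓ cen (D ⊔ D')) (h : q ∉ zpowers z₀ ⊔ cen K)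
    (h' : q' ∉ zpowers z₀ ⊔ cen K) : q * q' ∈ zpowers z₀ ⊔ cen K := by
  have zz : z₀ ∈ zpowers z₀ ⊔ cen K := mem_sup_left (mem_zpowers _)
  have A : ∀ q ∈ P ⊓ cen (D ⊔ D'), q ∉ zpowers z₀ ⊔ cen K → q * α ∈ zpowers z₀ ⊔ cen K := fun q hq h => by
    rcases m.memY f hq with e | e | e | e
    exacts [(h (mem_sup_right e)).elim, (h ((mul_mem_cancel_right zz).1 (mem_sup_right e))).elim, mem_sup_right e,
      (mul_mem_cancel_right zz).1 (by rw [mul_assoc, (zcom f.zP m.aP).eq, ← mul_assoc]; exact mem_sup_right e)]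
  rw [show q * q' = q * α * (α⁻¹ * (q' * α * (α * α)⁻¹) * α) by group]
  exact mul_mem (A q hq h) (conj_mem_of_mem_normalizer' (le_normalizer_sup (le_normalizer_of_le_centralizer
    (cen_symm (zpowers_le.2 f.zP.2))) (le_normalizer_centralizer f.nK) m.aP) (mul_mem (A q' hq' h') (inv_mem (mem_sup_right m.aa))))

theorem sqY (hc : c ∈ P ⊓ cen (D ⊔ D')) : c * c ∈ cen K := by
  have n := le_normalizer_centralizer f.nK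
  rcases m.memY f hc with e | e | e | e
  exacts [mul_mem e e, sq_mem_of (n f.zP.1) (f.z2 ▸ one_mem _) e, sq_mem_of (n m.aP) m.aa e,
    sq_mem_of (n (mul_mem f.zP.1 m.aP)) (by rw [(zcom f.zP m.aP).mul_mul_mul_comm, f.z2, one_mul]; exact m.aa)
      (mul_assoc c z₀ α ▸ e)]

end M4

structure OM (M T S K₁ K₂ D₁ D₁' D₂ D₂' : Subgroup G) (s : ℕ) (z₁ z₂ z t α₁ α₂ : G) : Prop
    extends OC M T S K₁ K₂ s z₁ z₂ z t where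
  m1 : M4 S K₁ z₁ D₁ D₁' α₁
  m2 : M4 S K₂ z₂ D₂ D₂' α₂
  c1 : D₁ ≤ cen (K₂ ⊓ nor D₂)
  c1' : D₁' ≤ cen (K₂ ⊓ nor D₂')
  c2 : D₂ ≤ cen (K₁ ⊓ nor D₁)
  c2' : D₂' ≤ cen (K₁ ⊓ nor D₁')
  x1 : ¬ D₁ ≤ cen K₂
  x1' : ¬ D₁' ≤ cen K₂
  x2 : ¬ D₂ ≤ cen K₁
  x2' : ¬ D₂' ≤ cen K₁
  nn : ∀ g ∈ S, g ∈ nor D₁ ↔ g ∈ nor D₂
  s1 : cj t D₁ = D₂
  s1' : cj t D₁' = D₂'
  s2 : cj t D₂ = D₁
  s2' : cj t D₂' = D₁'

theorem O0.zc (o : O0 M T S K₁ K₂ s z₁ z₂ z t) : z₂ ∈ cen K₁ := o.fc1.tr.iK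

theorem O0.Y2 (o : O0 M T S K₁ K₂ s z₁ z₂ z t) (m : M4 S K₂ z₂ D₂ D₂' α₂) (h : d ∈ S ⊓ K₁) : d ∈ S ⊓ cen (D₂ ⊔ D₂') :=
  ⟨h.1, centralizer_anti m.U8 (o.uu h)⟩

theorem le_cen_of {Z : Subgroup G} (h : Xd K D z₀ d x) (h1 : z₀ ∈ Z) (h2 : d ∈ Z) : D ≤ Z := h.eD ▸ pair_le.2 ⟨h1, h2⟩

theorem OC.om4 (o : OC M T S K₁ K₂ s z₁ z₂ z t) (m1 : M4 S K₁ z₁ D₁ D₁' α₁) (m2 : M4 S K₂ z₂ D₂ D₂' α₂)
    (c1 : D₁ ≤ cen (K₂ ⊓ nor D₂)) (x1 : ¬ D₁ ≤ cen K₂) (s1 : cj t D₁ = D₂) :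
    OM M T S K₁ K₂ D₁ D₁' D₂ D₂' s z₁ z₂ z t α₁ α₂ := by
  have tr : ∀ g {K D F : Subgroup G}, D ≤ cen (K ⊓ nor F) → cj g D ≤ cen (cj g K ⊓ nor (cj g F)) := fun g K D F h => by
    have := cj_mono g h
    rwa [cj_cen, cj_inf, cj_nor] at this
  have tr' : ∀ g {K D : Subgroup G}, ¬ D ≤ cen K → ¬ cj g D ≤ cen (cj g K) := fun g K D h e =>
    h (cj_le_cj_iff.1 (cj_cen g K ▸ e))
  have A : ∀ g ∈ S, g ∉ nor D₂ → g ∉ nor D₁ := fun g hg h e => x1 fun d hd => by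
    have := tr g c1
    rw [cj_eq_self e, cj_eq_self (o.f2.nK hg), (m2.swap o.f2 hg h).1] at this
    exact m2.cc d (m1.le hd).1 (c1 hd) (this hd)
  obtain ⟨y, y1, y2, y3⟩ := m2.sw
  have yn : y ∉ nor D₂ := fun e => m2.ne ((cj_eq_self e).symm.trans y2)
  obtain ⟨y4, -⟩ := m1.swap o.f1 y1 (A y y1 yn)
  have nn : ∀ g ∈ S, g ∈ nor D₁ ↔ g ∈ nor D₂ := fun g hg => ⟨fun h => by_contra fun e => A g hg e h, fun h =>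
    by_contra fun e => A _ (mul_mem hg y1) (fun e' => yn ((mul_mem_cancel_left h).1 e')) (m1.two o.f1 hg y1 e (A y y1 yn))⟩
  have c1' := tr y c1
  have x1' := tr' y x1
  rw [y4, cj_eq_self (o.f2.nK y1)] at c1' x1'
  rw [y2] at c1'
  have l : ∀ {K K' D : Subgroup G}, cj t K = K' → D ≤ S ⊓ K → cj t D ≤ S ⊓ K' := fun e h =>
    (cj_mono t h).trans (by rw [cj_inf, cj_eq_self o.fc1.tS, e])
  have s1' := (m2.v4 _ (l o.k1 m1.le') (m1.v'.cj t)).resolve_left fun e => m1.ne (cj_inj.1 (s1.trans e.symm))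
  have c2 := tr t c1
  have c2' := tr t c1'
  have x2 := tr' t x1
  have x2' := tr' t x1'
  rw [s1, o.k2] at c2 x2
  rw [s1', o.k2] at c2' x2'
  rcases m1.v4 _ (l o.k2 m2.le) (m2.v.cj t) with s2 | s2
  · have s2' := (m1.v4 _ (l o.k2 m2.le') (m2.v'.cj t)).resolve_left fun e => m2.ne (cj_inj.1 (s2.trans e.symm))
    exact ⟨o, m1, m2, c1, c1', s2 ▸ c2, s2' ▸ c2', x1, x1', x2, x2', nn, s1, s1', s2, s2'⟩
  obtain ⟨d₁, x₁, a⟩ := o.f1.xd m1.le m1.v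
  obtain ⟨d₂, x₂, b⟩ := o.f2.xd m2.le m2.v
  have h1 := com (m1.flip o.f1 (o.symm.Y2 m1 (m2.le b.dD)) (s2 ▸ c2 b.dD) fun e => x2 (le_cen_of b o.zc e)) a.xN
  have zc := com o.zc a.xN.1
  have dz := (zcom o.f1.zP (m1.le a.dD).1).eq
  refine (o.fc1.nc (((isConj_iff.2 ⟨x₂, b.xz⟩).trans (isConj_iff.2 ⟨x₁ * x₁, ?_⟩)).trans
    (isConj_iff.2 ⟨x₂ * x₁, rfl⟩).symm)).elim
  rw [← o.ez, conj_conj x₂, conj_dist x₁, a.xz, conj_fix zc, conj_dist x₂, b.xz, conj_fix (com (c1 a.dD) b.xN),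
    ← mul_one d₂, ← o.f1.z2, ← mul_assoc d₂, conj_dist, conj_fix (h1.mul_left h1), conj_conj, a.xz, a.xd, dz,
    mul_assoc d₂, lc o.f1.z2, one_mul, mul_assoc d₂, o.f1.z2, mul_one, (com (o.uu (m1.le a.dD)) (m2.le b.dD)).eq]

theorem OC.omB (o : OC M T S K₁ K₂ s z₁ z₂ z t) (m1 : M4 S K₁ z₁ D₁ D₁' α₁) (m2 : M4 S K₂ z₂ D₂ D₂' α₂)
    (c1 : D₁ ≤ cen (K₂ ⊓ nor D₂)) (x1 : ¬ D₁ ≤ cen K₂) : ∃ t, OM M T S K₁ K₂ D₁ D₁' D₂ D₂' s z₁ z₂ z t α₁ α₂ := by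
  rcases m2.v4 _ ((cj_mono t m1.le).trans (by rw [cj_inf, cj_eq_self o.fc1.tS, o.k1])) (m1.v.cj t) with e | e
  · exact ⟨_, o.om4 m1 m2 c1 x1 e⟩
  · obtain ⟨y, y1, -, y3⟩ := m2.sw
    exact ⟨_, (o.shift y1).om4 m1 m2 c1 x1 (by rw [← cj_cj, e, y3])⟩

theorem OC.omA (o : OC M T S K₁ K₂ s z₁ z₂ z t) (m1 : M4 S K₁ z₁ D₁ D₁' α₁) (m2 : M4 S K₂ z₂ D₂ D₂' α₂)
    (hd : d ∈ D₁) (dn : d ∉ cen K₂) : ∃ D₂ D₂' α₂ t, OM M T S K₁ K₂ D₁ D₁' D₂ D₂' s z₁ z₂ z t α₁ α₂ := by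
  have zc := o.symm.zc
  have d1 : d ≠ 1 := fun e => dn (e ▸ one_mem _)
  have eD := m1.v.eq_pair m1.zD hd o.f1.z1 d1 fun e => dn (e ▸ zc)
  have L : ∀ F : Subgroup G, d ∈ cen (K₂ ⊓ F) → D₁ ≤ cen (K₂ ⊓ F) := fun F h =>
    eD ▸ pair_le.2 ⟨centralizer_anti inf_le_left zc, h⟩
  rcases m2.memY o.f2 (o.Y2 m2 (m1.le hd)) with e | e | e | e
  exacts [(dn e).elim, (o.nz1 d (m1.le hd) (m1.v.sq hd) d1 e).elim,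
    ⟨_, _, _, o.omB m1 m2 (L _ ((mul_mem_cancel_right m2.a1).1 (centralizer_anti inf_le_left e))) fun h => dn (h hd)⟩,
    ⟨_, _, _, o.omB m1 (m2.symm' o.f2.toB4) (L _ ((mul_mem_cancel_right m2.a2).1 (centralizer_anti inf_le_left (by
      rw [← (zcom o.f2.zP m2.aP).symm.eq, ← mul_assoc]; exact e)))) fun h => dn (h hd)⟩]

theorem Xd.d1 (h : Xd K D z₀ d x) (z1 : z₀ ≠ 1) : d ≠ 1 := h.xz ▸ conj_ne x z1

theorem Xd.dz (h : Xd K D z₀ d x) (z1 : z₀ ≠ 1) (z2 : z₀ * z₀ = 1) : d ≠ z₀ := fun e =>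
  h.d1 z1 (by have := h.xd; rw [e, h.xz, e, z2] at this; exact e.trans this)

theorem M4.de (m : M4 P K z₀ D D' α) (f : F4 M P K z₀) (a : Xd K D z₀ d x) (b : Xd K D' z₀ e w) :
    d * e * (d * e) = z₀ := by
  have dz := a.dz f.z1 f.z2
  have c := zcom f.zP (m.le a.dD).1
  rcases m.v.cases m.zD a.dD f.z1 (a.d1 f.z1) dz.symm (conj_mem_of_mem_normalizer (m.n1 b.dD) a.dD) with h | h | h | h
  · exact (conj_ne e (a.d1 f.z1) h).elim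
  · exact (dz (by simpa using h.trans (conj_fix (zcom f.zP (m.le' b.dD).1)).symm)).elim
  · have : e ∈ cen D := cen_symm (le_cen_of a ((cen1_eq _).le (mem_cen1.2 (zcom f.zP (m.le' b.dD).1).symm))
      ((cen1_eq _).le (mem_cen1.2 (comm_of_fix h).symm))) (mem_zpowers e)
    exact ((m.inter f.z1 (f.cD D (m.le.trans inf_le_right) m.v ⟨(m.le' b.dD).2, this⟩) b.dD).elim (b.d1 f.z1)
      (b.dz f.z1 f.z2)).elim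
  · rw [inv_of_sq (m.v'.sq b.dD)] at h
    rw [mul_assoc, ← mul_assoc e, h, ← c.eq, lc (m.v.sq a.dD), one_mul]

theorem F4.memZ (f : F4 M P K z₀) : c ∈ zpowers z₀ ⊔ cen K ↔ c ∈ cen K ∨ c * z₀ ∈ cen K := by
  rw [sup_comm]; exact mem_sup_zp (le_normalizer_centralizer f.nK f.zP.1) (f.z2 ▸ one_mem _)

namespace OM
variable (o : OM M T S K₁ K₂ D₁ D₁' D₂ D₂' s z₁ z₂ z t α₁ α₂)
include o

theorem symm : OM M T S K₂ K₁ D₂ D₂' D₁ D₁' s z₂ z₁ z t α₂ α₁ :=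
  ⟨o.toOC.symm, o.m2, o.m1, o.c2, o.c2', o.c1, o.c1', o.x2, o.x2', o.x1, o.x1', fun g hg => (o.nn g hg).symm,
    o.s2, o.s2', o.s1, o.s1'⟩

theorem sid {d₁ e₁ d₂ e₂ x₁ w₁ x₂ w₂ : G} (a : Xd K₁ D₁ z₁ d₁ x₁) (a' : Xd K₁ D₁' z₁ e₁ w₁) (b : Xd K₂ D₂ z₂ d₂ x₂)
    (b' : Xd K₂ D₂' z₂ e₂ w₂) : Sid z₁ d₁ e₁ z₂ d₂ e₂ x₁ w₁ :=
  ⟨o.m1.v.sq a.dD, o.m1.v'.sq a'.dD, o.m1.de o.f1 a a', o.f1.z2, o.f1.z1, a.x3, a.xz, a.xd, a'.x3, a'.xz, a'.xd,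
    com o.zc a.xN.1, com (o.c2 b.dD) a.xN,
    com (o.m1.flip o.f1 (o.toO0.symm.Y2 o.m1 (o.m2.le' b'.dD)) (o.c2' b'.dD) fun e => o.x2' (le_cen_of b' o.zc e)) a.xN,
    com o.zc a'.xN.1, com (o.c2' b'.dD) a'.xN,
    com ((o.m1.symm' o.f1.toB4).flip o.f1 (o.toO0.symm.Y2 (o.m1.symm' o.f1.toB4) (o.m2.le b.dD)) (o.c2 b.dD)
      fun e => o.x2 (le_cen_of b o.zc e)) a'.xN⟩

theorem U : S ⊓ K₁ = D₁ ⊔ D₁' := o.m1.u8 o.d1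

theorem cU : D₁ ⊔ D₁' ≤ cen (D₂ ⊔ D₂') := o.U ▸ o.symm.U ▸ o.uu

theorem nW : S ⊔ zpowers t ≤ nor (D₁ ⊔ D₁' ⊔ (D₂ ⊔ D₂')) :=
  sup_le (le_normalizer_sup (o.U ▸ o.f1.nU) (o.symm.U ▸ o.f2.nU)) (zpowers_le.2 (cj_eq_self_iff.1 (by
    rw [cj_sup, cj_sup, cj_sup, o.s1, o.s1', o.s2, o.s2', sup_comm])))

theorem nY : S ⊔ zpowers t ≤ nor (S ⊓ cen (D₁ ⊔ D₁' ⊔ (D₂ ⊔ D₂'))) :=
  le_normalizer_inf (sup_le le_normalizer (zpowers_le.2 o.fc1.tS)) (le_normalizer_centralizer o.nW)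

theorem Y1 : S ⊓ cen (D₁ ⊔ D₁' ⊔ (D₂ ⊔ D₂')) ≤ S ⊓ cen (D₁ ⊔ D₁') := inf_le_inf_left _ (centralizer_anti le_sup_left)

theorem Y2' : S ⊓ cen (D₁ ⊔ D₁' ⊔ (D₂ ⊔ D₂')) ≤ S ⊓ cen (D₂ ⊔ D₂') := inf_le_inf_left _ (centralizer_anti le_sup_right)

theorem WS : D₁ ⊔ D₁' ⊔ (D₂ ⊔ D₂') ≤ S := sup_le (o.m1.U8.trans inf_le_left) (o.m2.U8.trans inf_le_left)

theorem memP (hg : g ∈ S) (h : g ∈ nor D₁) :
    g ∈ D₁ ⊔ D₁' ⊔ (D₂ ⊔ D₂') ⊔ S ⊓ cen (D₁ ⊔ D₁' ⊔ (D₂ ⊔ D₂')) := by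
  obtain ⟨a, ha, h1⟩ := o.m1.dec o.f1 ⟨hg, h⟩
  obtain ⟨b, hb, h2⟩ := o.m2.dec o.f2 ⟨h1.1, (o.nn _ h1.1).1 (mul_mem h (o.m1.n8 ha).2)⟩
  refine (mul_mem_cancel_right (mem_sup_left (mem_sup_left ha))).1 ((mul_mem_cancel_right (mem_sup_left
    (mem_sup_right hb))).1 (mem_sup_right ⟨h2.1, ?_⟩))
  rw [cen_sup (D₁ ⊔ D₁')]
  exact ⟨mul_mem h1.2 (o.symm.cU hb), h2.2⟩

theorem zY : closure {z₁, z₂} ≤ S ⊓ cen (D₁ ⊔ D₁' ⊔ (D₂ ⊔ D₂')) :=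
  pair_le.2 ⟨⟨o.f1.zP.1, centralizer_anti o.WS o.f1.zP.2⟩, o.f2.zP.1, centralizer_anti o.WS o.f2.zP.2⟩

theorem oa {d₁ e₁ d₂ e₂ x₁ w₁ x₂ w₂ y : G} (a : Xd K₁ D₁ z₁ d₁ x₁) (a' : Xd K₁ D₁' z₁ e₁ w₁) (b : Xd K₂ D₂ z₂ d₂ x₂)
    (b' : Xd K₂ D₂' z₂ e₂ w₂) (y1 : y ∈ S) (yn : y ∉ nor D₁) :
    OA S (D₁ ⊔ D₁' ⊔ (D₂ ⊔ D₂')) (S ⊓ cen (D₁ ⊔ D₁' ⊔ (D₂ ⊔ D₂'))) z₁ d₁ e₁ z₂ d₂ e₂ x₁ w₁ x₂ w₂ t y := by
  have A := o.sid a a' b b'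
  have B := o.symm.sid b b' a a'
  have g1 : closure {d₁, e₁} = D₁ ⊔ D₁' := by rw [A.gen, ← a.eD, ← a'.eD]
  have g2 : closure {d₂, e₂} = D₂ ⊔ D₂' := by rw [B.gen, ← b.eD, ← b'.eD]
  obtain ⟨u1, u1'⟩ := o.m1.swap o.f1 y1 yn
  obtain ⟨u2, u2'⟩ := o.m2.swap o.f2 y1 fun h => yn ((o.nn y y1).2 h)
  refine ⟨A, B, g1 ▸ g2 ▸ o.cU, ?_, by rw [g1, g2], ea_of_sq fun q hq => o.qq.le ⟨⟨mul_mem hq.1 hq.1,
    o.m1.sqY o.f1 (o.Y1 hq)⟩, o.m2.sqY o.f2 (o.Y2' hq)⟩, inf_le_right, sup_le o.WS inf_le_left,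
    le_normalizer_sup o.nW o.nY, y1, o.fc1.tS, o.fc1.tt, fun g hg => ?_, a.eD ▸ a'.eD ▸ u1, a.eD ▸ a'.eD ▸ u1',
    b.eD ▸ b'.eD ▸ u2, b.eD ▸ b'.eD ▸ u2', a.eD ▸ b.eD ▸ o.s1, a'.eD ▸ b'.eD ▸ o.s1', a.eD ▸ b.eD ▸ o.s2,
    a'.eD ▸ b'.eD ▸ o.s2', o.t1, o.t2, o.co, o.ez ▸ o.fc2.nc, fun j hj c => o.memP hj ?_⟩
  · rw [g1, g2, ← o.U, ← o.symm.U, eq_bot_iff, ← o.ui]
    exact fun q hq => ⟨hq.1, hq.2.2⟩
  · by_cases h : g ∈ nor D₁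
    exacts [.inl (o.memP hg h), .inr (o.memP (mul_mem hg y1) (o.m1.two o.f1 hg y1 h yn))]
  · have tc := o.fc1.zt.tc.of_isConj (o.ez ▸ c)
    obtain ⟨F, f1, f2, f3⟩ := o.f1.rr o.d1 j hj tc.1 (o.fc1.rule j tc (zcom o.fc1.tr.iS hj))
    rcases o.m1.v4 F f1 f2 with rfl | rfl
    exacts [f3, (o.m1.symm' o.f1.toB4).nn o.f1 hj f3]

end OM

theorem jobOb0 : JOb0.{u} := fun G _ _ M T S K₁ K₂ D₁ D₁' D₂ D₂' s z₁ z₂ z t α₁ α₂ k o m1 m2 ⟨d, hd, dd, dn⟩ => by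
  obtain ⟨D₁, D₁', α₁, D₂, D₂', α₂, t, o⟩ : ∃ D₁ D₁' α₁ D₂ D₂' α₂ t, OM M T S K₁ K₂ D₁ D₁' D₂ D₂' s z₁ z₂ z t α₁ α₂ :=
    (m1.inv d hd dd).elim (fun h => ⟨_, _, _, o.omA m1 m2 h dn⟩) fun h => ⟨_, _, _, o.omA (m1.symm' o.f1.toB4) m2 h dn⟩
  obtain ⟨d₁, x₁, a⟩ := o.f1.xd o.m1.le o.m1.v
  obtain ⟨e₁, w₁, a'⟩ := o.f1.xd o.m1.le' o.m1.v'
  obtain ⟨d₂, x₂, b⟩ := o.f2.xd o.m2.le o.m2.v
  obtain ⟨e₂, w₂, b'⟩ := o.f2.xd o.m2.le' o.m2.v'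
  obtain ⟨y, y1, y2, -⟩ := o.m1.sw
  have A := o.oa a a' b b' y1 fun e => o.m1.ne ((cj_eq_self e).symm.trans y2)
  have eT : S ⊔ zpowers t = T := by
    by_contra h
    obtain ⟨g, -, g2, g3, -⟩ := exists_sq_mem o.fc1.zt.syl.isPGroup
      (lt_of_le_of_ne (sup_le o.fc1.zt.ST (zpowers_le.2 o.fc1.tT)) h)
    exact g3 (A.wc ((cj_mono g (o.WS.trans le_sup_left)).trans (cj_eq_self g2).le))
  have md := mem_pair_left d₁ e₁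
  have me := mem_pair_right d₁ e₁
  have md' := mem_pair_left d₂ e₂
  have me' := mem_pair_right d₂ e₂
  have z1 := o.toO0.symm.zc
  have z2 := o.zc
  have p1 := mem_pair_left z₁ z₂
  have p2 := mem_pair_right z₁ z₂
  have nZ : ∀ {K z₀}, F4 M S K z₀ → S ≤ nor (S ⊓ cen (D₁ ⊔ D₁' ⊔ (D₂ ⊔ D₂')) ⊓ (zpowers z₀ ⊔ cen K)) := fun f =>
    le_normalizer_inf (le_sup_left.trans o.nY) (le_normalizer_sup (le_normalizer_of_le_centralizer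
      (cen_symm (zpowers_le.2 f.zP.2))) (le_normalizer_centralizer f.nK))
  have tY := cj_eq_self (o.nY (mem_sup_right (mem_zpowers t)))
  refine ⟨_, _, _ ⊓ (zpowers z₁ ⊔ cen K₁), _ ⊓ (zpowers z₂ ⊔ cen K₂), d₁, e₁, d₂, e₂, x₁, w₁, x₂, w₂, t, y, A.a, A.b,
    A.cm md md', A.cm md me', A.cm me md', A.cm me me', A.ui, A.eW, o.fc1.zt.syl, k.res, A.Ye, A.Yc,
    le_antisymm (fun q hq => ?_) (le_inf o.zY (pair_le.2 ⟨A.U1 A.a.zm, A.U2 A.b.zm⟩)), inf_le_left, inf_le_left,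
    le_antisymm (fun q hq => ?_) (le_inf (le_inf o.zY (pair_le.2 ⟨mem_sup_left (mem_zpowers _), mem_sup_right z2⟩))
      (le_inf o.zY (pair_le.2 ⟨mem_sup_right z1, mem_sup_left (mem_zpowers _)⟩))),
    fun q hq q' hq' h h' => ⟨mul_mem hq hq', o.m1.idx o.f1 (o.Y1 hq) (o.Y1 hq') (fun e => h ⟨hq, e⟩) fun e => h' ⟨hq', e⟩⟩,
    fun q hq q' hq' h h' => ⟨mul_mem hq hq', o.m2.idx o.f2 (o.Y2' hq) (o.Y2' hq') (fun e => h ⟨hq, e⟩) fun e => h' ⟨hq', e⟩⟩,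
    fun q hq h => (o.m1.cases o.f1 (o.Y1 hq) fun e => h ⟨hq, e⟩).imp (fun e => ⟨com e.1 a.xN, com e.2 a'.xN⟩)
      fun e => ⟨com e.1 a.xN, com e.2 a'.xN⟩,
    fun q hq h => (o.m2.cases o.f2 (o.Y2' hq) fun e => h ⟨hq, e⟩).imp (fun e => ⟨com e.1 b.xN, com e.2 b'.xN⟩)
      fun e => ⟨com e.1 b.xN, com e.2 b'.xN⟩,
    A.pS, o.fc1.zt.ST, y1, o.fc1.tT, A.mS, fun g hg => (mem_sup_zp A.tS A.tt).1 (eT.ge hg), A.u1, A.u1', A.u2, A.u2',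
    A.t1, A.t1', A.t2, A.t2', A.tz1, A.tz2, eT ▸ o.nY, nZ o.f1, nZ o.f2, ?_, ?_, A.co,
    fun g h => eT.le (A.wc ((cj_mono g le_sup_left).trans (h.trans eT.ge))), A.nc, fun j hj jj j1 => ?_, A.nz⟩
  · obtain ⟨p, hp, r, hr, rfl⟩ := (mem_sup_of_cen o.cU).1 hq.2
    have h1 := o.m1.cen8 o.f1 (o.m1.U8 hp).2 ((mul_mem_cancel_right (o.symm.cU hr)).1 (o.Y1 hq.1).2)
    have h2 := o.m2.cen8 o.f2 (o.m2.U8 hr).2 ((mul_mem_cancel_left (o.cU hp)).1 (o.Y2' hq.1).2)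
    exact mul_mem (h1.elim (· ▸ one_mem _) (· ▸ p1)) (h2.elim (· ▸ one_mem _) (· ▸ p2))
  · have Q : ∀ p ∈ closure {z₁, z₂}, q * p ∈ cen K₁ → q * p ∈ cen K₂ → q ∈ closure {z₁, z₂} := fun p hp h h' =>
      (mul_mem_cancel_right hp).1 ((o.qq.le ⟨⟨mul_mem hq.1.1.1 (o.zY hp).1, h⟩, h'⟩ : q * p = 1) ▸ one_mem _)
    rcases o.f1.memZ.1 hq.1.2 with h | h <;> rcases o.f2.memZ.1 hq.2.2 with h' | h'
    exacts [Q 1 (one_mem _) (mul_mem h (one_mem _)) (mul_mem h' (one_mem _)), Q _ p2 (mul_mem h z2) h', Q _ p1 h (mul_mem h' z1),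
      Q _ (mul_mem p1 p2) (mul_assoc q z₁ z₂ ▸ mul_mem h z2) (by rw [A.zz.eq, ← mul_assoc]; exact mul_mem h' z1)]
  · rw [cj_inf, tY, cj_sup, cj_zpowers, cj_cen, o.t1, o.k1]
  · rw [cj_inf, tY, cj_sup, cj_zpowers, cj_cen, o.t2, o.k2]
  · obtain ⟨c, -, e⟩ := o.f2.one j (o.rs2 hj) jj j1
    exact A.c12.trans (isConj_iff.2 ⟨c, e⟩)

end H97.QU
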