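import Cfsg.Agent.H97.QUOb4

/-! Job JOb0 of `blueprints/QU.md`, part 1: weak closure of `W = U₁ × U₂`. -/

set_option autoImplicit false
set_option linter.unusedSectionVars false
set_option linter.unusedSimpArgs false

namespace H97.QU

open Subgroup Cfsg H98 H96.CG
open H52 (zc)
open scoped commutatorElement

universe u

variable {G : Type u} [Group G] [Finite G] {S W Y R : Subgroup G}
  {z₁ d₁ e₁ z₂ d₂ e₂ x₁ w₁ x₂ w₂ t u a b f g p y : G}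

structure OA (S W Y : Subgroup G) (z₁ d₁ e₁ z₂ d₂ e₂ x₁ w₁ x₂ w₂ t u : G) : Prop where
  a : Sid z₁ d₁ e₁ z₂ d₂ e₂ x₁ w₁
  b : Sid z₂ d₂ e₂ z₁ d₁ e₁ x₂ w₂
  cU : closure {d₁, e₁} ≤ cen (closure {d₂, e₂})
  ui : closure {d₁, e₁} ⊓ closure {d₂, e₂} = (⊥ : Subgroup G)
  eW : W = closure {d₁, e₁} ⊔ closure {d₂, e₂}
  Ye : IsElementaryAbelian 2 Y
  Yc : Y ≤ cen W
  pS : W ⊔ Y ≤ S
  nP : S ⊔ zpowers t ≤ nor (W ⊔ Y)
  uS : u ∈ S
  tS : t ∈ nor S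
  tt : t * t ∈ S
  mS : ∀ g ∈ S, g ∈ W ⊔ Y ∨ g * u ∈ W ⊔ Y
  u1 : cj u (closure {z₁, d₁}) = closure {z₁, e₁}
  u1' : cj u (closure {z₁, e₁}) = closure {z₁, d₁}
  u2 : cj u (closure {z₂, d₂}) = closure {z₂, e₂}
  u2' : cj u (closure {z₂, e₂}) = closure {z₂, d₂}
  t1 : cj t (closure {z₁, d₁}) = closure {z₂, d₂}
  t1' : cj t (closure {z₁, e₁}) = closure {z₂, e₂}
  t2 : cj t (closure {z₂, d₂}) = closure {z₁, d₁}
  t2' : cj t (closure {z₂, e₂}) = closure {z₁, e₁}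
  tz1 : t * z₁ * t⁻¹ = z₂
  tz2 : t * z₂ * t⁻¹ = z₁
  co : cen1 z₁ ⊓ cen1 z₂ = S
  nc : ¬ IsConj z₁ (z₁ * z₂)
  nz : ∀ j ∈ S, IsConj (z₁ * z₂) j → j ∈ W ⊔ Y

namespace OA
variable (o : OA S W Y z₁ d₁ e₁ z₂ d₂ e₂ x₁ w₁ x₂ w₂ t u)
include o

theorem U1 : closure {d₁, e₁} ≤ W := o.eW ▸ le_sup_left

theorem U2 : closure {d₂, e₂} ≤ W := o.eW ▸ le_sup_right

theorem cm (ha : a ∈ closure {d₁, e₁}) (hb : b ∈ closure {d₂, e₂}) : Commute a b := (com (o.cU ha) hb).symm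

theorem zz : Commute z₁ z₂ := o.cm o.a.zm o.b.zm

theorem c12 : IsConj z₁ z₂ := isConj_iff.2 ⟨t, o.tz1⟩

theorem sw12 : OA S W Y z₂ d₂ e₂ z₁ d₁ e₁ x₂ w₂ x₁ w₁ t u :=
  { o with
    a := o.b, b := o.a, cU := cen_symm o.cU, ui := (inf_comm _ _).trans o.ui, eW := o.eW.trans (sup_comm _ _)
    u1 := o.u2, u1' := o.u2', u2 := o.u1, u2' := o.u1', t1 := o.t2, t1' := o.t2', t2 := o.t1, t2' := o.t1'
    tz1 := o.tz2, tz2 := o.tz1, co := (inf_comm _ _).trans o.co, nc := fun h => o.nc (o.zz.eq ▸ o.c12.trans h)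
    nz := o.zz.eq ▸ o.nz }

theorem swde : OA S W Y z₁ e₁ d₁ z₂ e₂ d₂ w₁ x₁ w₂ x₂ t u :=
  { o with
    a := o.a.symm, b := o.b.symm, cU := Set.pair_comm d₁ e₁ ▸ Set.pair_comm d₂ e₂ ▸ o.cU
    ui := Set.pair_comm d₁ e₁ ▸ Set.pair_comm d₂ e₂ ▸ o.ui, eW := Set.pair_comm d₁ e₁ ▸ Set.pair_comm d₂ e₂ ▸ o.eW
    u1 := o.u1', u1' := o.u1, u2 := o.u2', u2' := o.u2, t1 := o.t1', t1' := o.t1, t2 := o.t2', t2' := o.t2 }

theorem split (ha : a ∈ closure {d₁, e₁}) (hb : b ∈ closure {d₂, e₂}) (h : a * b = 1) : a = 1 :=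
  o.ui.le (mem_inf.2 ⟨ha, eq_inv_of_mul_eq_one_left h ▸ inv_mem hb⟩)

theorem dec (hg : g ∈ W ⊔ Y) : ∃ a ∈ closure {d₁, e₁}, ∃ b ∈ closure {d₂, e₂}, ∃ y ∈ Y, g = a * (b * y) := by
  obtain ⟨w, hw, y, hy, rfl⟩ := (mem_sup_of_cen (cen_symm o.Yc)).1 hg
  obtain ⟨a, ha, b, hb, rfl⟩ := (mem_sup_of_cen o.cU).1 (o.eW.le hw)
  exact ⟨a, ha, b, hb, y, hy, mul_assoc _ _ _⟩

theorem cen1' (hb : b ∈ closure {d₂, e₂}) (hy : y ∈ Y) : b * y ∈ cen (closure {d₁, e₁}) :=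
  mul_mem (cen_symm o.cU hb) (centralizer_anti o.U1 (o.Yc hy))

theorem nD : W ⊔ Y ≤ nor (closure {z₁, d₁}) := fun _ hg => by
  obtain ⟨a, ha, b, hb, y, hy, rfl⟩ := o.dec hg
  exact mul_mem (o.a.nD ha) (centralizer_le_normalizer _ (centralizer_anti o.a.Dle (o.cen1' hb hy)))

theorem ne : closure {z₁, d₁} ≠ closure {z₁, e₁} := fun h =>
  o.a.ncomm (ea_com o.a.ea (mem_pair_right _ _) (h ▸ mem_pair_right _ _))

theorem memP (hg : g ∈ S) (h : g ∈ nor (closure {z₁, d₁})) : g ∈ W ⊔ Y := (o.mS g hg).resolve_right fun e =>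
  o.ne ((cj_eq_self ((mul_mem_cancel_left h).1 (o.nD e))).symm.trans o.u1)

theorem sq (ha : a ∈ closure {d₁, e₁}) (hb : b ∈ closure {d₂, e₂}) (hy : y ∈ Y) :
    a * (b * y) * (a * (b * y)) = a * a * (b * b) := by
  rw [(com (o.cen1' hb hy) ha).symm.mul_mul_mul_comm, (com (o.Yc hy) (o.U2 hb)).symm.mul_mul_mul_comm, ea_sq o.Ye hy, mul_one]

theorem zcls (ha : a ∈ closure {z₁, d₁}) (a1 : a ≠ 1) : IsConj (z₁ * z₂) (a * z₂) :=
  (o.a.orb ha o.a.xz').resolve_left a1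

theorem fix1 (h : cj g W ≤ S) : g * z₁ * g⁻¹ = z₁ ∨ g * z₁ * g⁻¹ = z₂ := by
  have md := mem_pair_left d₁ e₁
  have me := mem_pair_right d₁ e₁
  have h1 := o.nz _ (h (conj_mem_cj (mul_mem (o.U1 md) (o.U2 o.b.zm)))) ((o.zcls (mem_pair_right _ _)
    fun e => o.a.ncomm (e ▸ Commute.one_left _)).trans (isConj_conj g _))
  have h2 := o.nz _ (h (conj_mem_cj (mul_mem (o.U1 me) (o.U2 o.b.zm)))) ((o.swde.zcls (mem_pair_right _ _)
    fun e => o.a.ncomm (e ▸ Commute.one_right _)).trans (isConj_conj g _))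
  obtain ⟨a, ha, b, hb, y, hy, e⟩ := o.dec (mul_mem h1 h2)
  have := o.sq ha hb hy
  rw [← e, ← conj_dist, ← conj_dist, (o.cm me o.b.zm).symm.mul_mul_mul_comm, o.b.z2, mul_one, o.a.de] at this
  rcases o.a.sqU ha with h | h <;> rcases o.b.sqU hb with h' | h' <;> rw [h, h'] at this
  exacts [(conj_ne g o.a.z1 (this.trans (mul_one 1))).elim, .inr (this.trans (one_mul _)), .inl (this.trans (mul_one _)),
    (o.nc (this ▸ isConj_conj g z₁)).elim]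

theorem wc0 (h : cj g W ≤ S) : g ∈ S ⊔ zpowers t := by
  have ne : z₁ ≠ z₂ := fun e => o.a.z1 (o.ui.le ⟨o.a.zm, e ▸ o.b.zm⟩)
  rcases o.fix1 h with e | e <;> rcases o.sw12.fix1 h with e' | e'
  · exact mem_sup_left (o.co.le ⟨mem_cen1.2 (comm_of_fix e), mem_cen1.2 (comm_of_fix e')⟩)
  · exact (ne (by simpa using e.trans e'.symm)).elim
  · exact (ne (by simpa using e.trans e'.symm)).elim
  · exact (mem_sup_zp o.tS o.tt).2 (.inr (o.co.le ⟨mem_cen1.2 (comm_of_fix (by rw [conj_conj, o.tz1, e'])),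
      mem_cen1.2 (comm_of_fix (by rw [conj_conj, o.tz2, e]))⟩))

theorem sqP (hg : g ∈ S ⊔ zpowers t) : g * g ∈ W ⊔ Y := by
  have hu := o.nP (mem_sup_left o.uS)
  have ht := o.nP (mem_sup_right (mem_zpowers t))
  rcases (mem_sup_zp o.tS o.tt).1 hg with h | h <;> rcases o.mS _ h with h | h
  · exact mul_mem h h
  · exact sq_mem_of hu (o.memP (mul_mem o.uS o.uS) (cj_eq_self_iff.1 (by rw [← cj_cj, o.u1, o.u1']))) h
  · exact sq_mem_of ht (o.memP o.tt (cj_eq_self_iff.1 (by rw [← cj_cj, o.t1, o.t2]))) h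
  · refine sq_mem_of (mul_mem ht hu) (o.memP ?_ (cj_eq_self_iff.1 (by
      rw [← cj_cj, ← cj_cj, ← cj_cj, o.u1, o.t1', o.u2', o.t2]))) (mul_assoc g t u ▸ h)
    rw [show t * u * (t * u) = t * u * t⁻¹ * (t * t) * u by group]
    exact mul_mem (mul_mem (conj_mem_of_mem_normalizer o.tS o.uS) o.tt) o.uS

theorem lemC (hf : f ∈ W ⊔ Y) (ff : f * f = 1) (fn : f ∉ cen (closure {z₁, e₁})) (hp : p ∈ W ⊔ Y) (c : Commute p f) :
    p ∈ cen (closure {z₁, d₁}) := by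
  obtain ⟨a, ha, b, hb, y, hy, rfl⟩ := o.dec hf
  obtain ⟨a', ha', b', hb', y', hy', rfl⟩ := o.dec hp
  have aa := o.split (mul_mem ha ha) (mul_mem hb hb) ((o.sq ha hb hy).symm.trans ff)
  have n : a ∉ closure {z₁, e₁} := fun h => fn (mul_mem (H12.ea_le_centralizer o.a.symm.ea h)
    (centralizer_anti o.swde.a.Dle (o.swde.cen1' (Set.pair_comm d₂ e₂ ▸ hb) hy)))
  have m := mul_mem (mul_mem hb' hb) (inv_mem hb')
  have c' : Commute a' a := comm_of_fix (inv_mul_eq_one.1 (o.split (mul_mem (inv_mem ha) (mul_mem (mul_mem ha' ha)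
    (inv_mem ha'))) (mul_mem m (inv_mem hb)) (by
      have := conj_fix c
      rw [conj_conj, conj_dist (b' * y'), conj_fix (com (o.cen1' hb' hy') ha).symm, conj_conj,
        conj_fix ((com (o.Yc hy') (o.U2 hb)).symm.mul_right (ea_com o.Ye hy' hy)), conj_dist b',
        conj_fix (com (o.Yc hy) (o.U2 hb')), conj_dist a', conj_fix (com (o.cen1' m hy) ha'), ← mul_assoc, ← mul_assoc a b,
        mul_left_inj] at this
      rw [mul_assoc, ← mul_assoc (a' * a * a'⁻¹), this]; group))).symm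
  refine mul_mem (H12.ea_le_centralizer o.a.ea (o.a.cend ha' ?_)) (centralizer_anti o.a.Dle (o.cen1' hb' hy'))
  rcases o.a.mem.1 ((o.a.invol ha aa).resolve_right n) with rfl | rfl | rfl | rfl
  exacts [(n (one_mem _)).elim, (n (mem_pair_left _ _)).elim, c', by
    have := (mem_cen1.1 (pair_le.2 ⟨mem_cen1.2 o.a.dz, mem_cen1.2 o.a.ez⟩ ha')).mul_right c'
    rwa [lc o.a.z2, one_mul] at this]

theorem lemD (ha : a ∈ closure {d₁, e₁}) (hb : b ∈ closure {d₂, e₂}) (hy : y ∈ Y) (h : a * (b * y) ∈ cen (closure {z₁, d₁})) :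
    a * a = 1 := ea_sq o.a.ea (o.a.cend ha (com ((mul_mem_cancel_right (centralizer_anti o.a.Dle (o.cen1' hb hy))).1 h)
      (mem_pair_right _ _)).symm)

variable (h1 : R ≤ S ⊔ zpowers t) (h2 : ¬ R ≤ S) (h3 : ¬ ∀ p ∈ R ⊓ S, p * p = 1)
  (hf : f ∈ W ⊔ Y) (ff : f * f = 1) (fR : f ∈ cen R)
include h1 h2 h3 hf ff fR

theorem lemB : f ∈ cen (closure {z₁, e₁}) := by
  by_contra fn
  have fD := o.lemC hf ff fn hf (Commute.refl f)
  have tr : ∀ p ∈ R, ∀ {F F'}, cj p F = F' → (f ∈ cen F ↔ f ∈ cen F') := fun p hp F F' e => by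
    rw [← e, ← cj_cen, ← conj_mem_cj_iff (g := p), conj_fix (com fR hp)]
  obtain ⟨j, j1, j2⟩ := SetLike.not_le_iff_exists.1 h2
  have jt := ((mem_sup_zp o.tS o.tt).1 (h1 j1)).resolve_left j2
  refine h3 fun p hp => ?_
  have pP := (o.mS p hp.2).resolve_right fun h => fn ((tr p hp.1 (by
    rw [← o.u1', cj_cj, cj_eq_self (o.swde.nD h)])).1 fD)
  have c := com fR hp.1
  have p1 := o.lemC hf ff fn pP c
  obtain ⟨a, ha, b, hb, y, hy, rfl⟩ := o.dec pP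
  rw [o.sq ha hb hy, o.lemD ha hb hy p1, one_mul]
  have e : a * (b * y) = b * (a * y) := (o.cm ha hb).left_comm y
  rcases o.mS _ jt with h | h
  · exact o.sw12.lemD hb ha hy (e ▸ o.sw12.lemC hf ff (fun h' => fn ((tr j j1 (by
      rw [← o.t2', cj_cj, cj_eq_self (o.sw12.swde.nD h)])).2 h')) pP c)
  · exact o.sw12.swde.lemD (Set.pair_comm d₂ e₂ ▸ hb) (Set.pair_comm d₁ e₁ ▸ ha) hy (e ▸ o.sw12.swde.lemC hf ff
      (fun h' => fn ((tr j j1 (by rw [← o.t2', ← o.u2, cj_cj, cj_cj, cj_eq_self (o.sw12.nD h)])).2 h')) pP c)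

theorem lemB' : f ∈ cen W := by
  rw [o.eW, o.a.gen, o.b.gen, cen_sup, cen_sup, cen_sup]
  exact ⟨⟨o.swde.lemB h1 h2 h3 hf ff fR, o.lemB h1 h2 h3 hf ff fR⟩, o.sw12.swde.lemB h1 h2 h3 hf ff fR,
    o.sw12.lemB h1 h2 h3 hf ff fR⟩

omit h1 h2 h3 hf ff fR

theorem zW : z₁ ∈ cen W := by
  rw [o.eW, cen_sup]
  exact ⟨cen_symm (pair_le.2 ⟨(cen1_eq _).le (mem_cen1.2 o.a.dz), (cen1_eq _).le (mem_cen1.2 o.a.ez)⟩) (mem_zpowers _),
    o.cU o.a.zm⟩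

theorem wc1 (h : cj g W ≤ S ⊔ zpowers t) (h2 : ¬ cj g W ≤ S) : g * z₁ * g⁻¹ ∈ cen W := by
  have m := fun a ha => conj_mem_cj (g := g) (x := a) (H := W) ha
  have md := mem_pair_left d₁ e₁
  have me := mem_pair_right d₁ e₁
  refine o.lemB' h h2 (fun H => ?_) (by rw [← o.a.de, conj_dist]; exact o.sqP (h (m _ (o.U1 (mul_mem md me)))))
    (conj_sq g o.a.z2) (cj_cen g W ▸ conj_mem_cj o.zW)
  have A : ∀ a ∈ W, g * a * g⁻¹ ∈ S → a * a = 1 := fun a ha e => by simpa [conj_mul] using H _ ⟨m a ha, e⟩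
  have B : ∀ a ∈ W, ∀ b ∈ W, g * a * g⁻¹ ∉ S → g * b * g⁻¹ ∉ S → g * (a * b) * g⁻¹ ∈ S := fun a ha b hb e e' => by
    have h1 := ((mem_sup_zp o.tS o.tt).1 (h (m a ha))).resolve_left e
    have h2 := ((mem_sup_zp o.tS o.tt).1 (h (m b hb))).resolve_left e'
    rw [conj_dist, show g * a * g⁻¹ * (g * b * g⁻¹) = g * a * g⁻¹ * t * (t⁻¹ * (g * b * g⁻¹ * t * (t * t)⁻¹) * t) by group]
    exact mul_mem h1 (conj_mem_of_mem_normalizer' o.tS (mul_mem h2 (inv_mem o.tt)))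
  have r1 := mul_mem md me
  have r2 := mul_mem (mem_pair_left d₂ e₂) (mem_pair_right d₂ e₂)
  have := A _ (mul_mem (o.U1 r1) (o.U2 r2)) (B _ (o.U1 r1) _ (o.U2 r2) (fun e => o.a.z1 (o.a.de.symm.trans (A _ (o.U1 r1) e)))
    fun e => o.b.z1 (o.b.de.symm.trans (A _ (o.U2 r2) e)))
  rw [(o.cm r1 r2).symm.mul_mul_mul_comm, o.a.de, o.b.de] at this
  exact o.a.z1 (o.split o.a.zm o.b.zm this)

theorem wc (h : cj g W ≤ S ⊔ zpowers t) : g ∈ S ⊔ zpowers t := by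
  by_cases h2 : cj g W ≤ S
  · exact o.wc0 h2
  refine inv_mem_iff.1 (o.wc0 ?_)
  rw [cj_le_iff, inv_inv, ← o.co, cj_inf, cj_cen1, cj_cen1]
  exact fun w hw => ⟨mem_cen1.2 (com (o.wc1 h h2) hw), mem_cen1.2 (com (o.sw12.wc1 h h2) hw)⟩

end OA

end H97.QU
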