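import Cfsg.Agent.H97.QUOb8
import Cfsg.Agent.H20.ZC2

/-! Job JOb4 of `blueprints/QU.md`. -/

set_option autoImplicit false
set_option linter.unusedSectionVars false
set_option linter.unusedSimpArgs false

namespace H97.QU

open Subgroup Cfsg H98 H96.CG
open H52 (zc)
open scoped commutatorElement

universe u

variable {G : Type u} [Group G] [Finite G] {T S W Y Y₁ Y₂ D : Subgroup G}
  {z₁ d₁ e₁ z₂ d₂ e₂ x₁ w₁ x₂ w₂ t u v ω a b c g j x : G}

theorem isConj_sq (e : IsConj a b) (h : a * a = 1) : b * b = 1 := by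
  obtain ⟨g, rfl⟩ := isConj_iff.1 e; exact conj_sq g h

theorem cube_mem (hx : x ∈ nor D) (h : x * x * x = 1) (hc : c ∈ D) : c * x * (c * x) * (c * x) ∈ D := by
  rw [show c * x * (c * x) * (c * x) = c * (x * c * x⁻¹) * (x * x * c * (x * x)⁻¹) * (x * x * x) by group, h, mul_one]
  exact mul_mem (mul_mem hc (conj_mem_of_mem_normalizer hx hc)) (conj_mem_of_mem_normalizer (mul_mem hx hx) hc)

namespace Sid
variable {z d e z' d' e' w : G} (h : Sid z d e z' d' e' x w)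
include h

theorem cube : x * x * x = 1 := by rw [← pow_three', ← h.x3, pow_orderOf_eq_one]

theorem xD : x ∈ nor (closure {z, d}) := nor_pair (h.xz ▸ mem_pair_right _ _)
  (h.xd ▸ mul_mem (mem_pair_right _ _) (mem_pair_left _ _))

theorem cend (ha : a ∈ closure {d, e}) (c : Commute a d) : a ∈ closure {z, d} := (h.memU ha).resolve_right fun m =>
  h.ncomm (by simpa using (c.inv_left.mul_left (ea_com h.ea m (mem_pair_right _ _))).symm)

theorem sqU (ha : a ∈ closure {d, e}) : a * a = 1 ∨ a * a = z := by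
  rcases h.memU ha with m | m
  · exact .inl (ea_sq h.ea m)
  rcases h.mem.1 m with m | m | m | m <;> rw [← eq_mul_inv_iff_mul_eq, inv_of_sq h.e2] at m <;> rw [m]
  · exact .inl (by rw [one_mul, h.e2])
  · exact .inl (by rw [h.ez.mul_mul_mul_comm, h.z2, h.e2, mul_one])
  · exact .inr h.de
  · exact .inr (by rw [mul_assoc z, (h.dz.mul_left h.ez).mul_mul_mul_comm, h.de, h.z2, one_mul])

theorem rel1 (ha : a ∈ closure {z, d}) (hb : b ∈ closure {d, e}) (c : Commute a b) :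
    (a = 1 ∨ a = z) ∨ (b = 1 ∨ b = z) ∨ a * b = 1 ∨ a * b = z := by
  have A : Commute b d → a = d ∨ a = z * d → (b = 1 ∨ b = z) ∨ a * b = 1 ∨ a * b = z := fun c e => by
    rcases h.mem.1 (h.cend hb c) with rfl | rfl | rfl | rfl <;> rcases e with rfl | rfl <;>
      simp only [mul_assoc, h.d2, h.z2, lc h.dz.eq, lc h.z2, true_or, or_true, mul_one, one_mul]
  rcases h.mem.1 ha with e | e | e | e
  exacts [.inl (.inl e), .inl (.inr e), .inr (A (e ▸ c.symm) (.inl e)), .inr (A (by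
    have := (mem_cen1.1 (pair_le.2 ⟨mem_cen1.2 h.dz, mem_cen1.2 h.ez⟩ hb)).mul_right (e ▸ c.symm)
    rwa [lc h.z2, one_mul] at this) (.inr e))]

theorem rel (ha : a ∈ closure {d, e}) (aa : a * a = 1) (hb : b ∈ closure {d, e}) (c : Commute a b) :
    (a = 1 ∨ a = z) ∨ (b = 1 ∨ b = z) ∨ a * b = 1 ∨ a * b = z :=
  (h.invol ha aa).elim (h.rel1 · hb c) (h.symm.rel1 · (Set.pair_comm d e ▸ hb) c)

theorem conjz (ha : a ∈ closure {d, e}) (aa : a * a = 1) (a1 : a ≠ 1) : IsConj z a := by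
  rcases h.invol ha aa with m | m
  · simpa [a1] using h.orb m (Commute.one_right _)
  · simpa [a1] using h.symm.orb m (Commute.one_right _)

end Sid

namespace OB
variable (o : OB T S W Y Y₁ Y₂ z₁ d₁ e₁ z₂ d₂ e₂ x₁ w₁ x₂ w₂ t u)
include o

theorem shift (ha : a ∈ W ⊔ Y) : OB T S W Y Y₁ Y₂ z₁ d₁ e₁ z₂ d₂ e₂ x₁ w₁ x₂ w₂ (t * a) u :=
  have aS := o.pS ha
  { o with
    tT := mul_mem o.tT (o.ST aS)
    mT := fun g hg => (o.mT g hg).imp_right fun h => mul_assoc g t a ▸ mul_mem h aS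
    t1 := by rw [← cj_cj, cj_eq_self (o.nD ha), o.t1]
    t1' := by rw [← cj_cj, cj_eq_self (o.swde.nD ha), o.t1']
    t2 := by rw [← cj_cj, cj_eq_self (o.sw12.nD ha), o.t2]
    t2' := by rw [← cj_cj, cj_eq_self (o.sw12.swde.nD ha), o.t2']
    tz1 := by rw [conj_conj, o.Sz aS, o.tz1]
    tz2 := by rw [conj_conj, o.sw12.Sz aS, o.tz2]
    tY1 := by rw [← cj_cj, cj_eq_self (o.nY1 aS), o.tY1]
    tY2 := by rw [← cj_cj, cj_eq_self (o.nY2 aS), o.tY2] }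

theorem memP' (hg : g ∈ S) (h : g ∈ nor (closure {z₁, d₁})) : g ∈ W ⊔ Y := (o.mS g hg).resolve_right fun e =>
  o.ne ((cj_eq_self ((mul_mem_cancel_left h).1 (o.nD e))).symm.trans o.u1)

theorem two {h : G} (hg : g ∈ S) (hh : h ∈ S) (g1 : g ∉ W ⊔ Y) (h1 : h ∉ W ⊔ Y) : g * h ∈ W ⊔ Y := by
  have A : ∀ g ∈ S, g ∉ W ⊔ Y → g * u ∈ W ⊔ Y := fun g hg h => (o.mS g hg).resolve_left h
  rw [show g * h = g * u * (u⁻¹ * (h * u * (u * u)⁻¹) * u) by group]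
  exact mul_mem (A g hg g1) (conj_mem_of_mem_normalizer' (o.nP (o.ST o.uS)) (mul_mem (A h hh h1) (inv_mem (A u o.uS o.uP))))

theorem split (ha : a ∈ closure {d₁, e₁}) (hb : b ∈ closure {d₂, e₂}) (h : a * b = 1) : a = 1 ∧ b = 1 :=
  have e := o.one ha (eq_inv_of_mul_eq_one_left h ▸ inv_mem hb)
  ⟨e, by rwa [e, one_mul] at h⟩

theorem zcls (ha : a ∈ closure {z₁, d₁}) (a1 : a ≠ 1) (hb : b ∈ closure {z₂, d₂}) (b1 : b ≠ 1) :
    IsConj (z₁ * z₂) (a * b) := by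
  refine IsConj.trans ?_ ((o.a.orb ha (mem_cen1.1 (o.a.xc hb)).symm).resolve_left a1)
  rw [o.zz.eq, (o.cm o.a.zm (o.b.Dle hb)).eq]
  exact (o.b.orb hb o.b.xz').resolve_left b1

theorem zT (hg : g ∈ T) : Commute g (z₁ * z₂) := comm_of_fix (by
  rcases o.mT g hg with h | h
  · rw [conj_dist, o.Sz h, o.sw12.Sz h]
  · have : t * (z₂ * z₁) * t⁻¹ = z₁ * z₂ := by rw [conj_dist, o.tz1, o.tz2]
    nth_rw 1 [← this]
    rw [← conj_conj, conj_dist, o.Sz h, o.sw12.Sz h, o.zz.eq])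

theorem z1 : z₁ ≠ z₂ := fun h => o.a.z1 (o.one o.a.zm (h ▸ o.b.zm))

theorem tS : t ∉ S := fun h => o.z1 ((o.Sz h).symm.trans o.tz1)

theorem nU2 (ha : a = 1 ∨ a = z₁) (hb : b ∈ closure {d₂, e₂}) (h : IsConj (z₁ * z₂) (a * b))
    (h' : IsConj (z₁ * z₂) (a * b * (z₁ * z₂))) : False := by
  have zz : z₁ * z₂ * (z₁ * z₂) = 1 := by rw [o.zz.symm.mul_mul_mul_comm, o.a.z2, o.b.z2, mul_one]
  have A : ∀ b ∈ closure {d₂, e₂}, ¬ IsConj (z₁ * z₂) b := fun b hb h => o.nc ((o.c12.trans (o.b.conjz hb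
    (isConj_sq h zz) fun e => o.a.z1 (o.split o.a.zm o.b.zm (isConj_one_left.1 (e ▸ h))).1)).trans h.symm)
  rcases ha with rfl | rfl
  · exact A _ hb (one_mul b ▸ h)
  · rw [(o.cm o.a.zm hb).symm.mul_mul_mul_comm, o.a.z2, one_mul] at h'
    exact A _ (mul_mem hb o.b.zm) h'

variable (hY : Y ≤ W)
include hY

theorem exists_t : ∃ a ∈ W ⊔ Y, t * a * (t * a) = 1 := by
  have h : t * t ∈ W := sup_of_le_left hY ▸ o.memP' (o.co.le ⟨mem_cen1.2 (comm_of_fix (by rw [conj_conj, o.tz1, o.tz2])),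
    mem_cen1.2 (comm_of_fix (by rw [conj_conj, o.tz2, o.tz1]))⟩) (cj_eq_self_iff.1 (by rw [← cj_cj, o.t1, o.t2]))
  obtain ⟨a, ha, b, hb, e⟩ := o.memW.1 h
  have h1 : t * a * t⁻¹ ∈ closure {d₂, e₂} := o.tU ▸ conj_mem_cj ha
  have h2 : t * b * t⁻¹ ∈ closure {d₁, e₁} := o.sw12.tU ▸ conj_mem_cj hb
  have := (o.split (mul_mem (inv_mem ha) h2) (mul_mem h1 (inv_mem hb)) (by
    rw [mul_assoc, ← mul_assoc (t * b * t⁻¹), (o.cm h2 h1).eq, ← conj_dist, ← e,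
      conj_fix ((Commute.refl t).mul_right (Commute.refl t)), e]; group)).2
  exact ⟨a⁻¹, mem_sup_left (o.U1 (inv_mem ha)), by
    rw [show t * a⁻¹ * (t * a⁻¹) = (t * a * t⁻¹)⁻¹ * (t * t) * a⁻¹ by group, e, mul_inv_eq_one.1 this, (o.cm ha hb).eq]
    group⟩

theorem cenA (h1 : c ∈ cen (closure {z₁, d₁})) (h2 : c ∈ cen (closure {z₂, d₂})) :
    ∃ a ∈ closure {z₁, d₁}, ∃ b ∈ closure {z₂, d₂}, c = a * b := by
  obtain ⟨a, ha, b, hb, rfl⟩ := o.memW.1 (sup_of_le_left hY ▸ o.memP' (o.co.le ⟨mem_cen1.2 (com h1 (mem_pair_left _ _)).symm,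
    mem_cen1.2 (com h2 (mem_pair_left _ _)).symm⟩) (centralizer_le_normalizer _ h1))
  refine ⟨a, o.a.cend ha ?_, b, o.b.cend hb ?_, rfl⟩
  · simpa using (com h1 (mem_pair_right _ _)).symm.mul_left (o.cm (mem_pair_left _ _) hb).symm.inv_left
  · simpa using (o.cm ha (mem_pair_left _ _)).inv_left.mul_left (com h2 (mem_pair_right _ _)).symm

variable (tt : t * t = 1)
include tt

theorem case1 : ¬ IsConj z₁ t := fun hc => by
  have n1 := o.a.xD
  have c2 : x₁ ∈ cen (closure {z₂, d₂}) := cen_symm (o.a.xc.trans (cen1_eq _).le) (mem_zpowers _)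
  have n2 : t * x₁ * t⁻¹ ∈ nor (closure {z₂, d₂}) := o.t1 ▸ cj_nor t _ ▸ conj_mem_cj n1
  have c1 : t * x₁ * t⁻¹ ∈ cen (closure {z₁, d₁}) := o.t2 ▸ cj_cen t _ ▸ conj_mem_cj c2
  have q1 := o.a.cube
  have cq : ∀ g x : G, x * x * x = 1 → g * x * g⁻¹ * (g * x * g⁻¹) * (g * x * g⁻¹) = 1 := fun g x h => by
    rw [conj_mul, conj_mul, h]; simp
  have q2 := cq t _ q1
  have tx : t * (t * x₁ * t⁻¹) * t⁻¹ = x₁ := by rw [← conj_conj, tt]; simp
  have m : t * d₁ * t⁻¹ ∈ closure {z₂, d₂} := o.t1 ▸ conj_mem_cj (mem_pair_right _ _)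
  have xd : t * x₁ * t⁻¹ * (t * d₁ * t⁻¹) * (t * x₁ * t⁻¹)⁻¹ = t * d₁ * t⁻¹ * z₂ := by
    rw [← o.tz1, ← conj_dist, ← conj_dist, ← o.a.xd]; group
  have td : t * (t * d₁ * t⁻¹) * t⁻¹ = d₁ := by rw [← conj_conj, tt]; simp
  generalize t * x₁ * t⁻¹ = x' at n2 c1 q2 xd tx
  generalize t * d₁ * t⁻¹ = d' at m xd td
  obtain ⟨a, ha, b, hb, e⟩ := o.cenA hY (c := ⁅x₁, x'⁆)
    (mul_mem (conj_mem_of_mem_normalizer (normalizer_le_normalizer_centralizer _ n1) c1) (inv_mem c1))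
    (by rw [commutatorElement_def, mul_assoc, mul_assoc, ← mul_assoc x']
        exact mul_mem c2 (conj_mem_of_mem_normalizer (normalizer_le_normalizer_centralizer _ n2) (inv_mem c2)))
  have ab := o.cm (o.a.Dle ha) (o.b.Dle hb)
  have cb : ∀ {a y : G}, a * a = 1 → Commute a y → a * y * (a * y) * (a * y) = a * (y * y * y) := fun h c => by
    rw [c.symm.mul_mul_mul_comm, h, one_mul, (c.mul_right c).symm.left_comm]
  have a1 : a = 1 := (o.split (o.a.Dle ha) (o.b.Dle (cube_mem n2 q2 hb)) (by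
    rw [← cb (ea_sq o.a.ea ha) (ab.mul_right (com c1 ha)), ← mul_assoc a b, ← e, commutatorElement_def,
      inv_mul_cancel_right, cq _ _ q2])).1
  have b1 : b = 1 := (o.sw12.split (o.b.Dle (inv_mem hb)) (o.a.Dle (cube_mem n1 q1 (inv_mem ha))) (by
    rw [← cb (ea_sq o.b.ea (inv_mem hb)) (ab.symm.inv_inv.mul_right (com c2 (inv_mem hb))), ← mul_assoc b⁻¹, ← mul_inv_rev,
      ← e, commutatorElement_inv, commutatorElement_def, inv_mul_cancel_right, cq _ _ q1])).1 |> inv_eq_one.1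
  rw [a1, b1, mul_one, commutatorElement_eq_one_iff_commute] at e
  have ht : x₁ * x' ∈ cen1 t := mem_cen1.2 (comm_of_fix (by
    rw [conj_dist, tx, ← tx, ← conj_conj, tt, tx, e.eq]; simp)).symm
  have cd := o.cm (mem_pair_left _ _) (o.b.Dle m)
  have hδ : d₁ * d' ∈ cen1 t := mem_cen1.2 (comm_of_fix (by
    rw [conj_dist, td, ← td, ← conj_conj, tt, td, cd.eq]; simp)).symm
  have h3 : (orderOf (x₁ * x')).Coprime 2 := Nat.Coprime.coprime_dvd_left (orderOf_dvd_of_pow_eq_one (n := 3) (by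
    rw [e.mul_pow, pow_three', pow_three', q1, q2, mul_one])) (by decide)
  have hr := mem_res_of_coprime ht h3
  have hz := mul_mem (conj_mem_of_mem_normalizer' (self_le_normalizer_res _ hδ) hr) (inv_mem hr)
  rw [show (d₁ * d')⁻¹ * (x₁ * x') * (d₁ * d') * (x₁ * x')⁻¹ = (d₁ * d')⁻¹ * (x₁ * (x' * (d₁ * d') * x'⁻¹) * x₁⁻¹) by group,
    conj_dist x', xd, conj_fix (com c1 (mem_pair_right _ _)).symm, conj_dist, o.a.xd,
    conj_fix (com c2 (mul_mem m (mem_pair_left _ _))).symm, (o.cm o.a.zm (o.b.Dle m)).mul_mul_mul_comm,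
    inv_mul_cancel_left] at hz
  obtain ⟨g, rfl⟩ := isConj_iff.1 hc
  rw [← cj_cen1, ← cj_res, mem_cj] at hz
  have c : IsConj (z₁ * z₂) (g⁻¹ * (z₁ * z₂) * g) := isConj_iff.2 ⟨g⁻¹, by rw [inv_inv]⟩
  exact o.nc ((o.rs _ hz (isConj_sq c (by rw [o.zz.symm.mul_mul_mul_comm, o.a.z2, o.b.z2, mul_one])) fun e =>
    o.a.z1 (o.split o.a.zm o.b.zm (isConj_one_left.1 (e ▸ c))).1).trans c.symm)

theorem case2a (hc : g * t * g⁻¹ = z₁ * z₂) (h1 : g * (d₁ * (t * d₁ * t⁻¹)) * g⁻¹ ∈ W) (h2 : g * (z₁ * z₂) * g⁻¹ ∈ W) :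
    False := by
  have m : ∀ a ∈ closure {z₁, d₁}, t * a * t⁻¹ ∈ closure {z₂, d₂} := fun a ha => o.t1 ▸ conj_mem_cj ha
  have A : ∀ a ∈ closure {z₁, d₁}, a ≠ 1 → IsConj (z₁ * z₂) (g * (a * (t * a * t⁻¹)) * g⁻¹) ∧
      IsConj (z₁ * z₂) (g * (a * (t * a * t⁻¹)) * g⁻¹ * (z₁ * z₂)) := fun a ha a1 =>
    ⟨(o.zcls ha a1 (m a ha) (conj_ne t a1)).trans (isConj_conj g _), isConj_iff.2 ⟨g * a * g⁻¹, by
      rw [← hc, inv_of_sq tt, show g * a * g⁻¹ * (g * t * g⁻¹) * (g * a * g⁻¹)⁻¹ = g * (a * t * a⁻¹) * g⁻¹ by group,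
        ea_inv o.a.ea ha, ← conj_dist, mul_assoc a (t * a * t), mul_assoc (t * a), tt, mul_one, mul_assoc a]⟩⟩
  have d1 : d₁ ≠ 1 := fun e => o.a.ncomm (e ▸ Commute.one_left _)
  have dz := o.a.dz
  have md := mem_pair_right z₁ d₁
  have mz := mem_pair_left z₁ d₁
  have a1 := A _ md d1
  have a2 := A _ mz o.a.z1
  have a3 := A _ (mul_mem md mz) fun e => o.a.ncomm (eq_of_sq e o.a.z2 ▸ o.a.ez.symm)
  rw [o.tz1] at a2
  rw [conj_dist t, o.tz1, (o.cm o.a.zm (o.b.Dle (m _ md))).mul_mul_mul_comm, conj_dist g] at a3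
  have cm : Commute (g * (d₁ * (t * d₁ * t⁻¹)) * g⁻¹) (g * (z₁ * z₂) * g⁻¹) :=
    (o.zT (o.ST (o.pS (mem_sup_left (mul_mem (o.U1 (o.a.Dle md)) (o.U2 (o.b.Dle (m _ md)))))))).map (MulAut.conj g)
  have zz : z₁ * z₂ * (z₁ * z₂) = 1 := by rw [o.zz.symm.mul_mul_mul_comm, o.a.z2, o.b.z2, mul_one]
  obtain ⟨a, ha, b, hb, e⟩ := o.memW.1 h1
  obtain ⟨a', ha', b', hb', e'⟩ := o.memW.1 h2
  rw [e] at a1 a3 cm
  rw [e'] at a2 a3 cm
  have s := isConj_sq a1.1 zz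
  rw [(o.cm ha hb).symm.mul_mul_mul_comm] at s
  have c : Commute a a' := commutatorElement_eq_one_iff_commute.1 (o.split (commutator_le_of_le le_rfl le_rfl
    (commutator_mem_commutator ha ha')) (commutator_le_of_le le_rfl le_rfl (commutator_mem_commutator hb hb')) (by
      rw [← commutatorElement_eq_one_iff_commute.2 cm]
      have i := fun a b ha hb => (o.cm (a := a) (b := b) ha hb).symm.eq
      simp only [commutatorElement_def, mul_inv_rev, mul_assoc, lc (i _ _ ha' hb), lc (i _ _ (inv_mem ha) hb),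
        lc (i _ _ (inv_mem ha') hb), lc (i _ _ (inv_mem ha) hb'), lc (i _ _ (inv_mem ha') hb'),
        lc (i _ _ (inv_mem ha) (inv_mem hb)), lc (i _ _ (inv_mem ha') (inv_mem hb)), i _ _ (inv_mem ha') (inv_mem hb')])).1
  rw [(o.cm ha' hb).symm.mul_mul_mul_comm] at a3
  rcases o.a.rel ha (o.split (mul_mem ha ha) (mul_mem hb hb) s).1 ha' c with h | h | h
  exacts [o.nU2 h hb a1.1 a1.2, o.nU2 h hb' a2.1 a2.2, o.nU2 h (mul_mem hb hb') a3.1 a3.2]

end OB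

theorem jobOb4 : JOb4.{u} := by
  intro G _ _ T S W Y Y₁ Y₂ z₁ d₁ e₁ z₂ d₂ e₂ x₁ w₁ x₂ w₂ t u v ω o f hY
  obtain ⟨a, ha, tt⟩ := o.exists_t hY
  replace o := o.shift ha
  generalize t * a = t at o tt
  have eW := sup_of_le_left hY
  have vW := o.nW f.vT
  have two := fun g h => o.two (g := g) (h := h)
  have tv : t * v ∈ S := by simpa [inv_of_sq tt, inv_of_sq f.vv] using inv_mem (o.vt f)
  have tvW : t * v ∉ W ⊔ Y := fun h => o.ne (by rw [← o.t2', ← f.v1, cj_cj, cj_eq_self (o.nD h)])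
  have vtW : v * t ∉ W ⊔ Y := fun h => tvW (by simpa [inv_of_sq tt, inv_of_sq f.vv] using inv_mem h)
  rw [eW] at two tvW vtW
  have mem := fun g => mem_sup_zp (x := g) vW (f.vv ▸ one_mem W)
  have WS : W ≤ S := le_sup_left.trans o.pS
  have I : ∀ j, j * j = 1 → j * v ∈ W → IsConj z₁ j := fun j jj h => by
    obtain ⟨b, -, e⟩ := o.coset f.vv (o.vU f) h (by rwa [mul_assoc j, f.vv, mul_one])
    rw [mul_assoc j, f.vv, mul_one] at e
    exact f.iv.trans (isConj_iff.2 ⟨b, e⟩)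
  obtain ⟨g, hg⟩ := H20.exists_conj_mem_of_relIndex_two (no_idx2 o.res) o.syl (M := W ⊔ zpowers v) (rel_two o.tT
    (fun h => ((mem t).1 h).elim (fun h => o.tS (WS h)) tvW) fun g hg => by
      rw [mem, mem]
      rcases o.mT' f hg with h | h
      · by_cases e : g ∈ W
        exacts [.inl (.inl e), .inr (.inr (mul_assoc g t v ▸ two g _ h tv e tvW))]
      · by_cases e : g * v ∈ W
        exacts [.inl (.inr e), .inr (.inl (by simpa [mul_assoc, lc f.vv] using two _ _ h (o.vt f) e vtW))]) tt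
  have t1 : t ≠ 1 := fun e => o.tS (e ▸ one_mem _)
  have n1 := o.case1 hY tt
  have c := isConj_conj g t
  have hc : IsConj (z₁ * z₂) t := by
    rcases (mem _).1 hg with h | h
    · rcases f.cls _ h (conj_sq g tt) with h | h | h
      exacts [(conj_ne g t1 h).elim, (n1 (h.trans c.symm)).elim, h.trans c.symm]
    · exact (n1 ((I _ (conj_sq g tt) h).trans c.symm)).elim
  clear hg c g
  obtain ⟨g, hg⟩ := isConj_iff.1 hc.symm
  have ct : ∀ a ∈ closure {d₁, e₁}, a * (t * a * t⁻¹) ∈ T ⊓ cen1 t := fun a ha => by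
    have m : t * a * t⁻¹ ∈ closure {d₂, e₂} := o.tU ▸ conj_mem_cj ha
    exact ⟨o.ST (WS (mul_mem (o.U1 ha) (o.U2 m))), mem_cen1.2 (comm_of_fix (by
      rw [conj_dist, ← conj_conj, tt, (o.cm ha m).eq]; simp)).symm⟩
  obtain ⟨c, hc1, hc2⟩ := (o.syl.of_le (fun g hg => mem_cen1.2 (o.zT hg)) le_top).exists_cj_le
    (isPGroup_cj g (o.syl.isPGroup.to_le (inf_le_left : T ⊓ cen1 t ≤ T))) (hg ▸ cj_cen1 g t ▸ cj_mono g inf_le_right)
  rw [cj_cj] at hc2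
  replace hg : c * g * t * (c * g)⁻¹ = z₁ * z₂ := by rw [conj_conj, hg, conj_fix (mem_cen1.1 hc1)]
  generalize c * g = g at hg hc2
  have zz : z₁ * z₂ * (z₁ * z₂) = 1 := by rw [o.zz.symm.mul_mul_mul_comm, o.a.z2, o.b.z2, mul_one]
  have A : ∀ j ∈ T, IsConj (z₁ * z₂) j → j ∈ W ∨ j * t ∈ W := fun j hj h => by
    refine (o.mT j hj).imp (fun e => eW ▸ o.nz j e h) fun e => by_contra fun e' => o.nc ((I j (isConj_sq h zz) ?_).trans h.symm)
    simpa [mul_assoc, lc tt] using two _ _ e tv e' tvW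
  have md := mem_pair_left d₁ e₁
  have me := mem_pair_right d₁ e₁
  have B : ∀ a, a ≠ 1 → a ∈ closure {z₁, d₁} ∨ a ∈ closure {z₁, e₁} → a ∈ closure {d₁, e₁} →
      g * (a * (t * a * t⁻¹)) * g⁻¹ ∈ W ∨ g * (a * (t * a * t⁻¹)) * g⁻¹ * t ∈ W := fun a a1 h ha =>
    A _ (hc2 (conj_mem_cj (ct a ha))) ((h.elim (fun h => o.zcls h a1 (o.t1 ▸ conj_mem_cj h) (conj_ne t a1)) fun h =>
      o.swde.zcls h a1 (o.t1' ▸ conj_mem_cj h) (conj_ne t a1)).trans (isConj_conj g _))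
  have e : g * (z₁ * z₂) * g⁻¹ = g * (d₁ * (t * d₁ * t⁻¹)) * g⁻¹ * (g * (e₁ * (t * e₁ * t⁻¹)) * g⁻¹) *
      (g * (d₁ * (t * d₁ * t⁻¹)) * g⁻¹ * (g * (e₁ * (t * e₁ * t⁻¹)) * g⁻¹)) := by
    rw [← conj_dist, ← conj_dist, (o.cm me (o.tU ▸ conj_mem_cj md)).symm.mul_mul_mul_comm, ← conj_dist,
      (o.cm (mul_mem md me) (o.tU ▸ conj_mem_cj (mul_mem md me))).symm.mul_mul_mul_comm, ← conj_dist, o.a.de, o.tz1]
  have h1 := B d₁ (fun e => o.a.ncomm (e ▸ Commute.one_left _)) (.inl (mem_pair_right _ _)) md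
  have h2 := B e₁ (fun e => o.a.ncomm (e ▸ Commute.one_right _)) (.inr (mem_pair_right _ _)) me
  have tW := o.nW o.tT
  have mt := fun g => mem_sup_zp (x := g) tW (tt ▸ one_mem W)
  have h3 := (mt _).1 (mul_mem ((mt _).2 h1) ((mt _).2 h2))
  have h4 : g * (z₁ * z₂) * g⁻¹ ∈ W := e ▸ h3.elim (fun h => mul_mem h h) (sq_mem_of tW (tt ▸ one_mem W))
  rcases h1 with h1 | h1
  · exact o.case2a hY tt hg h1 h4
  rcases h2 with h2 | h2
  · exact o.swde.case2a hY tt hg h2 h4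
  have h5 := mul_mem h1 (conj_mem_of_mem_normalizer' tW h2)
  generalize g * (d₁ * (t * d₁ * t⁻¹)) * g⁻¹ = p at e h5
  generalize g * (e₁ * (t * e₁ * t⁻¹)) * g⁻¹ = q at e h5
  rw [show p * t * (t⁻¹ * (q * t) * t) = p * q * (t * t) by group, tt, mul_one] at h5
  obtain ⟨a, ha, b, hb, e'⟩ := o.memW.1 h5
  rw [e', (o.cm ha hb).symm.mul_mul_mul_comm] at e
  have c := isConj_conj g (z₁ * z₂)
  rcases o.a.sqU ha with h | h <;> rcases o.b.sqU hb with h' | h' <;> rw [h, h'] at e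
  · exact o.a.z1 (o.split o.a.zm o.b.zm (by simpa using e)).1
  · exact o.nc (o.c12.trans (by simpa [e] using c.symm))
  · exact o.nc (by simpa [e] using c.symm)
  · obtain rfl : z₁ * z₂ = t := by simpa using e.trans hg.symm
    exact o.tS (WS (mul_mem (o.U1 o.a.zm) (o.U2 o.b.zm)))

end H97.QU
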