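import Cfsg.Agent.H97.QUObF

/-! Job JOb8 of `blueprints/QU.md`. -/

set_option autoImplicit false
set_option linter.unusedSectionVars false
set_option linter.unusedSimpArgs false

namespace H97.QU

open Subgroup Cfsg H98 H96.CG
open H52 (zc)
open scoped commutatorElement

universe u

variable {G : Type u} [Group G] [Finite G] {T S W Y Y₁ Y₂ D : Subgroup G}
  {z₁ d₁ e₁ z₂ d₂ e₂ x₁ w₁ x₂ w₂ t u v ω a b g h q y : G}

/-- the elements commuting with `x` modulo `D` -/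
def cst (x : G) (D : Subgroup G) : Subgroup G where
  carrier := {c | c ∈ nor D ∧ ⁅c, x⁆ ∈ D}
  one_mem' := ⟨one_mem _, by simp⟩
  mul_mem' := fun {a b} ha hb => ⟨mul_mem ha.1 hb.1, by
    rw [commutatorElement_mul_left_eq_conj_mul]; exact mul_mem (conj_mem_of_mem_normalizer ha.1 hb.2) ha.2⟩
  inv_mem' := fun {a} ha => ⟨inv_mem ha.1, by
    rw [show ⁅a⁻¹, x⁆ = a⁻¹ * ⁅a, x⁆⁻¹ * a by simp only [commutatorElement_def]; group]
    exact conj_mem_of_mem_normalizer' ha.1 (inv_mem ha.2)⟩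

theorem Sid.gen {z d e z' d' e' x w : G} (h : Sid z d e z' d' e' x w) : closure {d, e} = closure {z, d} ⊔ closure {z, e} :=
  le_antisymm (pair_le.2 ⟨mem_sup_left (mem_pair_right _ _), mem_sup_right (mem_pair_right _ _)⟩)
    (sup_le h.Dle (pair_le.2 ⟨h.zm, mem_pair_right _ _⟩))

namespace OB
variable (o : OB T S W Y Y₁ Y₂ z₁ d₁ e₁ z₂ d₂ e₂ x₁ w₁ x₂ w₂ t u)
include o

theorem uU : cj u (closure {d₁, e₁}) = closure {d₁, e₁} := by rw [o.a.gen, cj_sup, o.u1, o.u1', sup_comm]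

theorem tU : cj t (closure {d₁, e₁}) = closure {d₂, e₂} := by rw [o.a.gen, cj_sup, o.t1, o.t1', o.b.gen]

theorem Wc : W ≤ cen Y := cen_symm o.Yc

theorem nU : S ≤ nor (closure {d₁, e₁}) := fun g hg => by
  have : W ⊔ Y ≤ nor (closure {d₁, e₁}) := o.a.gen ▸ le_normalizer_sup o.nD o.swde.nD
  exact (o.mS g hg).elim (this ·) fun h => (mul_mem_cancel_right (cj_eq_self_iff.1 o.uU)).1 (this h)

theorem nW : T ≤ nor W := fun g hg => by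
  have : S ≤ nor W := o.eW ▸ le_normalizer_sup o.nU o.sw12.nU
  exact (o.mT g hg).elim (this ·) fun h => (mul_mem_cancel_right (cj_eq_self_iff.1 (by
    rw [o.eW, cj_sup, o.tU, o.sw12.tU, sup_comm]))).1 (this h)

theorem nP : T ≤ nor (W ⊔ Y) := le_normalizer_sup o.nW o.nY

theorem ΩW : closure {z₁, z₂} ≤ W := o.YW ▸ inf_le_right

theorem ΩY : closure {z₁, z₂} ≤ Y := o.YW ▸ inf_le_left

theorem uP : u ∉ W ⊔ Y := fun h => o.ne ((cj_eq_self (o.nD h)).symm.trans o.u1)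

theorem Sz (hg : g ∈ S) : g * z₁ * g⁻¹ = z₁ := conj_fix (mem_cen1.1 (o.co.ge hg).1)

theorem Tz (hg : g ∈ T) : g * z₁ * g⁻¹ = z₁ ∨ g * z₁ * g⁻¹ = z₂ :=
  (o.mT g hg).imp o.Sz fun h => by rw [← o.tz2, ← conj_conj, o.sw12.Sz h]

theorem SY1 (hg : g ∈ S) (hy : y ∈ Y) : ⁅g, y⁆ ∈ Y₁ := by
  rw [commutatorElement_def, ea_inv o.Ye hy]
  by_cases h : y ∈ Y₁
  · exact mul_mem (conj_mem_of_mem_normalizer (o.nY1 hg) h) h
  · exact o.i1 _ (conj_mem_of_mem_normalizer (o.nY (o.ST hg)) hy) y hy (fun e => h ((mem_normalizer_iff.1 (o.nY1 hg) y).2 e)) h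

theorem SY (hg : g ∈ S) (hy : y ∈ Y) : ⁅g, y⁆ ∈ W := o.ΩW (o.Y12.le ⟨o.SY1 hg hy, o.sw12.SY1 hg hy⟩)

theorem memP : g ∈ W ⊔ Y ↔ ∃ a ∈ W, ∃ b ∈ Y, g = a * b := mem_sup_of_cen o.Wc

theorem cP (hq : q ∈ Y) : W ⊔ Y ≤ cen1 q := fun _ hg => mem_cen1.2 (com (cen_symm (sup_le o.Wc
  (H12.ea_le_centralizer o.Ye)) hq) hg)

theorem trans (hD : ⁅T, T⁆ ≤ D) (hq : q ∈ Y) : q ∈ D := by_contra fun h =>
  have qT := o.ST (o.pS (mem_sup_right hq))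
  H12.not_mem_res_of_extremal o.syl hD (ea_sq o.Ye hq) qT h (mem_sup_right hq) (o.syl.isPGroup.to_le (o.pS.trans o.ST))
    (fun _ hr => mem_cen1.1 (o.cP hq hr)) (fun a ha => by
      have := hD (commutator_mem_commutator (o.wc a ha) qT)
      rwa [commutatorElement_def, ea_inv o.Ye hq] at this) (o.res.ge (mem_top q))

theorem wc2 (hq : W ⊔ Y ≤ cen1 q) (h : cj a (W ⊔ Y) ≤ cen1 q) : ∃ c ∈ cen1 q, c * a ∈ T := by
  have two := o.syl.isPGroup.to_le (o.pS.trans o.ST)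
  obtain ⟨P, hP, le⟩ := exists_isSyl_le two hq
  obtain ⟨c, hc, e⟩ := hP.exists_cj_le (isPGroup_cj a two) h
  obtain ⟨g, -, e'⟩ := o.syl.exists_cj_le hP.isPGroup le_top
  have gT := o.wc g ((cj_mono g le).trans e')
  exact ⟨c, hc, o.wc _ (cj_cj c a _ ▸ e.trans ((cj_le_iff.1 e').trans (cj_eq_self_of_mem (inv_mem gT)).le))⟩

theorem conjY (hq : q ∈ Y) (h : IsConj z₁ q) : q ∈ closure {z₁, z₂} := by
  obtain ⟨a, rfl⟩ := isConj_iff.1 h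
  obtain ⟨c, hc, e⟩ := o.wc2 (a := a⁻¹) (o.cP (o.ΩY (mem_pair_left _ _))) (by
    rw [cj_le_iff, inv_inv, cj_cen1]; exact o.cP hq)
  rw [show a * z₁ * a⁻¹ = (c * a⁻¹)⁻¹ * (c * z₁ * c⁻¹) * (c * a⁻¹)⁻¹⁻¹ by group, conj_fix (mem_cen1.1 hc)]
  rcases o.Tz (inv_mem e) with h | h <;> rw [h]
  exacts [mem_pair_left _ _, mem_pair_right _ _]

/-- the involutions in a coset interchanging the two factors -/
theorem coset (gg : g * g = 1) (h : cj g (closure {d₁, e₁}) = closure {d₂, e₂}) (ha : a ∈ W) (e : a * g * (a * g) = 1) :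
    ∃ b ∈ W, b * g * b⁻¹ = a * g := by
  replace ha := o.memW.1 ha
  obtain ⟨a, ha, b, hb, rfl⟩ := ha
  have h1 : g * a * g⁻¹ ∈ closure {d₂, e₂} := h ▸ conj_mem_cj ha
  have h2 : g * b * g⁻¹ ∈ closure {d₁, e₁} := by
    rw [← h, mem_cj, inv_of_sq gg] at hb; rwa [inv_of_sq gg]
  rw [show a * b * g * (a * b * g) = a * (b * (g * a * g⁻¹) * (g * b * g⁻¹)) * (g * g) by group, gg, mul_one,
    ← (o.cm h2 (mul_mem hb h1)).eq, ← mul_assoc] at e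
  have := o.one (eq_inv_of_mul_eq_one_right e ▸ inv_mem (mul_mem ha h2)) (mul_mem hb h1)
  exact ⟨a, o.U1 ha, by rw [eq_inv_of_mul_eq_one_left this]; group⟩

variable (f : OF T W z₁ d₁ e₁ z₂ d₂ e₂ x₁ w₂ v ω)
include f

theorem vz2 : v * z₂ * v⁻¹ = z₁ := by rw [← f.vz, ← conj_conj, f.vv]; simp

theorem vt : v * t ∈ S := o.co.le ⟨mem_cen1.2 (comm_of_fix (by rw [conj_conj, o.tz1, o.vz2 f])),
  mem_cen1.2 (comm_of_fix (by rw [conj_conj, o.tz2, f.vz]))⟩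

theorem vS : v ∈ nor S := cj_eq_self_iff.1 (by rw [← o.co, cj_inf, cj_cen1, cj_cen1, f.vz, o.vz2 f, inf_comm])

theorem mT' (hg : g ∈ T) : g ∈ S ∨ g * v ∈ S := (o.mT g hg).imp_right fun h => by
  have := mul_mem h (inv_mem (o.vt f))
  rwa [mul_inv_rev, ← mul_assoc, mul_inv_cancel_right, inv_of_sq f.vv] at this

theorem vU : cj v (closure {d₁, e₁}) = closure {d₂, e₂} := by rw [o.a.gen, cj_sup, f.v1, f.v1', o.b.gen, sup_comm]

theorem uv : ⁅u, v⁆ ∈ W ⊔ Y := by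
  have h := conj_mem_of_mem_normalizer (o.vS f) (inv_mem o.uS)
  have := conj_mem_of_mem_normalizer (o.nP (o.ST o.uS)) ((o.mS _ h).resolve_left fun e =>
    o.uP (inv_mem_iff.1 ((mem_normalizer_iff.1 (o.nP f.vT) _).2 e)))
  rwa [show u * (v * u⁻¹ * v⁻¹ * u) * u⁻¹ = ⁅u, v⁆ by rw [commutatorElement_def]; group] at this

theorem le_cst (hn : T ≤ nor D) (h1 : S ≤ cst y D) (h2 : ⁅v, y⁆ ∈ D) : T ≤ cst y D := fun _ hg =>
  (o.mT' f hg).elim (h1 ·) fun h => ((cst y D).mul_mem_cancel_right ⟨hn f.vT, h2⟩).1 (h1 h)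

theorem derived (hW : W ≤ D) (hn : T ≤ nor D) (h1 : ∀ y ∈ Y, ⁅v, y⁆ ∈ D) (h2 : ⁅u, v⁆ ∈ D) : ⁅T, T⁆ ≤ D := by
  have PT := o.pS.trans o.ST
  have A : W ⊔ Y ≤ stab T D := sup_le (le_stab_iff.2 ⟨(le_sup_left.trans PT).trans hn,
    (commutator_le_right' o.nW).trans hW⟩) fun y hy => ⟨hn (PT (mem_sup_right hy)), fun c hc =>
      (o.le_cst f hn (fun g hg => ⟨hn (o.ST hg), hW (o.SY hg hy)⟩) (h1 y hy) hc).2⟩
  have B : ∀ x ∈ T, ⁅u, x⁆ ∈ D → ⁅v, x⁆ ∈ D → x ∈ stab T D := fun x hx a b => ⟨hn hx, fun c hc => by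
    have P : W ⊔ Y ≤ cst x D := fun g hg => ⟨hn (PT hg), commutatorElement_inv x g ▸ inv_mem ((A hg).2 x hx)⟩
    exact (o.le_cst f hn (fun g hg => (o.mS g hg).elim (P ·) fun h =>
      ((cst x D).mul_mem_cancel_right ⟨hn (o.ST o.uS), a⟩).1 (P h)) b hc).2⟩
  have hu := B u (o.ST o.uS) (by simp) (commutatorElement_inv u v ▸ inv_mem h2)
  have hv := B v f.vT h2 (by simp)
  have C : S ≤ stab T D := fun g hg => (o.mS g hg).elim (A ·) fun h => (mul_mem_cancel_right hu).1 (A h)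
  exact (le_stab_iff.1 fun g hg => (o.mT' f hg).elim (C ·) fun h => (mul_mem_cancel_right hv).1 (C h)).2

theorem vY (hy : y ∈ Y) : ⁅v, y⁆ ∈ W := by
  have PT := o.pS.trans o.ST
  have A : ∀ y ∈ Y, ⁅v, y⁆ ∈ W → y ∈ W ⊔ Y ⊓ stab T W := fun y hy h => mem_sup_right ⟨hy, o.nW (PT (mem_sup_right hy)),
    fun c hc => (o.le_cst f o.nW (fun g hg => ⟨o.nW (o.ST hg), o.SY hg hy⟩) h hc).2⟩
  have := o.trans (o.derived f (D := W ⊔ Y ⊓ stab T W) le_sup_left (le_normalizer_sup o.nW (le_normalizer_inf o.nY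
    (le_normalizer_stab le_normalizer o.nW))) (fun y hy => ?_) ?_) hy
  · exact ((sup_le (le_stab_iff.2 ⟨le_normalizer, commutator_le_right' o.nW⟩) inf_le_right : _ ≤ stab T W) this).2 v f.vT
  · have h := conj_mem_of_mem_normalizer (o.nY f.vT) hy
    refine A _ (mul_mem h (inv_mem hy)) ?_
    rw [commutatorElement_eq_one_iff_commute.2 (comm_of_fix ?_)]
    · exact one_mem _
    rw [commutatorElement_def, conj_dist, ← conj_conj, f.vv, ea_inv o.Ye hy, (ea_com o.Ye h hy).eq]; simp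
  obtain ⟨a, ha, b, hb, e⟩ := o.memP.1 (o.uv f)
  have e' : v * ⁅u, v⁆ * v⁻¹ * ⁅u, v⁆ = 1 := by
    rw [show v * ⁅u, v⁆ * v⁻¹ * ⁅u, v⁆ = v * u * v * u⁻¹ * (v * v)⁻¹ * (u * v * u⁻¹ * v⁻¹) by
      rw [commutatorElement_def]; group, f.vv, show v * u * v * u⁻¹ * 1⁻¹ * (u * v * u⁻¹ * v⁻¹) = v * u * (v * v) * u⁻¹ * v⁻¹ by
        group, f.vv]
    group
  rw [e] at e' ⊢
  refine mul_mem (mem_sup_left ha) (A b hb ?_)
  rw [conj_dist, (com (o.Yc hb) ha).eq, mul_assoc, ← mul_assoc _ b, ← mul_assoc] at e'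
  rw [commutatorElement_def, ea_inv o.Ye hb, ← mul_mem_cancel_left (conj_mem_of_mem_normalizer (o.nW f.vT) ha),
    eq_inv_of_mul_eq_one_left e']
  exact inv_mem ha

theorem Y1le : Y₁ ≤ closure {z₁, z₂} := fun q hq => o.Y12.le ⟨hq, by
  have h1 : v * q * v⁻¹ ∈ Y₂ := by
    have := conj_mem_cj (g := v) hq
    rwa [← o.tY2, cj_cj, cj_eq_self (o.nY2 (o.vt f))] at this
  have h2 := (o.Y12.ge (o.YW.le ⟨Y.mul_mem (o.Y2 h1) (inv_mem (o.Y1 hq)), o.vY f (o.Y1 hq)⟩)).2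
  exact Y₂.inv_mem_iff.1 ((Y₂.mul_mem_cancel_left h1).1 h2)⟩

theorem Y2le : Y₂ ≤ closure {z₁, z₂} := by
  have := cj_mono t (o.Y1le f)
  rwa [o.tY1, cj_pair, o.tz1, o.tz2, Set.pair_comm] at this

end OB

theorem jobOb8 : JOb8.{u} := by
  intro G _ _ T S W Y Y₁ Y₂ z₁ d₁ e₁ z₂ d₂ e₂ x₁ w₁ x₂ w₂ t u v ω o f q hq
  by_contra hW
  have n0 : ∀ q ∉ W, ∀ a ∈ W, q * a ∉ W := fun q h a ha e => h ((mul_mem_cancel_right ha).1 e)
  have z1 := mem_pair_left z₁ z₂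
  have z2 := mem_pair_right z₁ z₂
  obtain ⟨q, hq, hW, c1, c2⟩ : ∃ q ∈ Y, q ∉ W ∧ Commute x₁ q ∧ Commute w₁ (q * z₁) := by
    rcases o.ac1 q hq fun h => hW (o.ΩW (o.Y1le f h)) with h | h
    exacts [⟨q, hq, hW, h⟩, ⟨q * z₁, mul_mem hq (o.ΩY z1), n0 q hW _ (o.ΩW z1), h.1, by
      rw [mul_assoc, o.a.z2, mul_one]; exact h.2⟩]
  obtain ⟨q, hq, hW, c1, c2, c3, c4⟩ : ∃ q ∈ Y, q ∉ W ∧ Commute x₁ q ∧ Commute w₁ (q * z₁) ∧ Commute x₂ q ∧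
      Commute w₂ (q * z₂) := by
    rcases o.ac2 q hq fun h => hW (o.ΩW (o.Y2le f h)) with h | h
    exacts [⟨q, hq, hW, c1, c2, h⟩, ⟨q * z₂, mul_mem hq (o.ΩY z2), n0 q hW _ (o.ΩW z2), c1.mul_right o.a.xz', by
      rw [mul_assoc, ← o.zz.eq, ← mul_assoc]; exact c2.mul_right o.a.wz', h.1, by
        rw [mul_assoc, o.b.z2, mul_one]; exact h.2⟩]
  have q' := mul_mem hq (o.ΩY z2)
  have cq : ∀ a ∈ W, Commute a q := fun a ha => com (o.Yc hq) ha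
  have m1 := o.U1 (mem_pair_right _ _)
  have m2 := o.U2 (mem_pair_left _ _)
  have e1 : v * (q * z₂) = ω * (e₁ * d₂ * (q * z₂)) * ω⁻¹ := by
    rw [conj_dist, ← f.ev, conj_fix (f.cω _ (c1.mul_right o.a.xz') c4)]
  have e2 : e₁ * d₂ * (q * z₂) = x₂ * (e₁ * z₂ * z₂ * q) * x₂⁻¹ := by
    rw [conj_dist, conj_dist, conj_fix o.b.xe', o.b.xz, conj_fix c3, ← (cq _ (o.ΩW z2)).eq, mul_assoc, mul_assoc, mul_assoc,
      o.b.dz.left_comm]
  have e3 : e₁ * q = w₁ * w₁ * (z₁ * (q * z₁)) * (w₁ * w₁)⁻¹ := by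
    rw [conj_dist, conj_fix (c2.mul_left c2), conj_conj, o.a.wz, o.a.we, ← (cq _ (o.ΩW z1)).eq, mul_assoc, lc o.a.z2, one_mul]
  rw [mul_assoc e₁ z₂, o.b.z2, mul_one] at e2
  rw [← (cq _ (o.ΩW z1)).eq, lc o.a.z2, one_mul] at e3
  have c : IsConj q (v * (q * z₂)) := by
    rw [e1, e2, e3]; exact ((isConj_conj _ _).trans (isConj_conj _ _)).trans (isConj_conj _ _)
  have gg : v * (q * z₂) * (v * (q * z₂)) = 1 := by
    rw [e1, e2, e3]; exact conj_sq _ (conj_sq _ (conj_sq _ (ea_sq o.Ye hq)))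
  refine hW (o.trans (o.derived f le_rfl o.nW (fun _ => o.vY f) (by_contra fun h => hW ?_)) hq)
  obtain ⟨a, ha, b, hb, e⟩ := o.memP.1 (o.uv f)
  have h1 := o.ΩW (o.Y1le f (o.i1 b hb _ q' (fun h' => h (e ▸ mul_mem ha (o.ΩW (o.Y1le f h'))))
    fun h' => n0 q hW _ (o.ΩW z2) (o.ΩW (o.Y1le f h'))))
  have e4 : u * v * u⁻¹ = a * (b * (q * z₂)) * (v * (q * z₂)) := by
    rw [← inv_of_sq gg, ← mul_assoc a b, ← e, commutatorElement_def, inv_of_sq f.vv, mul_inv_rev, inv_of_sq f.vv]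
    simp only [mul_assoc, mul_inv_cancel_left, f.vv, mul_one]
  obtain ⟨w, -, e5⟩ := o.coset gg (by rw [← cj_cj, cj_eq_self (centralizer_le_normalizer _ (centralizer_anti o.U1 (o.Yc q'))),
    o.vU f]) (mul_mem ha h1) (e4 ▸ conj_sq u f.vv)
  exact o.ΩW (o.conjY hq ((f.iv.trans (isConj_conj u v)).trans (e4.symm ▸ e5 ▸ (c.trans (isConj_conj w _)).symm)))

end H97.QU
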