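import Cfsg.Agent.H97.QUMX2

/-! Job JObF of `blueprints/QU.md`. -/

set_option autoImplicit false
set_option linter.unusedSectionVars false
set_option linter.unusedSimpArgs false

namespace H97.QU

open Subgroup Cfsg H98 H96.CG
open H52 (zc)
open scoped commutatorElement

universe u

variable {G : Type u} [Group G] [Finite G] {T S W Y Y₁ Y₂ : Subgroup G}
  {z d e z' d' e' x w z₁ d₁ e₁ z₂ d₂ e₂ x₁ w₁ x₂ w₂ t u a b g : G}

theorem pair_mul (h : a * a = 1) : closure {a, a * b} = closure {a, b} :=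
  le_antisymm (pair_le.2 ⟨mem_pair_left _ _, mul_mem (mem_pair_left _ _) (mem_pair_right _ _)⟩) (pair_le.2
    ⟨mem_pair_left _ _, by simpa [← mul_assoc, h] using mul_mem (mem_pair_left a (a * b)) (mem_pair_right a (a * b))⟩)

namespace Sid
variable (h : Sid z d e z' d' e' x w)
include h

theorem dz : Commute d z := comm_of_fix (by
  nth_rw 2 [← inv_of_sq h.z2]
  rw [← h.de]
  simp only [mul_inv_rev, inv_of_sq h.d2, inv_of_sq h.e2, mul_assoc, lc h.d2, one_mul])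

theorem ed : e * d * (e * d) = z := by
  rw [← inv_of_sq h.z2, ← h.de]
  simp only [mul_inv_rev, inv_of_sq h.d2, inv_of_sq h.e2, mul_assoc]

theorem symm : Sid z e d z' e' d' w x :=
  ⟨h.e2, h.d2, h.ed, h.z2, h.z1, h.w3, h.wz, h.we, h.x3, h.xz, h.xd, h.wz', h.we', h.wd', h.xz', h.xd', h.xe'⟩

theorem ez : Commute e z := h.symm.dz

theorem ed' : e * d = d * (e * z) := by
  rw [h.ez.eq, h.dz.left_comm, ← h.ed]
  simp only [mul_assoc, lc h.d2, lc h.e2, one_mul, h.e2, mul_one]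

theorem ncomm : ¬ Commute d e := fun c => h.z1 (by rw [← h.de, c.symm.mul_mul_mul_comm, h.d2, h.e2, mul_one])

theorem zm : z ∈ closure {d, e} :=
  h.de ▸ mul_mem (mul_mem (mem_pair_left _ _) (mem_pair_right _ _)) (mul_mem (mem_pair_left _ _) (mem_pair_right _ _))

theorem Dle : closure {z, d} ≤ closure {d, e} := pair_le.2 ⟨h.zm, mem_pair_left _ _⟩

theorem ede : e * d * e⁻¹ = d * z := by rw [h.ed', h.ez.eq, ← mul_assoc, mul_inv_cancel_right]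

theorem nD : closure {d, e} ≤ nor (closure {z, d}) := pair_le.2 ⟨le_normalizer (mem_pair_right _ _),
  nor_pair ((conj_fix h.ez).symm ▸ mem_pair_left _ _) (h.ede ▸ mul_mem (mem_pair_right _ _) (mem_pair_left _ _))⟩

theorem mem : a ∈ closure {z, d} ↔ a = 1 ∨ a = z ∨ a = d ∨ a = z * d := mem_pair h.z2 h.d2 h.dz.symm

theorem ea : IsElementaryAbelian 2 (closure {z, d}) := ea_pair h.z2 h.d2 h.dz.symm

theorem memU (ha : a ∈ closure {d, e}) : a ∈ closure {z, d} ∨ a * e ∈ closure {z, d} :=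
  (mem_sup_zp (h.nD (mem_pair_right _ _)) (h.e2 ▸ one_mem _)).1
    (pair_le.2 ⟨mem_sup_left (mem_pair_right _ _), mem_sup_right (mem_zpowers e)⟩ ha)

theorem invol (ha : a ∈ closure {d, e}) (aa : a * a = 1) : a ∈ closure {z, d} ∨ a ∈ closure {z, e} := by
  refine (h.memU ha).imp_right fun m => ?_
  rcases h.mem.1 m with m | m | m | m <;> rw [← eq_mul_inv_iff_mul_eq, inv_of_sq h.e2] at m <;> rw [m] at aa ⊢
  · exact mul_mem (one_mem _) (mem_pair_right _ _)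
  · exact mul_mem (mem_pair_left _ _) (mem_pair_right _ _)
  · exact (h.z1 (h.de.symm.trans aa)).elim
  · rw [mul_assoc z, (h.dz.mul_left h.ez).mul_mul_mul_comm, h.de, h.z2, one_mul] at aa
    exact (h.z1 aa).elim

theorem xdz : x * (d * z) * x⁻¹ = z := by rw [conj_dist, h.xd, h.xz, h.dz.eq, mul_assoc, h.d2, mul_one]

theorem xe : x * e' * x⁻¹ = e' * (z * d) := by
  rw [← mul_assoc, ← h.xz, ← conj_fix h.xe', ← conj_dist, mul_assoc e', h.z2, mul_one]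

theorem xc : closure {z', d'} ≤ cen1 x := pair_le.2 ⟨mem_cen1.2 h.xz'.symm, mem_cen1.2 h.xd'.symm⟩

/-- `x` is transitive on the involutions of `⟨z, d⟩` -/
theorem orb (ha : a ∈ closure {z, d}) (hb : Commute x b) : a = 1 ∨ IsConj (z * b) (a * b) := by
  rcases h.mem.1 ha with rfl | rfl | rfl | rfl
  · exact .inl rfl
  · exact .inr (IsConj.refl _)
  · exact .inr (isConj_iff.2 ⟨x, by rw [conj_dist, h.xz, conj_fix hb]⟩)
  · exact .inr (isConj_iff.2 ⟨x, by rw [conj_dist, ← h.dz.eq, h.xdz, conj_fix hb]⟩).symm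

end Sid

namespace OB
variable (o : OB T S W Y Y₁ Y₂ z₁ d₁ e₁ z₂ d₂ e₂ x₁ w₁ x₂ w₂ t u)
include o

theorem U1 : closure {d₁, e₁} ≤ W := o.eW ▸ le_sup_left

theorem U2 : closure {d₂, e₂} ≤ W := o.eW ▸ le_sup_right

theorem cU : closure {d₁, e₁} ≤ cen (closure {d₂, e₂}) := by
  have A : ∀ a, Commute a d₂ → Commute a e₂ → a ∈ cen (closure {d₂, e₂}) := fun a h h' =>
    cen_symm (pair_le.2 ⟨(cen1_eq a).le (mem_cen1.2 h.symm), (cen1_eq a).le (mem_cen1.2 h'.symm)⟩) (mem_zpowers a)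
  exact pair_le.2 ⟨A _ o.dd o.de, A _ o.ed o.ee⟩

theorem cm (ha : a ∈ closure {d₁, e₁}) (hb : b ∈ closure {d₂, e₂}) : Commute a b := (com (o.cU ha) hb).symm

theorem zz : Commute z₁ z₂ := o.cm o.a.zm o.b.zm

theorem memW : g ∈ W ↔ ∃ a ∈ closure {d₁, e₁}, ∃ b ∈ closure {d₂, e₂}, g = a * b := by rw [o.eW, mem_sup_of_cen o.cU]

theorem one (ha : a ∈ closure {d₁, e₁}) (hb : a ∈ closure {d₂, e₂}) : a = 1 := o.ui.le ⟨ha, hb⟩

/-- interchange of the two factors -/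
theorem sw12 : OB T S W Y Y₂ Y₁ z₂ d₂ e₂ z₁ d₁ e₁ x₂ w₂ x₁ w₁ t u :=
  have c : IsConj z₁ z₂ := isConj_iff.2 ⟨t, o.tz1⟩
  { o with
    a := o.b, b := o.a, dd := o.dd.symm, de := o.ed.symm, ed := o.de.symm, ee := o.ee.symm
    ui := (inf_comm _ _).trans o.ui, eW := o.eW.trans (sup_comm _ _), YW := Set.pair_comm z₁ z₂ ▸ o.YW
    Y1 := o.Y2, Y2 := o.Y1, Y12 := Set.pair_comm z₁ z₂ ▸ (inf_comm _ _).trans o.Y12, i1 := o.i2, i2 := o.i1
    ac1 := o.ac2, ac2 := o.ac1, u1 := o.u2, u1' := o.u2', u2 := o.u1, u2' := o.u1', t1 := o.t2, t1' := o.t2'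
    t2 := o.t1, t2' := o.t1', tz1 := o.tz2, tz2 := o.tz1, nY1 := o.nY2, nY2 := o.nY1, tY1 := o.tY2, tY2 := o.tY1
    co := (inf_comm _ _).trans o.co, nc := fun h => o.nc (o.zz.eq ▸ c.trans h)
    rs := fun j hj j2 j1 => by
      rw [← o.tz1, ← cj_cen1, ← cj_res, mem_cj] at hj
      have := o.rs _ hj (by simpa using conj_sq t⁻¹ j2) (by simpa using conj_ne t⁻¹ j1)
      exact c.symm.trans (this.trans (isConj_iff.2 ⟨t, by group⟩))
    nz := o.zz.eq ▸ o.nz }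

/-- interchange of the two classes of four-groups -/
theorem swde : OB T S W Y Y₁ Y₂ z₁ e₁ d₁ z₂ e₂ d₂ w₁ x₁ w₂ x₂ t u :=
  { o with
    a := o.a.symm, b := o.b.symm, dd := o.ee, de := o.ed, ed := o.de, ee := o.dd
    ui := Set.pair_comm d₁ e₁ ▸ Set.pair_comm d₂ e₂ ▸ o.ui, eW := Set.pair_comm d₁ e₁ ▸ Set.pair_comm d₂ e₂ ▸ o.eW
    ac1 := fun q h h' => (o.ac1 q h h').symm.imp And.symm And.symm
    ac2 := fun q h h' => (o.ac2 q h h').symm.imp And.symm And.symm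
    u1 := o.u1', u1' := o.u1, u2 := o.u2', u2' := o.u2, t1 := o.t1', t1' := o.t1, t2 := o.t2', t2' := o.t2 }

theorem nD : W ⊔ Y ≤ nor (closure {z₁, d₁}) := sup_le (o.eW.le.trans (sup_le o.a.nD (le_normalizer_of_le_centralizer
  ((cen_symm o.cU).trans (centralizer_anti o.a.Dle))))) (le_normalizer_of_le_centralizer
    (o.Yc.trans (centralizer_anti (o.a.Dle.trans o.U1))))

theorem ne : closure {z₁, d₁} ≠ closure {z₁, e₁} := fun h =>
  o.a.ncomm (ea_com o.a.ea (mem_pair_right _ _) (h ▸ mem_pair_right _ _))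

theorem c12 : IsConj z₁ z₂ := isConj_iff.2 ⟨t, o.tz1⟩

theorem cls0 (ha : a = 1 ∨ a = z₁) (hb : b = 1 ∨ b = z₂) : a * b = 1 ∨ IsConj z₁ (a * b) ∨ IsConj (z₁ * z₂) (a * b) := by
  rcases ha with rfl | rfl <;> rcases hb with rfl | rfl
  exacts [.inl (mul_one 1), .inr (.inl (by rw [one_mul]; exact o.c12)), .inr (.inl (by rw [mul_one])), .inr (.inr (IsConj.refl _))]

theorem tr (h : a = 1 ∨ IsConj z₁ a ∨ IsConj (z₁ * z₂) a) (e : IsConj a b) : b = 1 ∨ IsConj z₁ b ∨ IsConj (z₁ * z₂) b :=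
  h.imp (fun h' : a = 1 => isConj_one_right.1 (h' ▸ e)) (Or.imp (·.trans e) (·.trans e))

theorem cls1 (ha : a ∈ closure {z₁, d₁}) (hb : b = 1 ∨ b = z₂) : a * b = 1 ∨ IsConj z₁ (a * b) ∨ IsConj (z₁ * z₂) (a * b) :=
  (o.a.orb ha (hb.elim (· ▸ Commute.one_right _) (· ▸ o.a.xz'))).elim (fun h => o.cls0 (.inl h) hb)
    (o.tr (o.cls0 (.inr rfl) hb))

theorem cls2 (ha : a = 1 ∨ a = z₁) (hb : b ∈ closure {z₂, d₂}) : a * b = 1 ∨ IsConj z₁ (a * b) ∨ IsConj (z₁ * z₂) (a * b) := by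
  rw [(o.cm (ha.elim (· ▸ one_mem _) (· ▸ o.a.zm)) (o.b.Dle hb)).eq, o.zz.eq]
  exact (o.sw12.cls1 hb ha).imp_right (Or.imp_left o.c12.trans)

theorem clsdd (ha : a ∈ closure {z₁, d₁}) (hb : b ∈ closure {z₂, d₂}) :
    a * b = 1 ∨ IsConj z₁ (a * b) ∨ IsConj (z₁ * z₂) (a * b) :=
  (o.a.orb ha (mem_cen1.1 (o.a.xc hb)).symm).elim (fun h => o.cls2 (.inl h) hb) (o.tr (o.cls2 (.inr rfl) hb))

theorem clsde (ha : a ∈ closure {z₁, d₁}) (hb : b ∈ closure {z₂, e₂}) :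
    a * b = 1 ∨ IsConj z₁ (a * b) ∨ IsConj (z₁ * z₂) (a * b) := by
  have A : ∀ b ∈ closure {z₂, e₂}, x₁ * b * x₁⁻¹ = b * (z₁ * d₁) → a * b = 1 ∨ IsConj z₁ (a * b) ∨ IsConj (z₁ * z₂) (a * b) :=
    fun b hb e => by
      have c := fun a ha => o.cm (a := a) (o.a.Dle ha) (o.swde.b.Dle.trans (Set.pair_comm d₂ e₂ ▸ le_rfl) hb)
      have h1 : IsConj (1 * b) (z₁ * d₁ * b) := isConj_iff.2 ⟨x₁, by
        rw [one_mul, e, (c _ (mul_mem (mem_pair_left _ _) (mem_pair_right _ _))).eq]⟩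
      have h2 : IsConj (z₁ * d₁ * b) (d₁ * b) := isConj_iff.2 ⟨x₁, by
        rw [conj_dist, ← o.a.dz.eq, o.a.xdz, e, (c _ (mem_pair_left _ _)).left_comm, lc o.a.z2, one_mul,
          (c _ (mem_pair_right _ _)).eq]⟩
      rcases o.a.mem.1 ha with rfl | rfl | rfl | rfl
      exacts [o.swde.cls2 (.inl rfl) hb, o.swde.cls2 (.inr rfl) hb, o.tr (o.swde.cls2 (.inl rfl) hb) (h1.trans h2),
        o.tr (o.swde.cls2 (.inl rfl) hb) h1]
  rcases o.b.symm.mem.1 hb with rfl | rfl | rfl | rfl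
  exacts [o.cls1 ha (.inl rfl), o.cls1 ha (.inr rfl), A _ hb o.a.xe,
    A _ hb (by rw [conj_dist, conj_fix o.a.xz', o.a.xe, mul_assoc])]

theorem cls (hg : g ∈ W) (gg : g * g = 1) : g = 1 ∨ IsConj z₁ g ∨ IsConj (z₁ * z₂) g := by
  obtain ⟨a, ha, b, hb, rfl⟩ := o.memW.1 hg
  rw [(o.cm ha hb).symm.mul_mul_mul_comm] at gg
  have aa := o.one (mul_mem ha ha) (eq_inv_of_mul_eq_one_left gg ▸ inv_mem (mul_mem hb hb))
  rw [aa, one_mul] at gg
  rcases o.a.invol ha aa with h | h <;> rcases o.b.invol hb gg with h' | h'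
  exacts [o.clsdd h h', o.clsde h h', o.swde.clsde h h', o.swde.clsdd h h']

end OB

theorem jobObF : JObF.{u} := by
  intro G _ _ T S W Y Y₁ Y₂ z₁ d₁ e₁ z₂ d₂ e₂ x₁ w₁ x₂ w₂ t u o
  have m1 := mem_pair_left d₁ e₁
  have m2 := mem_pair_right d₂ e₂
  have c1 := o.a.dz.symm.eq
  have c2 := (o.cm m1 o.b.zm).symm.eq
  have c3 := o.de.symm.eq
  have c4 := o.zz.symm.eq
  have c5 := (o.cm o.a.zm m2).symm.eq
  have c6 := o.b.ez.eq
  have xz := o.a.xz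
  have xd := o.a.xd
  have xz' := conj_fix o.a.xz'
  have xe := o.a.xe
  have wz := o.b.wz
  have we := o.b.we
  have wz' := conj_fix o.b.wz'
  have wd := o.b.symm.xe
  have A : ∀ a b, x₁ * (w₂ * a * w₂⁻¹) * x₁⁻¹ = b → x₁ * w₂ * x₁⁻¹ * (x₁ * a * x₁⁻¹) * (x₁ * w₂ * x₁⁻¹)⁻¹ = b :=
    fun a b h => by rw [← h]; group
  have o1 := A z₁ d₁ (by rw [wz', xz])
  have o2 := A z₂ _ (by rw [wz, xe])
  have o3 := A (d₁ * z₁) (d₁ * (z₂ * e₂)) (by
    simp only [conj_dist, wd, wz', xz, xd, xz', xe]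
    simp only [mul_assoc, c1, c2, c3, c4, c5, c6, lc c1, lc c2, lc c3, lc c4, lc c5, lc c6, o.a.d2, o.a.z2, lc o.a.d2,
      lc o.a.z2, one_mul, mul_one])
  have o4 := A (e₂ * d₁) (d₁ * z₁) (by
    simp only [conj_dist, wd, we, xz, xd, xz', xe]
    simp only [mul_assoc, c1, c2, c3, c4, c5, c6, lc c1, lc c2, lc c3, lc c4, lc c5, lc c6, o.a.d2, o.a.z2, lc o.a.d2,
      lc o.a.z2, one_mul, mul_one, o.b.e2, o.b.z2, lc o.b.e2, lc o.b.z2])
  rw [xz] at o1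
  rw [xz'] at o2
  rw [o.a.xdz] at o3
  rw [show x₁ * (e₂ * d₁) * x₁⁻¹ = e₂ by
    rw [conj_dist, xe, xd, mul_assoc, mul_assoc, lc o.a.d2, one_mul, o.a.z2, mul_one]] at o4
  have cω : ∀ q, Commute x₁ q → Commute w₂ q → Commute (x₁ * w₂ * x₁⁻¹) q := fun q h h' =>
    (h.mul_left h').mul_left h.inv_left
  generalize x₁ * w₂ * x₁⁻¹ = ω at o1 o2 o3 o4 cω
  have τd : e₁ * d₂ * d₁ * (e₁ * d₂)⁻¹ = d₁ * z₁ := by rw [conj_conj, conj_fix o.dd.symm, o.a.ede]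
  have τe : e₁ * d₂ * e₂ * (e₁ * d₂)⁻¹ = e₂ * z₂ := by
    rw [conj_conj, o.b.symm.ede, conj_fix (o.ee.mul_right (o.cm (mem_pair_right _ _) o.b.zm))]
  have B : ∀ a b, ω * (e₁ * d₂ * a * (e₁ * d₂)⁻¹) * ω⁻¹ = b →
      ω * (e₁ * d₂) * ω⁻¹ * (ω * a * ω⁻¹) * (ω * (e₁ * d₂) * ω⁻¹)⁻¹ = b := fun a b h => by rw [← h]; group
  have v1 := B (e₂ * d₁) z₂ (by
    simp only [conj_dist, τd, τe, o1, o2, o3, o4]
    simp only [mul_assoc, c1, c2, c3, c4, c5, c6, lc c1, lc c2, lc c3, lc c4, lc c5, lc c6, o.a.d2, o.a.z2, lc o.a.d2,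
      lc o.a.z2, one_mul, mul_one, o.b.e2, o.b.z2, lc o.b.e2, lc o.b.z2])
  have v2 := B d₁ (z₂ * e₂) (by rw [τd, conj_dist, o1, o3, lc o.a.d2, one_mul])
  rw [conj_dist ω e₂, o4, o1, o.a.dz.eq, mul_assoc z₁, o.a.d2, mul_one] at v1
  rw [o1] at v2
  have vv := conj_sq ω (show e₁ * d₂ * (e₁ * d₂) = 1 by rw [o.ed.symm.mul_mul_mul_comm, o.a.e2, o.b.d2, mul_one])
  have iv : IsConj z₁ (e₁ * d₂) := (o.c12.trans (isConj_iff.2 ⟨x₂, o.b.xz⟩)).trans (isConj_iff.2 ⟨w₁ * w₁, by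
    have e := o.a.symm.xe
    have c := conj_fix o.a.wd'
    rw [conj_conj, e, ← mul_assoc d₂, conj_dist, c, o.a.we, mul_assoc, o.a.ez.symm.left_comm, o.a.z2, mul_one, o.ed.eq]⟩)
  replace iv := iv.trans (isConj_conj ω _)
  generalize ev : ω * (e₁ * d₂) * ω⁻¹ = v at *
  have v3 : v * z₂ * v⁻¹ = z₁ := by rw [← v1, ← conj_conj, vv]; simp
  have gS : v * t ∈ S := o.co.le ⟨mem_cen1.2 (comm_of_fix (by rw [conj_conj, o.tz1, v3])),
    mem_cen1.2 (comm_of_fix (by rw [conj_conj, o.tz2, v1]))⟩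
  have e1 : cj v (closure {z₁, d₁}) = closure {z₂, e₂} := by rw [cj_pair, v1, v2, pair_mul o.b.z2]
  refine ⟨v, ω, ev.symm, cω, (T.mul_mem_cancel_right o.tT).1 (o.ST gS), vv, iv, v1, e1, ?_, fun _ => o.cls⟩
  rcases o.mS _ gS with h | h
  · exact (o.sw12.ne (by rw [← e1, ← o.t2, cj_cj, cj_eq_self (o.sw12.nD h)])).elim
  · rw [← o.t2', ← o.u2, cj_cj, cj_cj, cj_eq_self (o.sw12.nD h)]

end H97.QU
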