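import Cfsg.Agent.H97.QULib

/-! Quasithin groups with a unique maximal 2-local subgroup over a Sylow 2-subgroup (S1819, S1846):
vocabulary and job statements, part 2 (`blueprints/QU.md`). -/

set_option autoImplicit false

namespace H97.QU

open Subgroup Cfsg H98 H96.CG
open H52 (zc)
open scoped commutatorElement

universe u

section Defs

variable {G : Type u} [Group G]

/-- `U` is dihedral of order `2 ^ (n + 1)` and is the centralizer in `K` of its central involution -/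
structure Dih (K U : Subgroup G) (z₀ : G) (n : ℕ) (r d : G) : Prop where
  two : 2 ≤ n
  ord : orderOf r = 2 ^ n
  dd : d * d = 1
  dr : d * r * d⁻¹ = r⁻¹
  nm : d ∉ zpowers r
  gen : U = closure {r, d}
  ez : z₀ = r ^ 2 ^ (n - 1)
  cz : K ⊓ cen1 z₀ = U

/-- `U` is semidihedral of order 16 -/
structure Sd (K U : Subgroup G) (z₀ r d : G) : Prop where
  ord : orderOf r = 8
  dd : d * d = 1
  dr : d * r * d⁻¹ = r ^ 3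
  nm : d ∉ zpowers r
  gen : U = closure {r, d}
  ez : z₀ = r ^ 4
  e9 : E9 K

def IsDih (K U : Subgroup G) (z₀ : G) : Prop := ∃ n r d, Dih K U z₀ n r d

def IsSd (K U : Subgroup G) (z₀ : G) : Prop := ∃ r d, Sd K U z₀ r d

/-- facts inside the component; `U = P ⊓ K` -/
structure L4 (P K : Subgroup G) (z₀ : G) : Prop where
  one : ∀ j ∈ K, j * j = 1 → j ≠ 1 → ∃ k ∈ K, k * z₀ * k⁻¹ = j
  cD : ∀ D ≤ K, V4 D → K ⊓ cen D ≤ D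
  xD : ∀ D ≤ K, V4 D → ∃ x ∈ K ⊓ nor D, orderOf x = 3
  gen : ∀ Y : Subgroup G, K ⊓ cen1 z₀ ≤ Y → (∀ D ≤ P ⊓ K, V4 D → K ⊓ nor D ≤ Y) → K ≤ Y
  odd : ∀ x ∈ nor K ⊓ nor (P ⊓ K), Odd (orderOf x) → x ∈ cen K
  typ : IsDih K (P ⊓ K) z₀ ∨ IsSd K (P ⊓ K) z₀
  psl : IsDih K (P ⊓ K) z₀ → ∃ (F : Type) (_ : Field F) (_ : Fintype F), Odd (Fintype.card F) ∧
    3 < Fintype.card F ∧ Nonempty (K ≃* Matrix.ProjectiveSpecialLinearGroup (Fin 2) F)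
  nnD : ∀ D ≤ P ⊓ K, V4 D → ¬ P ≤ nor D

/-- the automorphisms of `K` come from `PGL₂` -/
def PG (K : Subgroup G) : Prop :=
  (∀ y ∈ nor K, ∀ D ≤ K, V4 D → y ∈ cen D → y ∈ D ⊔ cen K) ∧
    ∀ y ∈ nor K, y ∉ K ⊔ cen K → ∃ k ∈ K, y * k * (y * k) ∈ cen K

/-- only inner automorphisms normalize a four-group -/
structure N4 (P K : Subgroup G) (z₀ : G) : Prop where
  nn : ∀ D ≤ P ⊓ K, V4 D → P ⊓ nor D ≤ P ⊓ K ⊔ cen K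
  c1 : ∀ c ∈ P ⊓ cen (P ⊓ K), c ∈ cen K ∨ c * z₀ ∈ cen K
  nea : ∀ W ≤ P, IsElementaryAbelian 2 W → P ≤ nor W → ∀ w ∈ W, w ∈ cen K ∨ w * z₀ ∈ cen K
  idx : ∀ y ∈ P, ∀ y' ∈ P, y ∉ P ⊓ K ⊔ cen K → y' ∉ P ⊓ K ⊔ cen K → y * y' ∈ P ⊓ K ⊔ cen K
  rk2 : ∀ E ≤ P, IsElementaryAbelian 2 E → (cen K).relIndex E ≤ 4
  oi : ∀ y ∈ P, y ∉ P ⊓ K ⊔ cen K → 16 ≤ Nat.card ↥(P ⊓ K) → ∃ j ∈ P, j ∉ P ⊓ K ⊔ cen K ∧ j * j ∈ cen K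

/-- an outer automorphism `α` centralizes the normalizer of a four-group -/
structure M4 (P K : Subgroup G) (z₀ : G) (D D' : Subgroup G) (α : G) : Prop where
  v : V4 D
  v' : V4 D'
  le : D ≤ P ⊓ K
  le' : D' ≤ P ⊓ K
  ne : D ≠ D'
  zD : z₀ ∈ D
  zD' : z₀ ∈ D'
  inv : ∀ u ∈ P ⊓ K, u * u = 1 → u ∈ D ∨ u ∈ D'
  v4 : ∀ F ≤ P ⊓ K, V4 F → F = D ∨ F = D'
  n1 : D' ≤ nor D
  n2 : D ≤ nor D'
  aP : α ∈ P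
  a1 : α ∈ cen (K ⊓ nor D)
  a2 : α * z₀ ∈ cen (K ⊓ nor D')
  aa : α * α ∈ cen K
  e9 : E9 K
  nD : ∀ y ∈ P ⊓ nor D, ∃ u ∈ D ⊔ D', y * u ∈ cen K ∨ y * u * α ∈ cen K
  sw : ∃ y ∈ P, cj y D = D' ∧ cj y D' = D
  cc : ∀ c ∈ P, c ∈ cen (K ⊓ nor D) → c ∈ cen (K ⊓ nor D') → c ∈ cen K
  u8 : IsDih K (P ⊓ K) z₀ → P ⊓ K = D ⊔ D'
  sd : IsSd K (P ⊓ K) z₀ → ∃ u ∈ P ⊓ K, u ∉ nor D

/-- all facts about a component with a self-centralizing four-group -/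
structure F4 (M P K : Subgroup G) (z₀ : G) : Prop extends B4 M P K z₀, L4 P K z₀ where
  alt : N4 P K z₀ ∨ ∃ D D' α, M4 P K z₀ D D' α
  zC : ∀ c ∈ zc P, c ∈ cen K ∨ c * z₀ ∈ cen K
  lw : ∀ D ≤ P ⊓ K, V4 D → K ⊓ nor D ≤ nor (P ⊓ cen D)
  rr : IsDih K (P ⊓ K) z₀ → ∀ j ∈ P, j * j = 1 → CharP 2 (K ⊓ cen1 j) → ∃ D ≤ P ⊓ K, V4 D ∧ j ∈ nor D
  c1s : IsSd K (P ⊓ K) z₀ → ∀ c ∈ P ⊓ cen (P ⊓ K), c ∈ cen K ∨ c * z₀ ∈ cen K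

/-! ### Frames -/

structure Fc (M T S K : Subgroup G) (s : ℕ) (i z t : G) : Prop where
  tr : Tr M s S K i
  zt : Zt M S T z
  tT : t ∈ T
  tS : t ∈ nor S
  tn : t ∉ S
  tt : t * t ∈ S
  nT : T ⊓ nor S ≤ S ⊔ zpowers t
  ti : t * i * t⁻¹ = i * z
  om : ∀ w ∈ zc S, w * w = 1 → w = 1 ∨ w = i ∨ w = z ∨ w = i * z
  nc : ¬ IsConj i z
  syl : IsSyl 2 S (cen1 i)
  rule : ∀ j, TC j → Commute j i → CharP 2 (K ⊓ cen1 j)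

/-- `S` normalizes `K`; used with `z₀ = z` or `z₀ = i * z` -/
structure F1 (M T S K : Subgroup G) (s : ℕ) (i z t z₀ : G) : Prop extends Fc M T S K s i z t where
  f4 : F4 M S K z₀
  nK : cen1 i ≤ nor K
  qq : S ⊓ cen K ⊓ cj t (S ⊓ cen K) = ⊥
  ch : CharP 2 (cen1 i ⊓ cen K)

/-- `y ∈ S` interchanges the components `K₁`, `K₂` -/
structure F2 (M T S K₁ K₂ : Subgroup G) (s : ℕ) (i z t y z₁ z₂ : G) : Prop extends Fc M T S K₁ s i z t where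
  yS : y ∈ S
  yn : y ∉ nor K₁
  k1 : cj y K₁ = K₂
  k2 : cj y K₂ = K₁
  y1 : y * z₁ * y⁻¹ = z₂
  y2 : y * z₂ * y⁻¹ = z₁
  two : ∀ g ∈ cen1 i, g ∈ nor K₁ ⊓ nor K₂ ∨ g * y ∈ nor K₁ ⊓ nor K₂
  comp2 : IsComponentOf K₂ (cen1 i)
  cm : K₁ ≤ cen K₂
  f1 : F4 M (S ⊓ nor K₁) K₁ z₁
  f2 : F4 M (S ⊓ nor K₁) K₂ z₂
  d1 : IsDih K₁ (S ⊓ nor K₁ ⊓ K₁) z₁
  d2 : IsDih K₂ (S ⊓ nor K₁ ⊓ K₂) z₂
  n1 : N4 (S ⊓ nor K₁) K₁ z₁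
  n2 : N4 (S ⊓ nor K₁) K₂ z₂
  qq : S ⊓ cen K₁ ⊓ cen K₂ ⊓ cj t (S ⊓ cen K₁ ⊓ cen K₂) = ⊥
  rule2 : ∀ j, TC j → Commute j i → CharP 2 (K₂ ⊓ cen1 j)

/-- the case `z₀ = i z`: `z₂ = i`, `z₁ = i z`, `K₂ = K₁ ^ t`; symmetric in the indices -/
structure O0 (M T S K₁ K₂ : Subgroup G) (s : ℕ) (z₁ z₂ z t : G) : Prop where
  fc1 : Fc M T S K₁ s z₂ z t
  fc2 : Fc M T S K₂ s z₁ z t
  f1 : F4 M S K₁ z₁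
  f2 : F4 M S K₂ z₂
  ez : z₁ * z₂ = z
  ez' : z₂ * z₁ = z
  k1 : cj t K₁ = K₂
  k2 : cj t K₂ = K₁
  t1 : t * z₁ * t⁻¹ = z₂
  t2 : t * z₂ * t⁻¹ = z₁
  n1 : cen1 z₂ ≤ nor K₁
  n2 : cen1 z₁ ≤ nor K₂
  uu : S ⊓ K₁ ≤ cen (S ⊓ K₂)
  ui : S ⊓ K₁ ⊓ K₂ = ⊥
  qq : S ⊓ cen K₁ ⊓ cen K₂ = ⊥
  ch1 : CharP 2 (cen1 z₂ ⊓ cen K₁)
  ch2 : CharP 2 (cen1 z₁ ⊓ cen K₂)
  nz1 : ∀ d ∈ S ⊓ K₁, d * d = 1 → d ≠ 1 → d * z₂ ∉ cen K₂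
  nz2 : ∀ d ∈ S ⊓ K₂, d * d = 1 → d ≠ 1 → d * z₁ ∉ cen K₁

structure OC (M T S K₁ K₂ : Subgroup G) (s : ℕ) (z₁ z₂ z t : G) : Prop extends O0 M T S K₁ K₂ s z₁ z₂ z t where
  d1 : IsDih K₁ (S ⊓ K₁) z₁
  d2 : IsDih K₂ (S ⊓ K₂) z₂
  ci1 : cen1 z₂ = K₁ ⊔ S
  ci2 : cen1 z₁ = K₂ ⊔ S
  rs1 : res 2 (cen1 z₂) ≤ K₁
  rs2 : res 2 (cen1 z₁) ≤ K₂
  co : cen1 z₁ ⊓ cen1 z₂ = S
  fx : ∀ g, g * z₁ * g⁻¹ = z₂ → g * z₂ * g⁻¹ = z₁ → g ∈ S ⊔ zpowers t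

/-- one dihedral factor `⟨d, e⟩` of order eight with centre `z`, the elements `x`, `w` of order three moving
`⟨z, d⟩`, `⟨z, e⟩`, and their action on the other factor -/
structure Sid (z d e z' d' e' x w : G) : Prop where
  d2 : d * d = 1
  e2 : e * e = 1
  de : d * e * (d * e) = z
  z2 : z * z = 1
  z1 : z ≠ 1
  x3 : orderOf x = 3
  xz : x * z * x⁻¹ = d
  xd : x * d * x⁻¹ = d * z
  w3 : orderOf w = 3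
  wz : w * z * w⁻¹ = e
  we : w * e * w⁻¹ = e * z
  xz' : Commute x z'
  xd' : Commute x d'
  xe' : Commute x (e' * z)
  wz' : Commute w z'
  we' : Commute w e'
  wd' : Commute w (d' * z)

/-- two components `A₆` acting on each other: `W = U₁ × U₂`, `S⁺ = W ⊔ Y` -/
structure OB (T S W Y Y₁ Y₂ : Subgroup G) (z₁ d₁ e₁ z₂ d₂ e₂ x₁ w₁ x₂ w₂ t u : G) : Prop where
  a : Sid z₁ d₁ e₁ z₂ d₂ e₂ x₁ w₁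
  b : Sid z₂ d₂ e₂ z₁ d₁ e₁ x₂ w₂
  dd : Commute d₁ d₂
  de : Commute d₁ e₂
  ed : Commute e₁ d₂
  ee : Commute e₁ e₂
  ui : closure {d₁, e₁} ⊓ closure {d₂, e₂} = (⊥ : Subgroup G)
  eW : W = closure {d₁, e₁} ⊔ closure {d₂, e₂}
  syl : IsSyl 2 T ⊤
  res : res 2 (⊤ : Subgroup G) = ⊤
  Ye : IsElementaryAbelian 2 Y
  Yc : Y ≤ cen W
  YW : Y ⊓ W = closure {z₁, z₂}
  Y1 : Y₁ ≤ Y
  Y2 : Y₂ ≤ Y
  Y12 : Y₁ ⊓ Y₂ = closure {z₁, z₂}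
  i1 : ∀ q ∈ Y, ∀ q' ∈ Y, q ∉ Y₁ → q' ∉ Y₁ → q * q' ∈ Y₁
  i2 : ∀ q ∈ Y, ∀ q' ∈ Y, q ∉ Y₂ → q' ∉ Y₂ → q * q' ∈ Y₂
  ac1 : ∀ q ∈ Y, q ∉ Y₁ → Commute x₁ q ∧ Commute w₁ (q * z₁) ∨ Commute x₁ (q * z₁) ∧ Commute w₁ q
  ac2 : ∀ q ∈ Y, q ∉ Y₂ → Commute x₂ q ∧ Commute w₂ (q * z₂) ∨ Commute x₂ (q * z₂) ∧ Commute w₂ q
  pS : W ⊔ Y ≤ S
  ST : S ≤ T
  uS : u ∈ S
  tT : t ∈ T
  mS : ∀ g ∈ S, g ∈ W ⊔ Y ∨ g * u ∈ W ⊔ Y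
  mT : ∀ g ∈ T, g ∈ S ∨ g * t ∈ S
  u1 : cj u (closure {z₁, d₁}) = closure {z₁, e₁}
  u1' : cj u (closure {z₁, e₁}) = closure {z₁, d₁}
  u2 : cj u (closure {z₂, d₂}) = closure {z₂, e₂}
  u2' : cj u (closure {z₂, e₂}) = closure {z₂, d₂}
  t1 : cj t (closure {z₁, d₁}) = closure {z₂, d₂}
  t1' : cj t (closure {z₁, e₁}) = closure {z₂, e₂}
  t2 : cj t (closure {z₂, d₂}) = closure {z₁, d₁}
  t2' : cj t (closure {z₂, e₂}) = closure {z₁, e₁}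
  tz1 : t * z₁ * t⁻¹ = z₂
  tz2 : t * z₂ * t⁻¹ = z₁
  nY : T ≤ nor Y
  nY1 : S ≤ nor Y₁
  nY2 : S ≤ nor Y₂
  tY1 : cj t Y₁ = Y₂
  tY2 : cj t Y₂ = Y₁
  co : cen1 z₁ ⊓ cen1 z₂ = S
  wc : ∀ g, cj g (W ⊔ Y) ≤ T → g ∈ T
  nc : ¬ IsConj z₁ (z₁ * z₂)
  rs : ∀ j ∈ H98.res 2 (cen1 z₁), j * j = 1 → j ≠ 1 → IsConj z₁ j
  nz : ∀ j ∈ S, IsConj (z₁ * z₂) j → j ∈ W ⊔ Y

/-- the involution `v` coming from the `A₅` acting on `⟨z₁, d₁, z₂, e₂⟩` -/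
structure OF (T W : Subgroup G) (z₁ d₁ e₁ z₂ d₂ e₂ x₁ w₂ v ω : G) : Prop where
  ev : v = ω * (e₁ * d₂) * ω⁻¹
  cω : ∀ q, Commute x₁ q → Commute w₂ q → Commute ω q
  vT : v ∈ T
  vv : v * v = 1
  iv : IsConj z₁ v
  vz : v * z₁ * v⁻¹ = z₂
  v1 : cj v (closure {z₁, d₁}) = closure {z₂, e₂}
  v1' : cj v (closure {z₁, e₁}) = closure {z₂, d₂}
  cls : ∀ g ∈ W, g * g = 1 → g = 1 ∨ IsConj z₁ g ∨ IsConj (z₁ * z₂) g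

/-- the case `z₀ = z` without an automorphism `α` -/
structure O2 (M T S K : Subgroup G) (s : ℕ) (i z t : G) : Prop extends F1 M T S K s i z t z where
  n4 : N4 S K z
  q0 : S ⊓ cen K = zpowers i
  ci : cen1 i = K ⊔ S
  cj4 : ∀ D ≤ S ⊓ K, ∀ D' ≤ S ⊓ K, V4 D → V4 D' → ∃ y ∈ S, cj y D = D'
  tU : ∀ d ∈ S ⊓ K, d * d = 1 → t * d * t⁻¹ ∈ S ⊓ K

/-- the element `e` found in the normalizer of `⟨z, d, i⟩` -/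
structure EE (d i z ρ e : G) : Prop where
  ei : e * i * e⁻¹ = i * z
  ed : Commute e d
  eρ : Commute e ρ
  alt : (e * e = 1 ∧ ¬ IsConj i e ∧ IsConj i (e * ρ * i)) ∨
    (e * e = z ∧ IsConj z (e * ρ) ∧ ∃ a b : G, IsPGroup 2 (closure {a, b} : Subgroup G) ∧ a * a ≠ b * b ∧
      IsConj z (a * a) ∧ IsConj z (b * b))

/-- `S = ⟨σ, d⟩ × ⟨i⟩` with `⟨σ, d⟩` dihedral of order at least 32 -/
structure MX (T : Subgroup G) (n : ℕ) (σ d i z ρ e : G) : Prop extends EE d i z ρ e where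
  syl : IsSyl 2 T ⊤
  res : res 2 (⊤ : Subgroup G) = ⊤
  zT : z ∈ zc T
  four : 4 ≤ n
  ord : orderOf σ = 2 ^ n
  ez : z = σ ^ 2 ^ (n - 1)
  er : ρ = σ ^ 2 ^ (n - 2)
  dd : d * d = 1
  dσ : d * σ * d⁻¹ = σ⁻¹
  ii : i * i = 1
  iσ : Commute i σ
  id : Commute i d
  sS : IsSyl 2 (closure {σ, d, i}) (cen1 i)
  ST : closure {σ, d, i} ≤ T
  eT : e ∈ T
  eσ : e * σ * e⁻¹ ∈ closure {σ, i}
  nc : ¬ IsConj i z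

end Defs

section Symm

variable {G : Type u} [Group G] {M T S K₁ K₂ : Subgroup G} {s : ℕ} {z₁ z₂ z t : G}

theorem O0.symm (h : O0 M T S K₁ K₂ s z₁ z₂ z t) : O0 M T S K₂ K₁ s z₂ z₁ z t where
  fc1 := h.fc2
  fc2 := h.fc1
  f1 := h.f2
  f2 := h.f1
  ez := h.ez'
  ez' := h.ez
  k1 := h.k2
  k2 := h.k1
  t1 := h.t2
  t2 := h.t1
  n1 := h.n2
  n2 := h.n1
  uu := cen_symm h.uu
  ui := by rw [inf_right_comm, h.ui]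
  qq := by rw [inf_right_comm, h.qq]
  ch1 := h.ch2
  ch2 := h.ch1
  nz1 := h.nz2
  nz2 := h.nz1

theorem OC.symm (h : OC M T S K₁ K₂ s z₁ z₂ z t) : OC M T S K₂ K₁ s z₂ z₁ z t where
  toO0 := h.toO0.symm
  d1 := h.d2
  d2 := h.d1
  ci1 := h.ci2
  ci2 := h.ci1
  rs1 := h.rs2
  rs2 := h.rs1
  co := by rw [inf_comm, h.co]
  fx := fun g a b => h.fx g b a

end Symm

/-! ### Jobs: the component -/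

def JF4a : Prop := ∀ (G : Type u) [Group G] [Finite G] (M P K : Subgroup G) (z₀ : G), B4 M P K z₀ → L4 P K z₀

def JF4p : Prop := ∀ (G : Type u) [Group G] [Finite G] (K U : Subgroup G) (z₀ : G) (n : ℕ) (r d : G)
  (F : Type) [Field F] [Fintype F], Odd (Fintype.card F) → 3 < Fintype.card F →
  Nonempty (K ≃* Matrix.ProjectiveSpecialLinearGroup (Fin 2) F) → Dih K U z₀ n r d → (n = 2 ∧ E9 K) ∨ PG K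

def JF4b : Prop := ∀ (G : Type u) [Group G] [Finite G] (M P K : Subgroup G) (z₀ : G), B4 M P K z₀ → L4 P K z₀ →
  (∀ n r d, Dih K (P ⊓ K) z₀ n r d → (n = 2 ∧ E9 K) ∨ PG K) → N4 P K z₀ ∨ ∃ D D' α, M4 P K z₀ D D' α

def JF4c : Prop := ∀ (G : Type u) [Group G] [Finite G] (M P K : Subgroup G) (z₀ : G), B4 M P K z₀ → L4 P K z₀ →
  (N4 P K z₀ ∨ ∃ D D' α, M4 P K z₀ D D' α) → F4 M P K z₀

/-- the four jobs above together -/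
def JF4 : Prop := ∀ (G : Type u) [Group G] [Finite G] (M P K : Subgroup G) (z₀ : G), B4 M P K z₀ → F4 M P K z₀

theorem jf4_of (a : JF4a.{u}) (p : JF4p.{u}) (b : JF4b.{u}) (c : JF4c.{u}) : JF4.{u} := fun G _ _ M P K z₀ h =>
  have l := a G M P K z₀ h
  c G M P K z₀ h l (b G M P K z₀ h l fun n r d e =>
    let ⟨F, _, _, h1, h2, h3⟩ := l.psl ⟨n, r, d, e⟩; p G K _ z₀ n r d F h1 h2 h3 e)

/-! ### Jobs: frames -/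

def JFr : Prop := JF4.{u} → ∀ (G : Type u) [Group G] [Finite G] (M T S K : Subgroup G) (s : ℕ) (i z z₀ : G),
  Kit M s → Tr M s S K i → Zt M S T z → B4 M (S ⊓ nor K) K z₀ → z * z₀ ∈ cen K →
  (∃ t, F1 M T S K s i z t z ∨ F1 M T S K s i z t (i * z)) ∨
    ∃ K₂ t y z₂, F2 M T S K K₂ s i z t y z₀ z₂ ∧ (z₀ * z₂ = z ∨ z₀ * z₂ = i * z)

def JO0 : Prop := JF4.{u} → ∀ (G : Type u) [Group G] [Finite G] (M T S K : Subgroup G) (s : ℕ) (i z t : G),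
  Kit M s → F1 M T S K s i z t (i * z) → O0 M T S K (cj t K) s (i * z) i z t

def JO1c : Prop := ∀ (G : Type u) [Group G] [Finite G] (M T S K₁ K₂ : Subgroup G) (s : ℕ) (z₁ z₂ z t : G),
  Kit M s → O0 M T S K₁ K₂ s z₁ z₂ z t → IsDih K₁ (S ⊓ K₁) z₁ → IsDih K₂ (S ⊓ K₂) z₂ → OC M T S K₁ K₂ s z₁ z₂ z t

def JO1n : Prop := ∀ (G : Type u) [Group G] [Finite G] (M T S K₁ K₂ : Subgroup G) (s : ℕ) (z₁ z₂ z t : G),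
  Kit M s → O0 M T S K₁ K₂ s z₁ z₂ z t → (∀ d ∈ S ⊓ K₁, d * d = 1 → d ∈ cen K₂) →
  K₁ ≤ cen K₂ ∧ ¬ E9 K₁ ∧ ¬ E9 K₂

def JO1a : Prop := ∀ (G : Type u) [Group G] [Finite G] (M T S K₁ K₂ : Subgroup G) (s : ℕ) (z₁ z₂ z t : G),
  Kit M s → OC M T S K₁ K₂ s z₁ z₂ z t → K₁ ≤ cen K₂ → N4 S K₁ z₁ → N4 S K₂ z₂ → False

def JOb0 : Prop := ∀ (G : Type u) [Group G] [Finite G] (M T S K₁ K₂ D₁ D₁' D₂ D₂' : Subgroup G) (s : ℕ)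
  (z₁ z₂ z t α₁ α₂ : G), Kit M s → OC M T S K₁ K₂ s z₁ z₂ z t → M4 S K₁ z₁ D₁ D₁' α₁ → M4 S K₂ z₂ D₂ D₂' α₂ →
  (∃ d ∈ S ⊓ K₁, d * d = 1 ∧ d ∉ cen K₂) →
  ∃ W Y Y₁ Y₂ d₁ e₁ d₂ e₂ x₁ w₁ x₂ w₂ t' u, OB T S W Y Y₁ Y₂ z₁ d₁ e₁ z₂ d₂ e₂ x₁ w₁ x₂ w₂ t' u

def JObF : Prop := ∀ (G : Type u) [Group G] [Finite G] (T S W Y Y₁ Y₂ : Subgroup G)
  (z₁ d₁ e₁ z₂ d₂ e₂ x₁ w₁ x₂ w₂ t u : G), OB T S W Y Y₁ Y₂ z₁ d₁ e₁ z₂ d₂ e₂ x₁ w₁ x₂ w₂ t u →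
  ∃ v ω, OF T W z₁ d₁ e₁ z₂ d₂ e₂ x₁ w₂ v ω

def JOb8 : Prop := ∀ (G : Type u) [Group G] [Finite G] (T S W Y Y₁ Y₂ : Subgroup G)
  (z₁ d₁ e₁ z₂ d₂ e₂ x₁ w₁ x₂ w₂ t u v ω : G), OB T S W Y Y₁ Y₂ z₁ d₁ e₁ z₂ d₂ e₂ x₁ w₁ x₂ w₂ t u →
  OF T W z₁ d₁ e₁ z₂ d₂ e₂ x₁ w₂ v ω → Y ≤ W

def JOb4 : Prop := ∀ (G : Type u) [Group G] [Finite G] (T S W Y Y₁ Y₂ : Subgroup G)
  (z₁ d₁ e₁ z₂ d₂ e₂ x₁ w₁ x₂ w₂ t u v ω : G), OB T S W Y Y₁ Y₂ z₁ d₁ e₁ z₂ d₂ e₂ x₁ w₁ x₂ w₂ t u →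
  OF T W z₁ d₁ e₁ z₂ d₂ e₂ x₁ w₂ v ω → Y ≤ W → False

def JO2m : Prop := ∀ (G : Type u) [Group G] [Finite G] (M T S K D D' : Subgroup G) (s : ℕ) (i z t α : G),
  Kt M s → F1 M T S K s i z t z → M4 S K z D D' α → False

def JO2n : Prop := ∀ (G : Type u) [Group G] [Finite G] (M T S K : Subgroup G) (s : ℕ) (i z t : G),
  Kit M s → F1 M T S K s i z t z → N4 S K z → O2 M T S K s i z t

def JMXa : Prop := ∀ (G : Type u) [Group G] [Finite G] (M T S K : Subgroup G) (s : ℕ) (i z t d ρ : G),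
  Kit M s → O2 M T S K s i z t → d ∈ S ⊓ K → ρ ∈ S ⊓ K → d * d = 1 → ρ * ρ = z → d * ρ * d⁻¹ = ρ⁻¹ →
  32 < s ∧ ∃ e, EE d i z ρ e

def JMXb : Prop := JMXa.{u} → ∀ (G : Type u) [Group G] [Finite G] (M T S K : Subgroup G) (s : ℕ) (i z t : G),
  Kit M s → O2 M T S K s i z t → ∃ n σ d ρ e, MX T n σ d i z ρ e

def JMX2 : Prop := ∀ (G : Type u) [Group G] [Finite G] (T : Subgroup G) (n : ℕ) (σ d i z ρ e : G),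
  MX T n σ d i z ρ e → False

def JN4a : Prop := ∀ (G : Type u) [Group G] [Finite G] (M T S K₁ K₂ : Subgroup G) (s : ℕ) (i z t y z₁ z₂ : G),
  Kit M s → F2 M T S K₁ K₂ s i z t y z₁ z₂ → z₁ * z₂ = i * z → False

def JN4b : Prop := JEmb.{u} → ∀ (G : Type u) [Group G] [Finite G] (M T S K₁ K₂ : Subgroup G) (s : ℕ)
  (i z t y z₁ z₂ : G), Kt M s → (∀ S' K' i', Tr M s S' K' i' → ¬ S' ≤ nor K') →
  F2 M T S K₁ K₂ s i z t y z₁ z₂ → z₁ * z₂ = z → False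

/-- the main theorem of the tower -/
def Main : Prop := ∀ (G : Type u) [Group G] [Finite G] (T M : Subgroup G), Hy T M → SE G ∨ Four G

end H97.QU
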