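import Cfsg.Agent.H97.TEGlue
import Cfsg.Agent.H97.TEFin
import Cfsg.Agent.H28.TEP1
import Cfsg.Agent.H28.TESpec2
import Cfsg.Agent.H67.TeRA
import Cfsg.Agent.H29.TE1RQ
import Cfsg.Agent.H13.TEPC
import Cfsg.Agent.H23.TeFE
import Cfsg.Agent.H36.TE1BB
import Cfsg.Agent.H43.TEFL
import Cfsg.Agent.H41.TeKit
import Cfsg.Agent.H47.TEOdd
import Cfsg.Agent.H75.TeDih
import Cfsg.Agent.H36.TE2Red
import Cfsg.Agent.H96.TE2C1
import Cfsg.Agent.H13.TECPa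
import Cfsg.Agent.H85.Te2CPb
import Cfsg.Agent.H10.TeC3
import Cfsg.Agent.H31.TE2C4a
import Cfsg.Agent.H64.TeC4b
import Cfsg.Agent.H44.TEKP
import Cfsg.Agent.H74.TE2KX1
import Cfsg.Agent.H54.TEKX2
import Cfsg.Agent.H58.TESC

/-! Tower TE (S1308): chapter TE closed. -/

set_option autoImplicit false

namespace H97.TECh

universe u

theorem part51 : H51.TE.Part1.{u} := by
  have z4 := H67.TeZ4.jobZ4.{u}
  have up := H65.TeUP.jobUP.{u}
  have kt := H78.TEKT.jobKT.{u}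
  have kp := H62.TEKP.jobKP up kt
  have ar := H35.TeAR.jobAR kt
  have sw := H69.TESW.jobSW kt (H40.TEOD.jobOD kt (H92.TeHZ.jobHZ kt))
  have s0 := H9.TES0.jobS0 kt
  have eq := H55.TEEQ.jobEQ kt kp ar sw
  have sq := H84.TeSQ.jobSQ kt kp ar s0 eq
  have g1 := H77.TeG1.jobG1 kt kp
  have g2 := H95.TeG2.jobG2 kt kp g1
  have g3 := H19.TeG3.jobG3 kt kp g1 g2
  have b2 := H26.TE.jobB2 up kt kp g2 g3
  have on := H79.TeOn.jobOn kt kp ar sw s0 sq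
  have zc := H37.TeZC.jobZC kt kp sq g1 b2 on
  exact H28.TE.bridge H28.TE.part1 zc (H53.TE.jobCo kt kp ar sw) (H67.TeRA.jobRA kt kp g1 b2 zc)
    H29.TRQ.jobRQ (H13.TEPC.jobPC z4 up) H23.TeFE.jobFE H36.TE1BB.jobBB kt sq H43.TEFL.jobFL

theorem ch : H14.NF.ChTE.{u} :=
  H97.TEGlue.ch_of part51 H41.TeKit.job H36.TE2Red.job H96.TEC1.job
    (H31.TE2C4a.job H13.TECPa.job H85.Te2CPb.job (H10.TeC3.job H47.TEOdd.job H75.TeDih.job))
    (H64.TeC4b.job H47.TEOdd.job)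
    (H58.TESC.job (H74.TE2KX1.job (H44.TEKP.job H47.TEOdd.job H75.TeDih.job)) H54.TEKX2.job)
    H97.TEFin.job

end H97.TECh
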