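import Cfsg.Agent.H51.TESpec

/-! Tower TE (S1308): glue of part 2. -/

set_option autoImplicit false

namespace H97.TEGlue

open Cfsg Subgroup MulAction H14 H98 H1.Gold H31.S2 H14.GC H14.FE H14.NF H51.TE
open scoped commutatorElement

universe u

theorem dv_sq {G : Type u} [Group G] {Q E : Subgroup G} (t : TG Q E) {d : G} (h : Dv E d) :
    d * d = 1 := by
  obtain ⟨Q₁, E₁, p, hd⟩ := h.pt Q
  exact pt_el t p d hd

theorem cm3_cj {G : Type u} [Group G] {A B C : Subgroup G} (h : Cm3 A B C) (g : G) :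
    Cm3 (cj g A) (cj g B) (cj g C) := fun a ha b hb => by
  have := h _ (mem_cj.1 ha) _ (mem_cj.1 hb)
  rw [mem_cj]
  convert this using 1
  simp only [commutatorElement_def]; group

theorem fw_cj {G : Type u} [Group G] {A B C : Subgroup G} (h : Fw A B C) (g : G) :
    Fw (cj g A) (cj g B) (cj g C) := fun t ht h1 r hr => by
  obtain ⟨y, hy, ⟨n, hn⟩, k1, k2⟩ := h _ (mem_cj.1 ht)
    (fun e => h1 (by simpa [mul_assoc] using congrArg (fun x => g * x * g⁻¹) e)) _ (mem_cj.1 hr)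
  refine ⟨g * y * g⁻¹, ?_, ⟨n, ?_⟩, fun s hs => ?_, ?_⟩
  · rw [cen_cj, ← cj_inf]; exact conj_mem_cj hy
  · rw [conj_pow, hn, mul_one, mul_inv_cancel]
  · have := k1 _ (mem_cj.1 hs)
    rw [mem_cj]
    convert this using 1
    simp only [commutatorElement_def]; group
  · calc ⁅t, g * y * g⁻¹⁆ = g * ⁅g⁻¹ * t * g, y⁆ * g⁻¹ := by
          simp only [commutatorElement_def]; group
      _ = r := by rw [k2]; group

theorem ch_of (p1 : Part1.{u}) (kit : KIT.{u}) (red : RED.{u}) (c1 : C1.{u}) (c4a : C4a.{u})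
    (c4b : C4b.{u}) (sc : SC.{u}) (fin : FIN.{u}) : ChTE.{u} := by
  intro G _ _ K hG te
  obtain ⟨E, tg, out, ⟨Q₁, T, col⟩, tx, fu⟩ := p1 G K hG te
  have gx := kit G _ E tg tx te.nel
  obtain ⟨g₀, T₀, ne⟩ := te.ex
  refine ⟨E, tg, out, ?_⟩
  by_cases hp : P1 E
  · exfalso
    obtain ⟨e, he, ie⟩ := four_exists_inv tg.four
    have nk : T ≤ nor K := fun t ht => by
      have hN : nor K = nor (cen K) := ne.std.2.2.2
      rw [hN]
      exact pt_cen tg col.p1 (tg.le he) ie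
        (mem_centralizer_singleton_iff.2 (mem_centralizer_iff.1 (col.comm ht) e he).symm)
    have o := out Q₁ T col
    have h1 := fin G K T ne.std.1 nk (fun a ha b hb => El.comm (pt_el tg col.p2) ha hb)
      (sc G K E Q₁ T ⟨gx, col, nk, fun d hd => o d ⟨hd.1, mem_sup_left hd.2⟩, hp⟩)
    obtain ⟨t, ht, it⟩ := four_exists_inv (pt_four tg col.p2)
    exact o t ⟨pt_le tg col.p2 ht, h1 ht⟩ it
  · simp only [P1, not_forall] at hp
    obtain ⟨d, e, hd, he, P, hP, dP, eP, nc⟩ := hp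
    obtain ⟨x, hx, xP, k1, k2, k3⟩ := red G d e P (dv_sq tg hd) (dv_sq tg he) hP dP eP nc
    have hx' : Dv E x := by
      rcases hx with rfl | ⟨g, rfl⟩
      · exact hd
      · exact he.conj g
    obtain ⟨A₁, E₁, A₂, E₂, c⟩ := c1 G _ E gx x e hx' he P hP xP eP k1 k2 k3
    obtain ⟨Q₀, V, l1, l2, cm⟩ := c4a G _ E gx _ _ _ _ c
    have fw := c4b G _ E gx _ _ _ _ c Q₀ V l1 l2 cm
    obtain ⟨g, rfl, rfl⟩ := l1.p1
    have m1 := col_cj l1 g⁻¹
    have m2 := col_cj l2 g⁻¹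
    have m3 := cm3_cj cm g⁻¹
    have m4 := fw_cj fw g⁻¹
    rw [cj_inv_cj, cj_inv_cj] at m1 m2 m4
    rw [cj_inv_cj] at m3
    refine ⟨fu ⟨_, _, m1, m4⟩, _, _, _, _, m1, m2, m3, fun h => ?_⟩
    rw [cen_cj, cj_le_cj_iff] at h
    obtain ⟨r, hr, ir⟩ := four_exists_inv (pt_four tg c.p1)
    obtain ⟨a, ha, ia⟩ := four_exists_inv (pt_four tg c.p2)
    exact c.o2 a ha ia.1 (pt_cen tg c.p1 (pt_le tg c.p1 hr) ir
      (mem_centralizer_singleton_iff.2 (mem_centralizer_iff.1 (h ha) r hr).symm))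

end H97.TEGlue
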